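import Groth.Agent.Lib.AbsApprox.Model
import Mathlib.CategoryTheory.Category.Preorder
import Mathlib.CategoryTheory.Limits.IsLimit

/-!
# The system of models and absolute Noetherian approximation
-/

set_option autoImplicit false
set_option backward.isDefEq.respectTransparency false

universe u

open CategoryTheory CategoryTheory.Limits AlgebraicGeometry TopologicalSpace Opposite

namespace GrothLib.AbsApprox.Cov

variable {S : Scheme.{u}} {𝒲 : Cov S}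

section Trans

variable {B B' : 𝒲.Fam} (h : B ≤ B')

/-- The map of charts. -/
noncomputable def chMap (k : Fin 𝒲.n) : Ch B' k ⟶ Ch B k :=
  Spec.map (CommRingCat.ofHom (Subring.inclusion (h k)))

@[reassoc]
theorem pr_chMap (k : Fin 𝒲.n) : pr B' k ≫ chMap h k = pr B k := by
  show ((𝒲.W k).1.toSpecΓ ≫ Spec.map (inclHom (B' k))) ≫ chMap h k = _
  rw [Category.assoc, chMap, ← Spec.map_comp]
  rfl

theorem ad_chMap {l : Fin 𝒲.n} {Q : Scheme.{u}} {s : Q ⟶ S} {m : Q ⟶ Ch B' l} (ha : Ad B' l s m) :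
    Ad B l s (m ≫ chMap h l) := by
  obtain ⟨w, hw, hw'⟩ := ha
  exact ⟨w, hw, by rw [← hw', Category.assoc, pr_chMap]⟩

variable (hB : Adm 𝒲 B) (hB' : Adm 𝒲 B')

theorem chMap_preimage_V (k l : Fin 𝒲.n) : chMap h k ⁻¹ᵁ V hB k l = V hB' k l := by
  rw [V, V, Scheme.Hom.preimage_iSup]
  rfl

theorem trans_comm (k l : Fin 𝒲.n) :
    (V hB' k l).ι ≫ chMap h k ≫ ι hB k = tV hB' k l ≫ chMap h l ≫ ι hB l := by
  let y := IsOpenImmersion.lift (V hB k l).ι ((V hB' k l).ι ≫ chMap h k) (by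
    rw [Scheme.Opens.range_ι]
    rintro _ ⟨z, rfl⟩
    exact (chMap_preimage_V h hB hB' k l).ge z.2)
  have hy : y ≫ (V hB k l).ι = (V hB' k l).ι ≫ chMap h k := IsOpenImmersion.lift_fac _ _ _
  have he : y ≫ tV hB k l = tV hB' k l ≫ chMap h l := by
    refine ext_of_flat (pr B' k) (V hB' k l).ι ((ad_tV hB (pullback.fst (pr B' k) (V hB' k l).ι)
      (pullback.snd (pr B' k) (V hB' k l).ι ≫ y) ?_).unique (l := l) (m := _) ?_)
    · rw [Category.assoc, hy, ← pullback.condition_assoc, pr_chMap]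
    · rw [← Category.assoc _ (tV hB' k l)]
      exact ad_chMap h (ad_tV hB' _ _ pullback.condition.symm)
  rw [← Category.assoc, ← hy, Category.assoc, ← tV_ι, ← Category.assoc, he, Category.assoc]

/-- The transition morphism of models. -/
noncomputable def trans : model hB' ⟶ model hB :=
  descModel hB' (fun k => chMap h k ≫ ι hB k) (trans_comm h hB hB')

@[reassoc]
theorem ι_trans (k : Fin 𝒲.n) : ι hB' k ≫ trans h hB hB' = chMap h k ≫ ι hB k := ι_desc _ _ _ _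

theorem toModel_trans : toModel hB' ≫ trans h hB hB' = toModel hB :=
  Scheme.Cover.hom_ext (coverS (𝒲 := 𝒲)) _ _ fun k => by
    show (𝒲.W k.down).1.ι ≫ _ = (𝒲.W k.down).1.ι ≫ _
    rw [← Category.assoc, ι_toModel, ι_toModel, Category.assoc, ι_trans, pr_chMap_assoc]

theorem trans_preimage (l : Fin 𝒲.n) :
    trans h hB hB' ⁻¹ᵁ (ι hB l).opensRange = (ι hB' l).opensRange := by
  ext x
  obtain ⟨k, p, rfl⟩ := exists_ι_eq hB' x
  have h1 : ι hB' k p ∈ (ι hB' l).opensRange ↔ p ∈ V hB' k l := by rw [← ι_preimage_range hB' k l]; rfl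
  have h2 : ι hB' k p ∈ trans h hB hB' ⁻¹ᵁ (ι hB l).opensRange ↔ p ∈ V hB' k l := by
    rw [← chMap_preimage_V h hB hB' k l, ← ι_preimage_range hB k l]
    show trans h hB hB' (ι hB' k p) ∈ (ι hB l).opensRange ↔ ι hB k (chMap h k p) ∈ (ι hB l).opensRange
    rw [← Scheme.Hom.comp_apply, ι_trans, Scheme.Hom.comp_apply]
  exact h2.trans h1.symm

theorem isAffineHom_trans : IsAffineHom (trans h hB hB') :=
  isAffineHom_of_forall_exists_isAffineOpen _ fun x => by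
    obtain ⟨k, y, rfl⟩ := exists_ι_eq hB x
    refine ⟨(ι hB k).opensRange, ⟨y, rfl⟩, isAffineOpen_opensRange _, ?_⟩
    rw [trans_preimage]
    exact isAffineOpen_opensRange _

end Trans

variable (𝒲) in
/-- The index set of the system. -/
abbrev Idx : Type u := {B : 𝒲.Fam // Adm 𝒲 B}

theorem trans_self {B : 𝒲.Fam} (hB : Adm 𝒲 B) : trans le_rfl hB hB = 𝟙 _ :=
  hom_ext_model hB fun k => by
    rw [ι_trans, Category.comp_id, chMap]
    have : CommRingCat.ofHom (Subring.inclusion (le_refl (B k))) = 𝟙 (CommRingCat.of (B k)) := rfl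
    rw [this, Spec.map_id, Category.id_comp]

theorem trans_trans {B B' B'' : 𝒲.Fam} (h : B ≤ B') (h' : B' ≤ B'') (hB : Adm 𝒲 B) (hB' : Adm 𝒲 B')
    (hB'' : Adm 𝒲 B'') : trans h' hB' hB'' ≫ trans h hB hB' = trans (h.trans h') hB hB'' :=
  hom_ext_model hB'' fun k => by
    rw [ι_trans_assoc, ι_trans, ι_trans, ← Category.assoc]
    congr 1
    rw [chMap, chMap, chMap, ← Spec.map_comp]
    rfl

theorem exists_le_idx (C : 𝒲.Fam) (hC : ∀ k, Fg (C k)) {Q : 𝒲.Fam → Prop} (hQ : 𝒲.Large Q) :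
    ∃ B : 𝒲.Idx, C ≤ B.1 ∧ Q B.1 := by
  obtain ⟨B, h1, h2, h3⟩ := exists_adm hQ C hC
  exact ⟨⟨B, h2⟩, h1, h3⟩

instance : IsDirected 𝒲.Idx (· ≤ ·) :=
  ⟨fun a b => by
    obtain ⟨B, h, -⟩ := exists_le_idx (a.1 ⊔ b.1) (fun k => (a.2.fg k).sup (b.2.fg k))
      (Large.of_forall (Q := fun _ => True) fun _ => trivial)
    exact ⟨B, le_sup_left.trans h, le_sup_right.trans h⟩⟩

instance : Nonempty 𝒲.Idx := by
  obtain ⟨B, -, -⟩ := exists_le_idx (𝒲 := 𝒲) (fun _ => Subring.closure ∅)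
    (fun _ => fg_closure Set.finite_empty) (Large.of_forall (Q := fun _ => True) fun _ => trivial)
  exact ⟨B⟩

variable (𝒲) in
/-- The inverse system of models. -/
noncomputable def system : 𝒲.Idxᵒᵖ ⥤ Scheme.{u} where
  obj B := model B.unop.2
  map {a b} f := trans f.unop.le b.unop.2 a.unop.2
  map_id a := trans_self a.unop.2
  map_comp {a b c} f g := (trans_trans g.unop.le f.unop.le c.unop.2 b.unop.2 a.unop.2).symm

variable (𝒲) in
/-- The cone with vertex `S`. -/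
noncomputable def cone : Cone (system 𝒲) where
  pt := S
  π := { app := fun B => toModel B.unop.2
         naturality := fun a b f =>
           (Category.id_comp _).trans (toModel_trans f.unop.le b.unop.2 a.unop.2).symm }

theorem isAffineHom_system {a b : 𝒲.Idxᵒᵖ} (f : a ⟶ b) : IsAffineHom ((system 𝒲).map f) :=
  isAffineHom_trans f.unop.le b.unop.2 a.unop.2

theorem toSpecΓ_ext {X : Scheme.{u}} {R : CommRingCat.{u}} (a : X ⟶ Spec R) :
    a = X.toSpecΓ ≫ Spec.map ((Scheme.ΓSpecIso R).inv ≫ a.appTop) := by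
  rw [Spec.map_comp, ← Scheme.toSpecΓ_naturality_assoc, toSpecΓ_SpecMap_ΓSpecIso_inv, Category.comp_id]

theorem exists_mem (k : Fin 𝒲.n) (a : 𝒲.A k) (B₀ : 𝒲.Idx) : ∃ B : 𝒲.Idx, B₀ ≤ B ∧ a ∈ B.1 k := by
  obtain ⟨B, h, h'⟩ := exists_le_idx B₀.1 B₀.2.fg (large_mem k a)
  exact ⟨B, h, h'⟩

theorem hom_W_ext {Q : Scheme.{u}} {k : Fin 𝒲.n} {w w' : Q ⟶ (𝒲.W k).1.toScheme}
    (h : ∀ B : 𝒲.Idx, w ≫ pr B.1 k = w' ≫ pr B.1 k) : w = w' := by
  haveI : IsIso (𝒲.W k).1.toSpecΓ := (𝒲.W k).2.isoSpec_hom ▸ inferInstance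
  rw [← cancel_mono (𝒲.W k).1.toSpecΓ]
  refine ext_of_isAffine ?_
  ext x
  obtain ⟨x', rfl⟩ : ∃ x', (Scheme.ΓSpecIso (𝒲.A k)).inv x' = x :=
    ⟨(Scheme.ΓSpecIso (𝒲.A k)).hom x, by simp⟩
  obtain ⟨B⟩ : Nonempty 𝒲.Idx := inferInstance
  obtain ⟨B', -, hx⟩ := exists_mem k x' B
  have := congr(($(h B')).appTop ((Scheme.ΓSpecIso (CommRingCat.of (B'.1 k))).inv ⟨x', hx⟩))
  simp only [pr, qmap, ← Category.assoc, Scheme.Hom.comp_appTop] at this ⊢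
  have hn : (Scheme.ΓSpecIso (CommRingCat.of (B'.1 k))).inv ≫ (Spec.map (inclHom (B'.1 k))).appTop =
      inclHom (B'.1 k) ≫ (Scheme.ΓSpecIso (𝒲.A k)).inv := (Scheme.ΓSpecIso_inv_naturality _).symm
  have hx' : (Spec.map (inclHom (B'.1 k))).appTop
      ((Scheme.ΓSpecIso (CommRingCat.of (B'.1 k))).inv ⟨x', hx⟩) = (Scheme.ΓSpecIso (𝒲.A k)).inv x' :=
    congr($hn ⟨x', hx⟩)
  simp only [CommRingCat.comp_apply, hx'] at this
  simpa only [CommRingCat.comp_apply] using this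

theorem hom_ext_S {T : Scheme.{u}} {m m' : T ⟶ S}
    (h : ∀ B : 𝒲.Idx, m ≫ toModel B.2 = m' ≫ toModel B.2) : m = m' := by
  obtain ⟨B₀⟩ : Nonempty 𝒲.Idx := inferInstance
  let 𝒰 := T.openCoverOfIsOpenCover (fun k : ULift.{u} (Fin 𝒲.n) => m ⁻¹ᵁ (𝒲.W k.down).1) (by
    show (⨆ k : ULift.{u} (Fin 𝒲.n), m ⁻¹ᵁ (𝒲.W k.down).1) = ⊤
    refine top_unique fun x _ => ?_
    have hx : m x ∈ ⨆ k, (𝒲.W k).1 := by rw [𝒲.iSup_W]; trivial
    obtain ⟨k, hk⟩ := Opens.mem_iSup.1 hx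
    exact Opens.mem_iSup.2 ⟨⟨k⟩, hk⟩)
  refine Scheme.Cover.hom_ext 𝒰 _ _ fun k => ?_
  let j := (m ⁻¹ᵁ (𝒲.W k.down).1).ι
  have hr : ∀ n : T ⟶ S, n ≫ toModel B₀.2 = m ≫ toModel B₀.2 →
      Set.range (j ≫ n) ⊆ Set.range (𝒲.W k.down).1.ι := by
    rintro n hn _ ⟨z, rfl⟩
    rw [Scheme.Opens.range_ι]
    refine (toModel_preimage B₀.2 k.down).le ?_
    show (n ≫ toModel B₀.2) (j z) ∈ (ι B₀.2 k.down).opensRange
    rw [hn]
    have hz : j z ∈ m ⁻¹ᵁ (toModel B₀.2 ⁻¹ᵁ (ι B₀.2 k.down).opensRange) := by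
      rw [toModel_preimage]; exact z.2
    exact hz
  show j ≫ m = j ≫ m'
  rw [← IsOpenImmersion.lift_fac _ _ (hr m rfl), ← IsOpenImmersion.lift_fac _ _ (hr m' (h B₀).symm)]
  congr 1
  refine hom_W_ext fun B => ?_
  rw [← cancel_mono (ι B.2 k.down), Category.assoc, Category.assoc, ← ι_toModel,
    IsOpenImmersion.lift_fac_assoc, IsOpenImmersion.lift_fac_assoc, Category.assoc, Category.assoc, h B]

theorem exists_hom_W {k : Fin 𝒲.n} {Q : Scheme.{u}} (a : ∀ B : 𝒲.Idx, Q ⟶ Ch B.1 k)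
    (ha : ∀ (B B' : 𝒲.Idx) (h : B ≤ B'), a B' ≫ chMap h k = a B) :
    ∃ w : Q ⟶ (𝒲.W k).1.toScheme, ∀ B : 𝒲.Idx, w ≫ pr B.1 k = a B := by
  classical
  haveI : IsIso (𝒲.W k).1.toSpecΓ := (𝒲.W k).2.isoSpec_hom ▸ inferInstance
  let val : ∀ B : 𝒲.Idx, B.1 k →+* Γ(Q, ⊤) := fun B =>
    ((Scheme.ΓSpecIso (CommRingCat.of (B.1 k))).inv ≫ (a B).appTop).hom
  have hle : ∀ (B B' : 𝒲.Idx) (h : B ≤ B') (x : B.1 k), val B' (Subring.inclusion (h k) x) = val B x := by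
    intro B B' h x
    have e : CommRingCat.ofHom (Subring.inclusion (h k)) ≫ (Scheme.ΓSpecIso _).inv ≫ (a B').appTop =
        (Scheme.ΓSpecIso _).inv ≫ (a B).appTop := by
      rw [← ha B B' h, Scheme.Hom.comp_appTop, Scheme.ΓSpecIso_inv_naturality_assoc]
      rfl
    exact congr($e x)
  obtain ⟨B₀⟩ : Nonempty 𝒲.Idx := inferInstance
  choose Bx hBx hx using fun x : 𝒲.A k => exists_mem k x B₀
  let φ₀ : 𝒲.A k → Γ(Q, ⊤) := fun x => val (Bx x) ⟨x, hx x⟩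
  have hφ : ∀ (B : 𝒲.Idx) (x : B.1 k), φ₀ x.1 = val B x := fun B x => by
    obtain ⟨B', h1, h2⟩ := exists_ge_ge (Bx x.1) B
    show val (Bx x.1) ⟨x.1, hx x.1⟩ = _
    rw [← hle _ B' h1, ← hle _ B' h2]
    rfl
  have hhom : ∀ (x y : 𝒲.A k), φ₀ (x + y) = φ₀ x + φ₀ y ∧ φ₀ (x * y) = φ₀ x * φ₀ y := fun x y => by
    obtain ⟨B, h1, h2⟩ := exists_ge_ge (Bx x) (Bx y)
    have e1 := hφ B ⟨x, h1 k (hx x)⟩
    have e2 := hφ B ⟨y, h2 k (hx y)⟩
    exact ⟨by rw [e1, e2, ← map_add, ← hφ B]; rfl, by rw [e1, e2, ← map_mul, ← hφ B]; rfl⟩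
  let φ : 𝒲.A k →+* Γ(Q, ⊤) :=
    { toFun := φ₀
      map_one' := (hφ B₀ 1).trans (map_one _)
      map_zero' := (hφ B₀ 0).trans (map_zero _)
      map_add' := fun x y => (hhom x y).1
      map_mul' := fun x y => (hhom x y).2 }
  refine ⟨Q.toSpecΓ ≫ Spec.map (CommRingCat.ofHom φ) ≫ inv (𝒲.W k).1.toSpecΓ, fun B => ?_⟩
  rw [Category.assoc, Category.assoc]
  show Q.toSpecΓ ≫ Spec.map _ ≫ inv _ ≫ (𝒲.W k).1.toSpecΓ ≫ Spec.map (inclHom (B.1 k)) = _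
  rw [IsIso.inv_hom_id_assoc, ← Spec.map_comp]
  conv_rhs => rw [toSpecΓ_ext (a B)]
  congr 2
  ext x
  exact hφ B x

theorem exists_lift_S (s : Cone (system 𝒲)) :
    ∃ m : s.pt ⟶ S, ∀ B : 𝒲.Idx, m ≫ toModel B.2 = s.π.app (op B) := by
  obtain ⟨B₀⟩ : Nonempty 𝒲.Idx := inferInstance
  have hs : ∀ (B B' : 𝒲.Idx) (h : B ≤ B'), s.π.app (op B') ≫ trans h B.2 B'.2 = s.π.app (op B) :=
    fun B B' h => s.w (homOfLE h).op
  have hpre : ∀ (B : 𝒲.Idx) (k : Fin 𝒲.n),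
      s.π.app (op B) ⁻¹ᵁ (ι B.2 k).opensRange = s.π.app (op B₀) ⁻¹ᵁ (ι B₀.2 k).opensRange := by
    intro B k
    obtain ⟨B', h1, h2⟩ := exists_ge_ge B B₀
    rw [← hs B B' h1, ← hs B₀ B' h2, Scheme.Hom.comp_preimage, Scheme.Hom.comp_preimage,
      trans_preimage, trans_preimage]
  let U : ULift.{u} (Fin 𝒲.n) → s.pt.Opens := fun k => s.π.app (op B₀) ⁻¹ᵁ (ι B₀.2 k.down).opensRange
  let 𝒰 := s.pt.openCoverOfIsOpenCover U (by
    show (⨆ k, U k) = ⊤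
    refine top_unique fun x _ => ?_
    obtain ⟨k, y, hy⟩ := exists_ι_eq B₀.2 (s.π.app (op B₀) x)
    exact Opens.mem_iSup.2 ⟨⟨k⟩, ⟨y, hy⟩⟩)
  have hloc : ∀ k : ULift.{u} (Fin 𝒲.n), ∃ w : (U k).toScheme ⟶ (𝒲.W k.down).1.toScheme,
      ∀ B : 𝒲.Idx, w ≫ pr B.1 k.down ≫ ι B.2 k.down = (U k).ι ≫ s.π.app (op B) := by
    intro k
    let a : ∀ B : 𝒲.Idx, (U k).toScheme ⟶ Ch B.1 k.down := fun B =>
      IsOpenImmersion.lift (ι B.2 k.down) ((U k).ι ≫ s.π.app (op B)) (by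
        rintro _ ⟨z, rfl⟩
        exact ((hpre B k.down).ge z.2))
    have hfac : ∀ B, a B ≫ ι B.2 k.down = (U k).ι ≫ s.π.app (op B) := fun B => IsOpenImmersion.lift_fac _ _ _
    obtain ⟨w, hw⟩ := exists_hom_W a fun B B' h => by
      rw [← cancel_mono (ι B.2 k.down), Category.assoc, ← ι_trans h B.2 B'.2, ← Category.assoc, hfac, hfac,
        Category.assoc, hs B B' h]
    exact ⟨w, fun B => by rw [← Category.assoc, hw, hfac]⟩
  choose w hw using hloc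
  have hc : ∀ k (B : 𝒲.Idx), (w k ≫ (𝒲.W k.down).1.ι) ≫ toModel B.2 = (U k).ι ≫ s.π.app (op B) :=
    fun k B => by rw [Category.assoc, ι_toModel, hw]
  refine ⟨𝒰.glueMorphisms (fun k => w k ≫ (𝒲.W k.down).1.ι) fun k l => hom_ext_S (𝒲 := 𝒲) fun B => ?_, fun B => ?_⟩
  · calc (pullback.fst (𝒰.f k) (𝒰.f l) ≫ w k ≫ (𝒲.W k.down).1.ι) ≫ toModel B.2
        = pullback.fst (𝒰.f k) (𝒰.f l) ≫ 𝒰.f k ≫ s.π.app (op B) :=
          (Category.assoc _ _ _).trans (congrArg (pullback.fst (𝒰.f k) (𝒰.f l) ≫ ·) (hc k B))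
      _ = pullback.snd (𝒰.f k) (𝒰.f l) ≫ 𝒰.f l ≫ s.π.app (op B) := pullback.condition_assoc _
      _ = _ := ((Category.assoc _ _ _).trans (congrArg (pullback.snd (𝒰.f k) (𝒰.f l) ≫ ·) (hc l B))).symm
  · refine Scheme.Cover.hom_ext 𝒰 _ _ fun k => ?_
    rw [← Category.assoc, Scheme.Cover.ι_glueMorphisms]
    exact hc k B

variable (𝒲) in
/-- `S` is the limit of its models. -/
noncomputable def isLimitCone : IsLimit (cone 𝒲) where
  lift s := (exists_lift_S s).choose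
  fac s j := (exists_lift_S s).choose_spec j.unop
  uniq s m hm := hom_ext_S fun B => (hm (op B)).trans ((exists_lift_S s).choose_spec B).symm

end GrothLib.AbsApprox.Cov
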