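import Groth.Agent.Lib.AbsApprox.ClosedProps
import Groth.Agent.Lib.LimDesc.Basic
import Groth.Agent.Lib.Chow.Projective
import Groth.Agent.Lib.Chow.Main

/-!
# A proper scheme is a limit of proper schemes of finite presentation
-/

set_option autoImplicit false
set_option backward.isDefEq.respectTransparency false
set_option linter.style.haveILetI false

universe u

open CategoryTheory CategoryTheory.Limits AlgebraicGeometry TopologicalSpace Opposite

namespace GrothLib.AbsApprox

variable {J : Type u} [SmallCategory J] [IsCofiltered J] (F : J ⥤ Scheme.{u}) (cF : Cone F)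
  (hF : IsLimit cF) {S : Scheme.{u}} [CompactSpace S] [QuasiSeparatedSpace S]
  (t : F ⟶ (Functor.const J).obj S)
  [∀ (i j : J) (f : i ⟶ j), IsClosedImmersion (F.map f)]
  [∀ i, CompactSpace (F.obj i)] [∀ i, QuasiSeparatedSpace (F.obj i)]
  [∀ i, LocallyOfFiniteType (t.app i : F.obj i ⟶ S)]
  [∀ i, IsClosedImmersion (cF.π.app i)]

include hF

/-- Properness over the base holds at small stages of a closed system. -/
theorem eventually_isProper (i₀ : J) [IsProper (cF.π.app i₀ ≫ t.app i₀)] :
    ∃ k : J, ∀ (i : J) (_ : i ⟶ k), IsProper (t.app i : F.obj i ⟶ S) := by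
  haveI : ∀ (i j : J) (f : i ⟶ j), IsAffineHom (F.map f) := fun i j f => inferInstance
  obtain ⟨k₁, hk₁⟩ := GrothLib.LimDesc.eventually_isSeparated F hF t i₀
  let tk : F.obj k₁ ⟶ S := t.app k₁
  haveI : IsSeparated tk := hk₁ k₁ (𝟙 k₁)
  haveI : LocallyOfFiniteType tk := ‹∀ i, LocallyOfFiniteType (t.app i : F.obj i ⟶ S)› k₁
  haveI : QuasiCompact tk := quasiCompact_of_compactSpace tk
  obtain ⟨M, X', π, i, hi, hib, hπ, hπs⟩ := GrothLib.Chow.chow tk
  haveI := hi; haveI := hπ; haveI := hπs
  haveI : IsAffineHom (cF.π.app k₁) := isAffineHom_π_app F cF hF k₁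
  let qP := pullback.fst π (cF.π.app k₁)
  have hP : IsPullback qP (pullback.snd π (cF.π.app k₁)) π (cF.π.app k₁) := IsPullback.of_hasPullback _ _
  let G := LimDesc.diag F k₁ π
  let cG := LimDesc.cone F k₁ π hP
  haveI : ∀ (j l : Over k₁) (φ : j ⟶ l), IsClosedImmersion (G.map φ) := fun j l φ =>
    MorphismProperty.of_isPullback (P := @IsClosedImmersion) (LimDesc.isPullback_map F k₁ π φ).flip inferInstance
  haveI : ∀ (j l : Over k₁) (φ : j ⟶ l), IsAffineHom (G.map φ) := fun j l φ => inferInstance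
  haveI : ∀ j, CompactSpace ↥(G.obj j) := fun j => by
    haveI : QuasiCompact (pullback.snd π (F.map j.hom)) := MorphismProperty.pullback_snd _ _ inferInstance
    exact QuasiCompact.compactSpace_of_compactSpace (pullback.snd π (F.map j.hom))
  haveI : ∀ j, QuasiSeparatedSpace ↥(G.obj j) := fun j => by
    haveI : QuasiSeparated (pullback.snd π (F.map j.hom)) := MorphismProperty.pullback_snd _ _ inferInstance
    exact quasiSeparatedSpace_of_quasiSeparated (pullback.snd π (F.map j.hom))
  let P := CohB1.ProjSpaceOver M S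
  let tB := CohB1.ProjSpaceOver.toBase M S
  haveI : IsProper tB := GrothLib.Chow.isProper_toBase M S
  haveI : CompactSpace P := QuasiCompact.compactSpace_of_compactSpace tB
  haveI : QuasiSeparatedSpace P := quasiSeparatedSpace_of_quasiSeparated tB
  let tG : G ⟶ (Functor.const (Over k₁)).obj P :=
    { app := fun j => pullback.fst π (F.map j.hom) ≫ i
      naturality := fun j l φ => by
        rw [← Category.assoc, LimDesc.map_fst F k₁ π φ]
        exact (Category.comp_id _).symm }
  haveI : ∀ j, LocallyOfFiniteType (tG.app j : G.obj j ⟶ P) := fun j => by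
    haveI : IsAffineHom (F.map j.hom) := inferInstance
    haveI : LocallyOfFiniteType (pullback.fst π (F.map j.hom)) := MorphismProperty.pullback_fst _ _ inferInstance
    show LocallyOfFiniteType (pullback.fst π (F.map j.hom) ≫ i)
    infer_instance
  let j₀ : Over k₁ := Over.mk (𝟙 k₁)
  haveI : IsClosedImmersion (cG.π.app j₀ ≫ tG.app j₀) := by
    have e : cG.π.app j₀ ≫ tG.app j₀ = qP ≫ i := by
      show cG.π.app j₀ ≫ pullback.fst π (F.map j₀.hom) ≫ i = qP ≫ i
      exact (Category.assoc _ _ _).symm.trans (congrArg (· ≫ i) (LimDesc.π_fst F k₁ π hP j₀))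
    rw [e]
    obtain ⟨l, f₁, f₂, -⟩ := IsCofilteredOrEmpty.cone_objs k₁ i₀
    have hw : cF.π.app k₁ ≫ tk = cF.π.app i₀ ≫ t.app i₀ := by
      rw [← cF.w f₁, ← cF.w f₂, Category.assoc, Category.assoc]
      exact congrArg _ ((GrothLib.LimDesc.map_structure F t f₁).trans (GrothLib.LimDesc.map_structure F t f₂).symm)
    have hprop : IsProper ((qP ≫ i) ≫ tB) := by
      have e2 : (qP ≫ i) ≫ tB = pullback.snd π (cF.π.app k₁) ≫ cF.π.app i₀ ≫ t.app i₀ := by
        rw [Category.assoc, hib, ← hw, ← pullback.condition_assoc]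
      rw [e2]
      haveI : IsProper (pullback.snd π (cF.π.app k₁)) := MorphismProperty.pullback_snd _ _ inferInstance
      infer_instance
    haveI : IsClosedImmersion qP := MorphismProperty.pullback_fst _ _ inferInstance
    haveI : IsImmersion (qP ≫ i) := inferInstance
    haveI : IsProper (qP ≫ i) := IsProper.of_comp (qP ≫ i) tB
    exact GrothLib.Chow.isClosedImmersion_of_isImmersion_of_isProper _
  obtain ⟨l, hl⟩ := GrothLib.LimDesc.eventually_isClosedImmersion G (LimDesc.isLimitCone F k₁ π hP hF) tG j₀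
  refine ⟨l.left, fun j g => ?_⟩
  let j' : Over k₁ := Over.mk (g ≫ l.hom)
  haveI : IsClosedImmersion (pullback.fst π (F.map j'.hom) ≫ i) := hl j' (Over.homMk g rfl)
  haveI : IsSeparated (t.app j : F.obj j ⟶ S) := hk₁ j (g ≫ l.hom)
  let πj := pullback.snd π (F.map j'.hom)
  haveI : Surjective πj := MorphismProperty.pullback_snd _ _ hπs
  have hc : (pullback.fst π (F.map j'.hom) ≫ i) ≫ tB = πj ≫ (t.app j : F.obj j ⟶ S) := by
    rw [Category.assoc, hib, pullback.condition_assoc]
    exact congrArg _ (GrothLib.LimDesc.map_structure F t j'.hom)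
  haveI : IsProper (πj ≫ (t.app j : F.obj j ⟶ S)) := hc ▸ inferInstance
  haveI : QuasiCompact (t.app j : F.obj j ⟶ S) := quasiCompact_of_compactSpace (X := F.obj j) (Y := S) (t.app j)
  haveI : UniversallyClosed (t.app j : F.obj j ⟶ S) := UniversallyClosed.of_comp_surjective πj _
  exact {}

omit hF in
/-- A proper scheme over a qcqs base is a limit of proper schemes of finite presentation along
closed immersions. -/
theorem exists_proper_system {X S : Scheme.{u}} (f : X ⟶ S) [IsProper f] [CompactSpace S]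
    [QuasiSeparatedSpace S] :
    ∃ (I : Type u) (_ : Preorder I) (_ : IsDirected I (fun a b => a ≤ b)) (_ : Nonempty I)
      (D : Iᵒᵖ ⥤ Over S) (π : (Functor.const Iᵒᵖ).obj (Over.mk f) ⟶ D)
      (_ : IsLimit (Cone.mk (Over.mk f) π)),
      (∀ i, IsProper (D.obj i).hom ∧ LocallyOfFinitePresentation (D.obj i).hom) ∧
      (∀ (i j : Iᵒᵖ) (a : i ⟶ j), IsClosedImmersion (D.map a).left) ∧
      ∀ i, IsClosedImmersion (π.app i).left := by
  haveI : CompactSpace X := QuasiCompact.compactSpace_of_compactSpace f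
  haveI : QuasiSeparatedSpace X := quasiSeparatedSpace_of_quasiSeparated f
  obtain ⟨I, _, _, _, D, π, hl, h1, h2, h3⟩ := exists_closed_system f
  haveI : ∀ (i j : Iᵒᵖ) (a : i ⟶ j), IsClosedImmersion ((D ⋙ Over.forget S).map a) := h2
  haveI : ∀ i, CompactSpace ↥((D ⋙ Over.forget S).obj i) := fun i => (h1 i).2.2.2.1
  haveI : ∀ i, QuasiSeparatedSpace ↥((D ⋙ Over.forget S).obj i) := fun i => (h1 i).2.2.2.2
  haveI : ∀ i, LocallyOfFiniteType ((overHom D).app i : (D ⋙ Over.forget S).obj i ⟶ S) :=
    fun i => haveI := (h1 i).1; (inferInstance : LocallyOfFiniteType (D.obj i).hom)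
  have hl' := isLimitOfPreserves (Over.forget S) hl
  haveI : ∀ i, IsClosedImmersion (((Over.forget S).mapCone (Cone.mk (Over.mk f) π)).π.app i) := h3
  obtain ⟨i₀⟩ : Nonempty Iᵒᵖ := inferInstance
  haveI : IsProper (((Over.forget S).mapCone (Cone.mk (Over.mk f) π)).π.app i₀ ≫ (overHom D).app i₀) := by
    show IsProper ((π.app i₀).left ≫ (D.obj i₀).hom)
    rw [Over.w (π.app i₀)]
    exact ‹IsProper f›
  obtain ⟨k, hk⟩ := eventually_isProper (D ⋙ Over.forget S) _ hl' (overHom D) i₀
  obtain ⟨I', _, _, _, ρ, ⟨hρ⟩, hle⟩ := exists_tail D _ hl k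
  exact ⟨I', inferInstance, inferInstance, inferInstance, ρ ⋙ D, Functor.whiskerLeft ρ π, hρ,
    fun i => ⟨hk (ρ.obj i) (hle i).some, (h1 (ρ.obj i)).1⟩, fun i j a => h2 _ _ (ρ.map a), fun i => h3 (ρ.obj i)⟩

end GrothLib.AbsApprox
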