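import Groth.Agent.Lib.AbsApprox.Cover
import Mathlib.Order.Filter.AtTopBot.Finite

/-!
# Admissible families are cofinal
-/

set_option autoImplicit false
set_option backward.isDefEq.respectTransparency false

universe u

open CategoryTheory AlgebraicGeometry TopologicalSpace Opposite Filter

namespace GrothLib.AbsApprox.Cov

variable {S : Scheme.{u}} {𝒲 : Cov S}

/-- The open `D ⊓ D'` inside `W i`. -/
theorem le_inf_left_W {i j k : Fin 𝒲.n} {D D' : S.Opens} (hD : D ∈ 𝒲.P i j) (_hD' : D' ∈ 𝒲.P i k) :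
    D ⊓ D' ≤ (𝒲.W i).1 := inf_le_left.trans (le_left hD)

theorem basicOpen_phi_mul {i j k : Fin 𝒲.n} {D D' : S.Opens} (hD : D ∈ 𝒲.P i j) (hD' : D' ∈ 𝒲.P i k) :
    S.basicOpen (𝒲.phi i D * 𝒲.phi i D') = D ⊓ D' := by
  rw [Scheme.basicOpen_mul, basicOpen_phi hD, basicOpen_phi hD']

theorem le_inf_mid {i j : Fin 𝒲.n} {D D' : S.Opens} (hD : D ∈ 𝒲.P i j) : D ⊓ D' ≤ (𝒲.W j).1 :=
  inf_le_left.trans (le_right hD)

/-- An open contained in `W j ⊓ W k` is covered by the pieces. -/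
theorem iSup_basicOpen_pieces {j k : Fin 𝒲.n} {E : S.Opens} (hj : E ≤ (𝒲.W j).1)
    (hk : E ≤ (𝒲.W k).1) :
    ⨆ t : {t // t ∈ 𝒲.P j k}, S.basicOpen (rs hj (𝒲.phi j t.1)) = E := by
  refine le_antisymm (iSup_le fun t => by rw [basicOpen_rs]; exact inf_le_left) fun x hx => ?_
  have h2 : x ∈ (𝒲.P j k).sup id := (𝒲.cover j k).ge ⟨hj hx, hk hx⟩
  have e : (𝒲.P j k).sup id = ⨆ t : {t // t ∈ 𝒲.P j k}, t.1 := by
    rw [Finset.sup_eq_iSup, iSup_subtype']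
    rfl
  rw [e, Opens.mem_iSup] at h2
  obtain ⟨t, ht⟩ := h2
  refine Opens.mem_iSup.2 ⟨t, ?_⟩
  rw [basicOpen_rs, basicOpen_phi t.2]
  exact ⟨hx, ht⟩

theorem exists_sum_eq_one {ι : Type*} [Fintype ι] {E : S.Opens} (hE : IsAffineOpen E)
    (u : ι → Γ(S, E)) (h : ⨆ i, S.basicOpen (u i) = E) : ∃ c : ι → Γ(S, E), ∑ i, c i * u i = 1 := by
  have h1 : (1 : Γ(S, E)) ∈ Ideal.span (Set.range u) := by
    rw [← Ideal.eq_top_iff_one, ← hE.iSup_basicOpen_eq_self_iff]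
    refine Eq.trans ?_ h
    refine le_antisymm (iSup_le fun x => ?_) (iSup_le fun i => ?_)
    · obtain ⟨_, i, rfl⟩ := x
      exact le_iSup (fun i => S.basicOpen (u i)) i
    · exact le_iSup (fun x : Set.range u => S.basicOpen x.1) ⟨_, i, rfl⟩
  obtain ⟨c, hc⟩ := Ideal.mem_span_range_iff_exists_fun.1 h1
  exact ⟨c, hc⟩

variable (𝒲) in
/-- The witnesses that the double overlaps glue. -/
def Wit (B : 𝒲.Fam) : Prop :=
  ∀ (i j k : Fin 𝒲.n) (D D' : S.Opens) (hD : D ∈ 𝒲.P i j) (hD' : D' ∈ 𝒲.P i k),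
    ∃ c : {t // t ∈ 𝒲.P j k} → Γ(S, D ⊓ D'),
      (∀ t, c t ∈ Loc (rs (le_inf_left_W hD hD')) (B i) (𝒲.phi i D * 𝒲.phi i D')) ∧
      ∑ t, c t * rs (le_inf_mid hD) (𝒲.phi j t.1) = 1

theorem large_wit : 𝒲.Large (Wit 𝒲) := by
  suffices h : ∀ x : (Σ i : Fin 𝒲.n, Σ j : Fin 𝒲.n, Σ k : Fin 𝒲.n,
      {D // D ∈ 𝒲.P i j} × {D // D ∈ 𝒲.P i k}), 𝒲.Large fun B =>
      ∃ c : {t // t ∈ 𝒲.P x.2.1 x.2.2.1} → Γ(S, x.2.2.2.1.1 ⊓ x.2.2.2.2.1),
      (∀ t, c t ∈ Loc (rs (le_inf_left_W x.2.2.2.1.2 x.2.2.2.2.2)) (B x.1)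
        (𝒲.phi x.1 x.2.2.2.1.1 * 𝒲.phi x.1 x.2.2.2.2.1)) ∧
      ∑ t, c t * rs (le_inf_mid x.2.2.2.1.2) (𝒲.phi x.2.1 t.1) = 1 from
    (Large.all h).mono fun B hB i j k D D' hD hD' => hB ⟨i, j, k, ⟨D, hD⟩, ⟨D', hD'⟩⟩
  rintro ⟨i, j, k, ⟨D, hD⟩, ⟨D', hD'⟩⟩
  have hE : IsAffineOpen (D ⊓ D') := basicOpen_phi_mul hD hD' ▸ (𝒲.W i).2.basicOpen _
  obtain ⟨c, hc⟩ := exists_sum_eq_one hE (fun t : {t // t ∈ 𝒲.P j k} => rs (le_inf_mid hD) (𝒲.phi j t.1))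
    (iSup_basicOpen_pieces (le_inf_mid hD) (inf_le_right.trans (le_right hD')))
  have hu : IsUnit (rs (le_inf_left_W hD hD') (𝒲.phi i D * 𝒲.phi i D')) :=
    isUnit_rs _ _ (basicOpen_phi_mul hD hD').ge
  have hl := isLocalization_rs (𝒲.W i).2 (le_inf_left_W hD hD') _ (basicOpen_phi_mul hD hD').symm
  have key : ∀ t, 𝒲.Large fun B =>
      c t ∈ Loc (rs (le_inf_left_W hD hD')) (B i) (𝒲.phi i D * 𝒲.phi i D') := fun t => by
    obtain ⟨N, a, e⟩ := exists_pow_mul hu (z := c t) hl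
    exact (large_mem i a).mono fun B hB => mem_loc_of_mul_pow_eq hu hB e
  exact (Large.all key).mono fun B hB => ⟨c, hB, hc⟩

variable (𝒲) in
/-- An admissible family: finitely generated, with agreeing localizations. -/
structure Adm (B : 𝒲.Fam) : Prop where
  fg : ∀ k, Fg (B k)
  phi_mem : ∀ k l, ∀ D ∈ 𝒲.P k l, 𝒲.phi k D ∈ B k
  compat : ∀ k l D (hD : D ∈ 𝒲.P k l), R B k D (le_left hD) ≤ R B l D (le_right hD)
  wit : Wit 𝒲 B

theorem Adm.R_eq {B : 𝒲.Fam} (h : Adm 𝒲 B) {k l : Fin 𝒲.n} {D : S.Opens} (hD : D ∈ 𝒲.P k l) :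
    R B k D (le_left hD) = R B l D (le_right hD) :=
  le_antisymm (h.compat k l D hD) (h.compat l k D (mem_symm hD))

/-! ### The inductive step -/

variable (p : Fin 𝒲.n) {k k' : Fin 𝒲.n}

/-- For `D'` a piece in `W k' ⊓ W p`, the localization of `R k' D'` at the equation of `D` on `W p`. -/
noncomputable abbrev Q (B : 𝒲.Fam) {D' : S.Opens} (hD' : D' ∈ 𝒲.P k' p) (D : S.Opens) :
    Subring Γ(S, D' ⊓ D) :=
  Loc (rs (inf_le_left : D' ⊓ D ≤ D')) (R B k' D' (le_left hD')) (rs (le_right hD') (𝒲.phi p D))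

theorem large_mem_Q {D D' : S.Opens} (hD : D ∈ 𝒲.P k p) (hD' : D' ∈ 𝒲.P k' p) (z : Γ(S, D' ⊓ D)) :
    𝒲.Large fun B => z ∈ Q p B hD' D := by
  have hb : S.basicOpen (rs (le_right hD') (𝒲.phi p D)) = D' ⊓ D := by
    rw [basicOpen_rs, basicOpen_phi (mem_symm hD)]
  have hu : IsUnit (rs (inf_le_left : D' ⊓ D ≤ D') (rs (le_right hD') (𝒲.phi p D))) :=
    isUnit_rs _ _ hb.ge
  obtain ⟨M, y, e⟩ := exists_pow_mul hu (z := z) (isLocalization_rs (isAffineOpen_piece hD') _ _ hb.symm)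
  exact (large_mem_R hD' y).mono fun B hB => mem_loc_of_mul_pow_eq hu hB e

/-- The finitely many conditions used by the inductive step. -/
def StepCond (B : 𝒲.Fam) : Prop :=
  (∀ k D (hD : D ∈ 𝒲.P k p), Ring.inverse (rs (le_right hD) (𝒲.phi p D)) ∈ R B k D (le_left hD) ∧
      rs (le_right hD) (𝒲.phi p D) ∈ R B k D (le_left hD)) ∧
  (∀ k' D' (hD' : D' ∈ 𝒲.P k' p) k D (_ : D ∈ 𝒲.P k p),
      rs (le_right hD') (𝒲.phi p D) ∈ R B k' D' (le_left hD')) ∧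
  (∀ k k' D D' (hD : D ∈ 𝒲.P k p) (hD' : D' ∈ 𝒲.P k' p),
    rs (inf_le_right : D' ⊓ D ≤ D) (Ring.inverse (rs (le_left hD) (𝒲.phi k D))) ∈ Q p B hD' D ∧
    ∃ c : {t // t ∈ 𝒲.P k' k} → Γ(S, D' ⊓ D), (∀ t, c t ∈ Q p B hD' D) ∧
      ∑ t, c t * rs (inf_le_left.trans (le_left hD')) (𝒲.phi k' t.1) = 1)

theorem large_stepCond : 𝒲.Large (StepCond p) := by
  refine Large.and ?_ (Large.and ?_ ?_)
  · exact (Large.all fun x : (Σ k, {D // D ∈ 𝒲.P k p}) =>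
      (large_mem_R x.2.2 (Ring.inverse (rs (le_right x.2.2) (𝒲.phi p x.2.1)))).and
      (large_mem_R x.2.2 (rs (le_right x.2.2) (𝒲.phi p x.2.1)))).mono
        fun B hB k D hD => hB ⟨k, D, hD⟩
  · exact (Large.all fun x : (Σ k', {D' // D' ∈ 𝒲.P k' p}) => Large.all fun y : (Σ k, {D // D ∈ 𝒲.P k p}) =>
      large_mem_R x.2.2 (rs (le_right x.2.2) (𝒲.phi p y.2.1))).mono
        fun B hB k' D' hD' k D hD => hB ⟨k', D', hD'⟩ ⟨k, D, hD⟩
  · suffices h : ∀ x : (Σ k, Σ k', {D // D ∈ 𝒲.P k p} × {D // D ∈ 𝒲.P k' p}), 𝒲.Large fun B =>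
        rs (inf_le_right : x.2.2.2.1 ⊓ x.2.2.1.1 ≤ x.2.2.1.1)
          (Ring.inverse (rs (le_left x.2.2.1.2) (𝒲.phi x.1 x.2.2.1.1))) ∈ Q p B x.2.2.2.2 x.2.2.1.1 ∧
        ∃ c : {t // t ∈ 𝒲.P x.2.1 x.1} → Γ(S, x.2.2.2.1 ⊓ x.2.2.1.1),
          (∀ t, c t ∈ Q p B x.2.2.2.2 x.2.2.1.1) ∧
          ∑ t, c t * rs (inf_le_left.trans (le_left x.2.2.2.2)) (𝒲.phi x.2.1 t.1) = 1 from
      (Large.all h).mono fun B hB k k' D D' hD hD' => hB ⟨k, k', ⟨D, hD⟩, ⟨D', hD'⟩⟩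
    rintro ⟨k, k', ⟨D, hD⟩, ⟨D', hD'⟩⟩
    have hE : IsAffineOpen (D' ⊓ D) :=
      basicOpen_phi_mul (mem_symm hD') (mem_symm hD) ▸ (𝒲.W p).2.basicOpen _
    obtain ⟨c, hc⟩ := exists_sum_eq_one hE
      (fun t : {t // t ∈ 𝒲.P k' k} => rs (inf_le_left.trans (le_left hD')) (𝒲.phi k' t.1))
      (iSup_basicOpen_pieces _ (inf_le_right.trans (le_left hD)))
    exact ((large_mem_Q p hD hD' _).and (Large.all fun t => large_mem_Q p hD hD' (c t))).mono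
      fun B hB => ⟨hB.1, c, hB.2, hc⟩

/-- The families whose localizations agree among the first `m` members. -/
def CompatUpTo (m : ℕ) (B : 𝒲.Fam) : Prop :=
  ∀ k l : Fin 𝒲.n, (k : ℕ) < m → (l : ℕ) < m → ∀ D (hD : D ∈ 𝒲.P k l),
    R B k D (le_left hD) ≤ R B l D (le_right hD)

theorem mem_Q_of_mem {B : 𝒲.Fam} (hphi : ∀ k l, ∀ D ∈ 𝒲.P k l, 𝒲.phi k D ∈ B k) {D D' : S.Opens}
    (hD : D ∈ 𝒲.P k p) (hD' : D' ∈ 𝒲.P k' p) (hS : StepCond p B)
    (hc : ∀ t (ht : t ∈ 𝒲.P k k'), R B k t (le_left ht) ≤ R B k' t (le_right ht))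
    {b : 𝒲.A k} (hb : b ∈ B k) :
    rs (inf_le_right.trans (le_left hD) : D' ⊓ D ≤ _) b ∈ Q p B hD' D := by
  obtain ⟨-, c, hc1, hc2⟩ := hS.2.2 k k' D D' hD hD'
  have hk' : D' ⊓ D ≤ (𝒲.W k').1 := inf_le_left.trans (le_left hD')
  have hQ : ∀ {a : 𝒲.A k'}, a ∈ B k' → rs hk' a ∈ Q p B hD' D := fun {a} ha => by
    rw [← rs_rs (inf_le_left : D' ⊓ D ≤ D') (le_left hD')]
    exact map_mem_loc (map_mem_loc ha)
  refine mem_of_forall_pow_mul_mem (u := fun t : {t // t ∈ 𝒲.P k' k} => rs hk' (𝒲.phi k' t.1))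
    (fun t => hQ (hphi k' k t.1 t.2)) hc1 hc2 fun ⟨t, ht⟩ => ?_
  have hmem : rs (le_right ht) b ∈ R B k' t (le_left ht) := hc t (mem_symm ht) (map_mem_loc hb)
  obtain ⟨n, b', hb', e⟩ := exists_of_mem_loc (isUnit_phi ht) (hphi k' k t ht) hmem
  have hF : (D' ⊓ D) ⊓ t = S.basicOpen (rs hk' (𝒲.phi k' t)) := by rw [basicOpen_rs, basicOpen_phi ht]
  have hE : IsAffineOpen (D' ⊓ D) :=
    basicOpen_phi_mul (mem_symm hD') (mem_symm hD) ▸ (𝒲.W p).2.basicOpen _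
  have e2 : rs (inf_le_left : D' ⊓ D ⊓ t ≤ _)
      (rs hk' (𝒲.phi k' t) ^ n * rs (inf_le_right.trans (le_left hD)) b) =
      rs (inf_le_left : D' ⊓ D ⊓ t ≤ _) (rs hk' b') := by
    have := congrArg (rs (inf_le_right : D' ⊓ D ⊓ t ≤ t)) e
    simp only [map_mul, map_pow, rs_rs] at this ⊢
    rw [mul_comm, this]
  obtain ⟨L, hL⟩ := exists_pow_mul_eq (isLocalization_rs hE inf_le_left _ hF) e2
  refine ⟨L + n, ?_⟩
  show rs hk' (𝒲.phi k' t) ^ (L + n) * _ ∈ _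
  rw [pow_add, mul_assoc, hL]
  exact mul_mem (pow_mem (hQ (hphi k' k t ht)) L) (hQ hb')

theorem eventually_lift {B : 𝒲.Fam} (hphi : ∀ k l, ∀ D ∈ 𝒲.P k l, 𝒲.phi k D ∈ B k) {D D' : S.Opens}
    (hD : D ∈ 𝒲.P k p) (hD' : D' ∈ 𝒲.P k' p) (hS : StepCond p B) {x : Γ(S, D)}
    (hx : rs inf_le_right x ∈ Q p B hD' D) {N : ℕ} {a : 𝒲.A p}
    (ha : x * rs (le_right hD) (𝒲.phi p D) ^ N = rs (le_right hD) a) :
    ∀ᶠ K in atTop, rs (le_right hD') (𝒲.phi p D ^ K * a) ∈ R B k' D' (le_left hD') := by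
  have hb : D' ⊓ D = S.basicOpen (rs (le_right hD') (𝒲.phi p D)) := by
    rw [basicOpen_rs, basicOpen_phi (mem_symm hD)]
  have hg : rs (le_right hD') (𝒲.phi p D) ∈ R B k' D' (le_left hD') := hS.2.1 k' D' hD' k D hD
  obtain ⟨M, y, hy, e⟩ := exists_of_mem_loc (isUnit_rs _ _ hb.le) hg hx
  have e2 : rs (inf_le_left : D' ⊓ D ≤ D')
      (rs (le_right hD') a * rs (le_right hD') (𝒲.phi p D) ^ M) =
      rs (inf_le_left : D' ⊓ D ≤ D') (rs (le_right hD') (𝒲.phi p D) ^ N * y) := by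
    have h1 := congrArg (rs (inf_le_right : D' ⊓ D ≤ D)) ha
    simp only [map_mul, map_pow, rs_rs] at h1 e ⊢
    rw [← h1, ← e]
    ring
  obtain ⟨L, hL⟩ := exists_pow_mul_eq (isLocalization_rs (isAffineOpen_piece hD') inf_le_left _ hb) e2
  refine eventually_atTop.2 ⟨L + M, fun K hK => ?_⟩
  obtain ⟨d, rfl⟩ := Nat.exists_eq_add_of_le hK
  have e3 : rs (le_right hD') (𝒲.phi p D ^ (L + M + d) * a) =
      rs (le_right hD') (𝒲.phi p D) ^ d *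
        (rs (le_right hD') (𝒲.phi p D) ^ L * (rs (le_right hD') (𝒲.phi p D) ^ N * y)) := by
    rw [← hL, map_mul, map_pow]
    ring
  rw [e3]
  exact mul_mem (pow_mem hg d) (mul_mem (pow_mem hg L) (mul_mem (pow_mem hg N) hy))

theorem exists_compatUpTo (m : ℕ) (hm : m ≤ 𝒲.n) :
    ∀ C : 𝒲.Fam, (∀ k, Fg (C k)) → ∃ B, C ≤ B ∧ (∀ k, Fg (B k)) ∧ CompatUpTo m B := by
  induction m with
  | zero => exact fun C hC => ⟨C, le_rfl, hC, fun k _ hk => absurd hk (Nat.not_lt_zero _)⟩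
  | succ m ih =>
    intro C₀ hC₀
    classical
    let p : Fin 𝒲.n := ⟨m, hm⟩
    obtain ⟨Cφ, hCφ, hphi'⟩ := large_phi_mem (𝒲 := 𝒲)
    let C : 𝒲.Fam := C₀ ⊔ Cφ
    have hC : ∀ k, Fg (C k) := fun k => (hC₀ k).sup (hCφ k)
    obtain ⟨s, hs, hsC⟩ := hC p
    have := hs.to_subtype
    obtain ⟨C1, hC1, hcond⟩ := (large_stepCond p).and
      (Large.all fun x : (Σ k, {D // D ∈ 𝒲.P k p}) => Large.all fun a : s =>
        large_mem_R x.2.2 (rs (le_right x.2.2) a.1))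
    obtain ⟨B, hB, hBfg, hBc⟩ := ih (Nat.le_of_succ_le hm) (C ⊔ C1) (fun k => (hC k).sup (hC1 k))
    obtain ⟨hS, hgen⟩ := hcond B (le_sup_right.trans hB)
    have hCB : C ≤ B := le_sup_left.trans hB
    have hphi := hphi' B (le_sup_right.trans hCB)
    choose gens hgens hgcl using hBfg
    let I := Σ k : {k : Fin 𝒲.n // (k : ℕ) < m}, {D // D ∈ 𝒲.P k.1 p} × Option (gens k.1)
    let x : ∀ i : I, Γ(S, i.2.1.1) := fun i => i.2.2.elim
      (Ring.inverse (rs (le_left i.2.1.2) (𝒲.phi i.1.1 i.2.1.1))) fun b => rs (le_left i.2.1.2) b.1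
    have hxQ : ∀ (i : I) k' D' (hD' : D' ∈ 𝒲.P k' p), (k' : ℕ) < m →
        rs (inf_le_right : D' ⊓ i.2.1.1 ≤ _) (x i) ∈ Q p B hD' i.2.1.1 := by
      rintro ⟨⟨k, hk⟩, ⟨D, hD⟩, o⟩ k' D' hD' hk'
      cases o with
      | none => exact (hS.2.2 k k' D D' hD hD').1
      | some b =>
        show rs inf_le_right (rs (le_left hD) b.1) ∈ _
        rw [rs_rs]
        exact mem_Q_of_mem p hphi hD hD' hS (fun t ht => hBc k k' hk hk' t ht)
          (hgcl k ▸ Subring.subset_closure b.2)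
    choose N a ha using fun i : I =>
      exists_pow_mul (isUnit_phi (mem_symm i.2.1.2)) (z := x i) (isLocalization_phi (mem_symm i.2.1.2))
    have hev : ∀ᶠ K in atTop, ∀ (i : I) (y : Σ k' : {k : Fin 𝒲.n // (k : ℕ) < m}, {D // D ∈ 𝒲.P k'.1 p}),
        rs (le_right y.2.2) (𝒲.phi p i.2.1.1 ^ K * a i) ∈ R B y.1.1 y.2.1 (le_left y.2.2) := by
      have : ∀ k, Finite (gens k) := fun k => (hgens k).to_subtype
      exact eventually_all.2 fun i => eventually_all.2 fun y =>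
        eventually_lift p hphi i.2.1.2 y.2.2 hS (hxQ i y.1.1 y.2.1 y.2.2 y.1.2) (ha i)
    obtain ⟨K, hK⟩ := hev.exists
    let T : Subring (𝒲.A p) := C p ⊔ Subring.closure (Set.range fun i : I => 𝒲.phi p i.2.1.1 ^ K * a i)
    have : ∀ k, Finite (gens k) := fun k => (hgens k).to_subtype
    let B' : 𝒲.Fam := Function.update B p T
    have hne : ∀ k : Fin 𝒲.n, (k : ℕ) < m → B' k = B k := fun k hk =>
      Function.update_of_ne (fun h => (lt_irrefl m) (by rw [h] at hk; exact hk)) _ _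
    have hp : B' p = T := Function.update_self _ _ _
    refine ⟨B', fun k => ?_, fun k => ?_, fun k l hk hl D hD => ?_⟩
    · by_cases h : k = p
      · subst h; rw [hp]; exact le_sup_of_le_left (le_sup_left (a := C₀ p))
      · rw [show B' k = B k from Function.update_of_ne h _ _]
        exact le_sup_left.trans (hCB k)
    · by_cases h : k = p
      · subst h; rw [hp]; exact (hC p).sup (fg_closure (Set.finite_range _))
      · rw [show B' k = B k from Function.update_of_ne h _ _]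
        exact ⟨_, hgens k, hgcl k⟩
    · have hphip : ∀ (k : Fin 𝒲.n) (D : S.Opens), D ∈ 𝒲.P k p → 𝒲.phi p D ∈ T := fun k D hD =>
        (le_sup_left : C p ≤ T) (hphi' C le_sup_right p k D (mem_symm hD))
      by_cases hkp : k = p
      · subst hkp
        by_cases hlp : l = p
        · subst hlp; exact le_rfl
        have hl' : (l : ℕ) < m := lt_of_le_of_ne (Nat.lt_succ_iff.1 hl) fun h => hlp (Fin.ext h)
        show Loc _ (B' p) _ ≤ Loc _ (B' l) _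
        rw [hp, hne l hl']
        have hDl := mem_symm hD
        refine loc_le (fun b hb => ?_) (hS.1 l D hDl).1
        have hle : T ≤ (R B l D (le_left hDl)).comap (rs (le_right hDl)) := by
          refine sup_le ?_ (Subring.closure_le.2 ?_)
          · rw [← hsC]
            exact Subring.closure_le.2 fun z hz => hgen ⟨l, D, hDl⟩ ⟨z, hz⟩
          · rintro _ ⟨i, rfl⟩
            exact hK i ⟨⟨l, hl'⟩, D, hDl⟩
        exact hle hb
      · have hk' : (k : ℕ) < m := lt_of_le_of_ne (Nat.lt_succ_iff.1 hk) fun h => hkp (Fin.ext h)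
        by_cases hlp : l = p
        · subst hlp
          show Loc _ (B' k) _ ≤ Loc _ (B' p) _
          rw [hp, hne k hk']
          have hu := isUnit_phi (mem_symm hD)
          have hxm : ∀ o, x ⟨⟨k, hk'⟩, ⟨D, hD⟩, o⟩ ∈ Loc (rs (le_right hD)) T (𝒲.phi p D) := fun o => by
            refine mem_loc_of_mul_pow_eq hu (n := K + N ⟨⟨k, hk'⟩, ⟨D, hD⟩, o⟩)
              ((le_sup_right : _ ≤ T) (Subring.subset_closure ⟨⟨⟨k, hk'⟩, ⟨D, hD⟩, o⟩, rfl⟩)) ?_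
            rw [map_mul, map_pow, ← ha ⟨⟨k, hk'⟩, ⟨D, hD⟩, o⟩]
            ring
          refine loc_le (fun b hb => ?_) (hxm none)
          have hle : B k ≤ (Loc (rs (le_right hD)) T (𝒲.phi p D)).comap (rs (le_left hD)) := by
            rw [← hgcl k]
            exact Subring.closure_le.2 fun z hz => hxm (some ⟨z, hz⟩)
          exact hle hb
        · have hl' : (l : ℕ) < m := lt_of_le_of_ne (Nat.lt_succ_iff.1 hl) fun h => hlp (Fin.ext h)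
          show Loc _ (B' k) _ ≤ Loc _ (B' l) _
          rw [hne k hk', hne l hl']
          exact hBc k l hk' hl' D hD

/-- Admissible families are cofinal, also with any further large condition. -/
theorem exists_adm {Q : 𝒲.Fam → Prop} (hQ : 𝒲.Large Q) (C : 𝒲.Fam) (hC : ∀ k, Fg (C k)) :
    ∃ B, C ≤ B ∧ Adm 𝒲 B ∧ Q B := by
  obtain ⟨C1, hC1, h1⟩ := ((large_phi_mem (𝒲 := 𝒲)).and large_wit).and hQ
  obtain ⟨B, hB, hfg, hc⟩ := exists_compatUpTo 𝒲.n le_rfl (C ⊔ C1) fun k => (hC k).sup (hC1 k)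
  obtain ⟨⟨hphi, hwit⟩, hq⟩ := h1 B (le_sup_right.trans hB)
  exact ⟨B, le_sup_left.trans hB, ⟨hfg, hphi, fun k l D hD => hc k l k.2 l.2 D hD, hwit⟩, hq⟩

end GrothLib.AbsApprox.Cov
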