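import Groth.Agent.Lib.AbsApprox.System
import Mathlib.CategoryTheory.Filtered.Final
import Mathlib.CategoryTheory.Limits.Final

/-!
# Absolute Noetherian approximation of morphisms
-/

set_option autoImplicit false
set_option backward.isDefEq.respectTransparency false

universe u

open CategoryTheory CategoryTheory.Limits AlgebraicGeometry TopologicalSpace Opposite

namespace GrothLib.AbsApprox

variable {X S : Scheme.{u}}

/-- A cover of the source refining the preimage of a cover of the target. -/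
theorem exists_refine [CompactSpace X] [QuasiSeparatedSpace X] (f : X ⟶ S) (𝒱 : Cov S) :
    ∃ (𝒲 : Cov X) (σ : Fin 𝒲.n → Fin 𝒱.n), ∀ k, (𝒲.W k).1 ≤ f ⁻¹ᵁ (𝒱.W (σ k)).1 := by
  classical
  have h : ∀ x : X, ∃ (U : X.affineOpens) (j : Fin 𝒱.n), x ∈ U.1 ∧ U.1 ≤ f ⁻¹ᵁ (𝒱.W j).1 := fun x => by
    have hx : f x ∈ ⨆ j, (𝒱.W j).1 := by rw [𝒱.iSup_W]; trivial
    obtain ⟨j, hj⟩ := Opens.mem_iSup.1 hx
    obtain ⟨_, ⟨U, hU, rfl⟩, hxU, hUV⟩ :=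
      X.isBasis_affineOpens.exists_subset_of_mem_open (show x ∈ f ⁻¹ᵁ (𝒱.W j).1 from hj) (f ⁻¹ᵁ (𝒱.W j).1).2
    exact ⟨⟨U, hU⟩, j, hxU, hUV⟩
  choose U j hxU hle using h
  obtain ⟨t, ht⟩ := isCompact_univ.elim_finite_subcover (fun x : X => ((U x).1 : Set X)) (fun x => (U x).1.2)
    (fun x _ => Set.mem_iUnion.2 ⟨x, hxU x⟩)
  let W : Fin t.card → X.affineOpens := fun k => U (t.equivFin.symm k).1
  have hW : ⨆ k, (W k).1 = ⊤ := by
    refine top_unique fun x _ => ?_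
    obtain ⟨y, hy, hx⟩ := Set.mem_iUnion₂.1 (ht (Set.mem_univ x))
    exact Opens.mem_iSup.2 ⟨t.equivFin ⟨y, hy⟩, by simpa [W] using hx⟩
  obtain ⟨P, h1, h2, h3, h4⟩ := exists_cov W hW
  exact ⟨⟨_, W, hW, P, h1, h2, h3, h4⟩, fun k => j (t.equivFin.symm k).1, fun k => hle _⟩

namespace Cov

variable {f : X ⟶ S} {𝒲 : Cov X} {𝒱 : Cov S} {σ : Fin 𝒲.n → Fin 𝒱.n}
  (hσ : ∀ k, (𝒲.W k).1 ≤ f ⁻¹ᵁ (𝒱.W (σ k)).1)

/-- The map of sections attached to a member of the cover. -/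
abbrev fr (k : Fin 𝒲.n) : 𝒱.A (σ k) →+* 𝒲.A k := (f.appLE (𝒱.W (σ k)).1 (𝒲.W k).1 (hσ k)).hom

/-- Compatibility of a family on the source with one on the target. -/
structure Rel (C : 𝒱.Fam) (B : 𝒲.Fam) : Prop where
  mem : ∀ k, ∀ c ∈ C (σ k), fr hσ k c ∈ B k
  wit : ∀ (k l : Fin 𝒲.n) (D : X.Opens) (hD : D ∈ 𝒲.P k l),
    ∃ d : {t // t ∈ 𝒱.P (σ k) (σ l)} → Γ(X, D), (∀ t, d t ∈ R B k D (le_left hD)) ∧
      ∑ t, d t * rs (le_left hD) (fr hσ k (𝒱.phi (σ k) t.1)) = 1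

theorem large_rel {C : 𝒱.Fam} (hC : ∀ k, Fg (C k)) : 𝒲.Large (Rel hσ C) := by
  have h1 : 𝒲.Large fun B => ∀ k, ∀ c ∈ C (σ k), fr hσ k c ∈ B k :=
    (Large.all (Q := fun k B => C (σ k) ≤ (B k).comap (fr hσ k)) fun k => by
      obtain ⟨s, hs, hsC⟩ := hC (σ k)
      have := hs.to_subtype
      exact (Large.all fun c : s => large_mem k (fr hσ k c.1)).mono fun B hB => by
        show C (σ k) ≤ (B k).comap (fr hσ k)
        rw [← hsC]
        exact Subring.closure_le.2 fun c hc => hB ⟨c, hc⟩).mono fun B hB k c hc => hB k hc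
  have h2 : 𝒲.Large fun B => ∀ (k l : Fin 𝒲.n) (D : X.Opens) (hD : D ∈ 𝒲.P k l),
      ∃ d : {t // t ∈ 𝒱.P (σ k) (σ l)} → Γ(X, D), (∀ t, d t ∈ R B k D (le_left hD)) ∧
        ∑ t, d t * rs (le_left hD) (fr hσ k (𝒱.phi (σ k) t.1)) = 1 := by
    suffices h : ∀ x : (Σ k : Fin 𝒲.n, Σ l : Fin 𝒲.n, {D // D ∈ 𝒲.P k l}), 𝒲.Large fun B =>
        ∃ d : {t // t ∈ 𝒱.P (σ x.1) (σ x.2.1)} → Γ(X, x.2.2.1), (∀ t, d t ∈ R B x.1 x.2.2.1 (le_left x.2.2.2)) ∧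
          ∑ t, d t * rs (le_left x.2.2.2) (fr hσ x.1 (𝒱.phi (σ x.1) t.1)) = 1 from
      (Large.all h).mono fun B hB k l D hD => hB ⟨k, l, D, hD⟩
    rintro ⟨k, l, D, hD⟩
    have hcov : ⨆ t : {t // t ∈ 𝒱.P (σ k) (σ l)},
        X.basicOpen (rs (le_left hD) (fr hσ k (𝒱.phi (σ k) t.1))) = D := by
      refine le_antisymm (iSup_le fun t => by rw [basicOpen_rs]; exact inf_le_left) fun x hx => ?_
      have h2 : f x ∈ (𝒱.P (σ k) (σ l)).sup id :=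
        (𝒱.cover (σ k) (σ l)).ge ⟨hσ k (le_left hD hx), hσ l (le_right hD hx)⟩
      have e : (𝒱.P (σ k) (σ l)).sup id = ⨆ t : {t // t ∈ 𝒱.P (σ k) (σ l)}, t.1 := by
        rw [Finset.sup_eq_iSup, iSup_subtype']
        rfl
      rw [e, Opens.mem_iSup] at h2
      obtain ⟨t, ht⟩ := h2
      refine Opens.mem_iSup.2 ⟨t, ?_⟩
      rw [basicOpen_rs, Scheme.basicOpen_appLE, basicOpen_phi t.2]
      exact ⟨hx, le_left hD hx, ht⟩
    obtain ⟨d, hd⟩ := exists_sum_eq_one (isAffineOpen_piece hD) _ hcov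
    exact (Large.all fun t => large_mem_R hD (d t)).mono fun B hB => ⟨d, hB, hd⟩
  exact (h1.and h2).mono fun B hB => ⟨hB.1, hB.2⟩

variable {C : 𝒱.Fam} {B : 𝒲.Fam} (h : Rel hσ C B)

/-- The map of charts. -/
noncomputable def arrCh (k : Fin 𝒲.n) : Ch B k ⟶ Ch C (σ k) :=
  Spec.map (CommRingCat.ofHom (((fr hσ k).comp (C (σ k)).subtype).codRestrict (B k) fun c => h.mem k c.1 c.2))

@[reassoc]
theorem pr_arrCh (k : Fin 𝒲.n) :
    pr B k ≫ arrCh hσ h k = f.resLE (𝒱.W (σ k)).1 (𝒲.W k).1 (hσ k) ≫ pr C (σ k) := by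
  show ((𝒲.W k).1.toSpecΓ ≫ Spec.map (inclHom (B k))) ≫ arrCh hσ h k =
    f.resLE _ _ (hσ k) ≫ (𝒱.W (σ k)).1.toSpecΓ ≫ Spec.map (inclHom (C (σ k)))
  rw [← Scheme.Opens.toSpecΓ_SpecMap_appLE_assoc, Category.assoc, arrCh, ← Spec.map_comp, ← Spec.map_comp]
  rfl

theorem ad_arrCh {l : Fin 𝒲.n} {Q : Scheme.{u}} {s : Q ⟶ X} {m : Q ⟶ Ch B l} (ha : Ad B l s m) :
    Ad C (σ l) (s ≫ f) (m ≫ arrCh hσ h l) := by
  obtain ⟨w, hw, hw'⟩ := ha
  exact ⟨w ≫ f.resLE _ _ (hσ l), by rw [Category.assoc, Scheme.Hom.resLE_comp_ι, ← Category.assoc, hw],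
    by rw [← hw', Category.assoc, Category.assoc, pr_arrCh]⟩

variable (hC : Adm 𝒱 C) (hB : Adm 𝒲 B)

theorem arr_mem_V (k l : Fin 𝒲.n) (z : (V hB k l).toScheme) :
    arrCh hσ h k ((V hB k l).ι z) ∈ V hC (σ k) (σ l) := by
  obtain ⟨⟨D, hD⟩, hz⟩ := Opens.mem_iSup.1 z.2
  have hEf := (basicOpen_phi hD).symm
  have hf := hB.phi_mem k l D hD
  have hz' : (V hB k l).ι z ∈ Set.range (pieceι B k (𝒲.phi k D) (le_left hD)) := by
    rw [range_pieceι hf hEf]; exact hz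
  obtain ⟨y, hy⟩ := hz'
  obtain ⟨d, hd, hsum⟩ := h.wit k l D hD
  let u : {t // t ∈ 𝒱.P (σ k) (σ l)} → pieceRing B k (𝒲.phi k D) (le_left hD) := fun t =>
    ⟨rs (le_left hD) (fr hσ k (𝒱.phi (σ k) t.1)), map_mem_loc (h.mem k _ (hC.phi_mem _ _ t.1 t.2))⟩
  have h1 : ∑ t, (⟨d t, hd t⟩ : pieceRing B k (𝒲.phi k D) (le_left hD)) * u t = 1 := Subtype.ext (by
    rw [AddSubmonoidClass.coe_finsetSum]
    exact hsum)
  have hy' : y ∈ (⨆ t, PrimeSpectrum.basicOpen (u t)) := by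
    rw [iSup_basicOpen_eq_top h1]
    trivial
  obtain ⟨t, ht⟩ := Opens.mem_iSup.1 hy'
  rw [← hy]
  exact Opens.mem_iSup.2 ⟨t, ht⟩

theorem arr_comm (k l : Fin 𝒲.n) :
    (V hB k l).ι ≫ arrCh hσ h k ≫ ι hC (σ k) = tV hB k l ≫ arrCh hσ h l ≫ ι hC (σ l) := by
  let y := IsOpenImmersion.lift (V hC (σ k) (σ l)).ι ((V hB k l).ι ≫ arrCh hσ h k) (by
    rw [Scheme.Opens.range_ι]
    rintro _ ⟨z, rfl⟩
    exact arr_mem_V hσ h hC hB k l z)
  have hy : y ≫ (V hC (σ k) (σ l)).ι = (V hB k l).ι ≫ arrCh hσ h k := IsOpenImmersion.lift_fac _ _ _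
  have he : y ≫ tV hC (σ k) (σ l) = tV hB k l ≫ arrCh hσ h l := by
    let p1 := pullback.fst (pr B k) (V hB k l).ι
    refine ext_of_flat (pr B k) (V hB k l).ι ((ad_tV hC (p1 ≫ f.resLE _ _ (hσ k))
      (pullback.snd (pr B k) (V hB k l).ι ≫ y) ?_).unique (l := σ l) (m := _) ?_)
    · rw [Category.assoc, hy, Category.assoc, ← pr_arrCh hσ h k, ← pullback.condition_assoc]
    · rw [← Category.assoc _ (tV hB k l), Category.assoc p1, Scheme.Hom.resLE_comp_ι, ← Category.assoc p1]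
      exact ad_arrCh hσ h (ad_tV hB _ _ pullback.condition.symm)
  rw [← Category.assoc, ← hy, Category.assoc, ← tV_ι, ← Category.assoc, he, Category.assoc]

/-- The morphism of models. -/
noncomputable def arr : model hB ⟶ model hC :=
  descModel hB (fun k => arrCh hσ h k ≫ ι hC (σ k)) (arr_comm hσ h hC hB)

@[reassoc]
theorem ι_arr (k : Fin 𝒲.n) : ι hB k ≫ arr hσ h hC hB = arrCh hσ h k ≫ ι hC (σ k) := ι_desc _ _ _ _

theorem toModel_arr : toModel hB ≫ arr hσ h hC hB = f ≫ toModel hC :=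
  Scheme.Cover.hom_ext (coverS (𝒲 := 𝒲)) _ _ fun k => by
    show (𝒲.W k.down).1.ι ≫ _ = (𝒲.W k.down).1.ι ≫ _
    rw [← Category.assoc, ι_toModel, Category.assoc, ι_arr, pr_arrCh_assoc, ← ι_toModel,
      Scheme.Hom.resLE_comp_ι_assoc]

omit h hC hB in
theorem trans_arr {C C' : 𝒱.Fam} {B B' : 𝒲.Fam} (hc : C ≤ C') (hb : B ≤ B') (h : Rel hσ C B)
    (h' : Rel hσ C' B') (hC : Adm 𝒱 C) (hC' : Adm 𝒱 C') (hB : Adm 𝒲 B) (hB' : Adm 𝒲 B') :
    trans hb hB hB' ≫ arr hσ h hC hB = arr hσ h' hC' hB' ≫ trans hc hC hC' :=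
  hom_ext_model hB' fun k => by
    rw [ι_trans_assoc, ι_arr, ι_arr_assoc, ι_trans, ← Category.assoc, ← Category.assoc]
    congr 1
    rw [chMap, chMap, arrCh, arrCh, ← Spec.map_comp, ← Spec.map_comp]
    rfl

/-- The index set for the approximation of a morphism. -/
abbrev AIdx : Type u := {p : 𝒲.Idx × 𝒱.Idx // Rel hσ p.2.1 p.1.1}

theorem exists_aidx (B : 𝒲.Idx) (C : 𝒱.Idx) : ∃ p : AIdx hσ, B ≤ p.1.1 ∧ C ≤ p.1.2 := by
  obtain ⟨B', h1, h2⟩ := exists_le_idx B.1 B.2.fg (large_rel hσ C.2.fg)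
  exact ⟨⟨(B', C), h2⟩, h1, le_rfl⟩

instance : IsDirected (AIdx hσ) (· ≤ ·) :=
  ⟨fun a b => by
    obtain ⟨B, h1, h2⟩ := exists_ge_ge a.1.1 b.1.1
    obtain ⟨C, h3, h4⟩ := exists_ge_ge a.1.2 b.1.2
    obtain ⟨p, hp1, hp2⟩ := exists_aidx hσ B C
    exact ⟨p, ⟨h1.trans hp1, h3.trans hp2⟩, ⟨h2.trans hp1, h4.trans hp2⟩⟩⟩

instance : Nonempty (AIdx hσ) := by
  obtain ⟨B⟩ : Nonempty 𝒲.Idx := inferInstance
  obtain ⟨C⟩ : Nonempty 𝒱.Idx := inferInstance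
  obtain ⟨p, -, -⟩ := exists_aidx hσ B C
  exact ⟨p⟩

/-- Projection to the source index. -/
def fstF : AIdx hσ ⥤ 𝒲.Idx := (show Monotone fun p : AIdx hσ => p.1.1 from fun _ _ h => h.1).functor

/-- Projection to the target index. -/
def sndF : AIdx hσ ⥤ 𝒱.Idx := (show Monotone fun p : AIdx hσ => p.1.2 from fun _ _ h => h.2).functor

instance final_fstF : (fstF hσ).Final :=
  Functor.final_of_exists_of_isFiltered _ (fun B => by
    obtain ⟨C⟩ : Nonempty 𝒱.Idx := inferInstance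
    obtain ⟨p, h, -⟩ := exists_aidx hσ B C
    exact ⟨p, ⟨homOfLE h⟩⟩) fun {_ c} _ _ => ⟨c, 𝟙 c, Subsingleton.elim _ _⟩

instance final_sndF : (sndF hσ).Final :=
  Functor.final_of_exists_of_isFiltered _ (fun C => by
    obtain ⟨B⟩ : Nonempty 𝒲.Idx := inferInstance
    obtain ⟨p, -, h⟩ := exists_aidx hσ B C
    exact ⟨p, ⟨homOfLE h⟩⟩) fun {_ c} _ _ => ⟨c, 𝟙 c, Subsingleton.elim _ _⟩

/-- The source system. -/
noncomputable def srcSys : (AIdx hσ)ᵒᵖ ⥤ Scheme.{u} := (fstF hσ).op ⋙ system 𝒲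

/-- The target system. -/
noncomputable def tgtSys : (AIdx hσ)ᵒᵖ ⥤ Scheme.{u} := (sndF hσ).op ⋙ system 𝒱

/-- The system of morphisms. -/
noncomputable def arrSys : srcSys hσ ⟶ tgtSys hσ where
  app p := arr hσ p.unop.2 p.unop.1.2.2 p.unop.1.1.2
  naturality a b g := trans_arr hσ (C := b.unop.1.2.1) (C' := a.unop.1.2.1) g.unop.le.2 g.unop.le.1
    b.unop.2 a.unop.2 _ _ _ _

/-- `X` is the limit of the source system. -/
noncomputable def isLimitSrc : IsLimit ((cone 𝒲).whisker (fstF hσ).op) :=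
  (Functor.Initial.isLimitWhiskerEquiv (fstF hσ).op (cone 𝒲)).symm (isLimitCone 𝒲)

/-- `S` is the limit of the target system. -/
noncomputable def isLimitTgt : IsLimit ((cone 𝒱).whisker (sndF hσ).op) :=
  (Functor.Initial.isLimitWhiskerEquiv (sndF hσ).op (cone 𝒱)).symm (isLimitCone 𝒱)

end Cov

end GrothLib.AbsApprox
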