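import Groth.Agent.Lib.AbsApprox.Adm
import Mathlib.AlgebraicGeometry.Morphisms.SchemeTheoreticallyDominant
import Mathlib.AlgebraicGeometry.Morphisms.Affine
import Mathlib.AlgebraicGeometry.Morphisms.Flat

/-!
# Charts attached to a family of subrings
-/

set_option autoImplicit false
set_option backward.isDefEq.respectTransparency false

universe u

open CategoryTheory CategoryTheory.Limits AlgebraicGeometry TopologicalSpace Opposite

namespace GrothLib.AbsApprox

theorem isSchemeTheoreticallyDominant_specMap {A B : CommRingCat.{u}} (φ : A ⟶ B)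
    (h : Function.Injective φ.hom) : IsSchemeTheoreticallyDominant (Spec.map φ) := by
  refine ⟨Scheme.IdealSheafData.ext_of_isAffine ?_⟩
  rw [Scheme.Hom.ker_apply, Scheme.IdealSheafData.ideal_bot, Pi.bot_apply, ← RingHom.injective_iff_ker_eq_bot]
  intro x y e
  have hn := Scheme.ΓSpecIso_naturality φ
  have e' : φ.hom ((Scheme.ΓSpecIso A).hom x) = φ.hom ((Scheme.ΓSpecIso A).hom y) := by
    change ((Scheme.ΓSpecIso A).hom ≫ φ) x = ((Scheme.ΓSpecIso A).hom ≫ φ) y
    rw [← hn]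
    exact congrArg (Scheme.ΓSpecIso B).hom e
  have := h e'
  have := congrArg (Scheme.ΓSpecIso A).inv this
  simpa using this

variable {S : Scheme.{u}}

/-- Morphisms to an affine scheme agree if they agree after a flat base change of a schematically
dominant quasi-compact morphism. -/
theorem ext_of_flat {W T P Z : Scheme.{u}} (p : W ⟶ T) [IsSchemeTheoreticallyDominant p] [QuasiCompact p]
    (j : P ⟶ T) [Flat j] [IsAffine Z] {m m' : P ⟶ Z}
    (h : pullback.snd p j ≫ m = pullback.snd p j ≫ m') : m = m' := by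
  refine ext_of_isAffine ?_
  have hinj := (pullback.snd p j).app_injective ⊤
  ext x
  refine hinj ?_
  have := congr(($(h)).appTop x)
  rw [Scheme.Hom.comp_appTop, Scheme.Hom.comp_appTop] at this
  exact this

/-- The restriction to a subring, as a morphism of rings. -/
noncomputable abbrev inclHom {A : CommRingCat.{u}} (B : Subring A) : CommRingCat.of B ⟶ A :=
  CommRingCat.ofHom B.subtype

/-- A restriction map between subrings, as a morphism of rings. -/
noncomputable def restrHom {D U : S.Opens} (B : Subring Γ(S, U)) (T : Subring Γ(S, D)) (h : D ≤ U)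
    (hm : ∀ b ∈ B, rs h b ∈ T) : CommRingCat.of B ⟶ CommRingCat.of T :=
  CommRingCat.ofHom (((rs h).comp B.subtype).codRestrict T fun b => hm b.1 b.2)

theorem restrHom_inclHom {D U : S.Opens} (B : Subring Γ(S, U)) (T : Subring Γ(S, D)) (h : D ≤ U)
    (hm : ∀ b ∈ B, rs h b ∈ T) :
    restrHom B T h hm ≫ inclHom T = inclHom B ≫ S.presheaf.map (homOfLE h).op := rfl

/-- The canonical morphism to the spectrum of a subring of sections. -/
noncomputable def qmap {D : S.Opens} (T : Subring Γ(S, D)) : D.toScheme ⟶ Spec (CommRingCat.of T) :=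
  D.toSpecΓ ≫ Spec.map (inclHom T)

@[reassoc]
theorem qmap_restr {D U : S.Opens} (B : Subring Γ(S, U)) (T : Subring Γ(S, D)) (h : D ≤ U)
    (hm : ∀ b ∈ B, rs h b ∈ T) :
    qmap T ≫ Spec.map (restrHom B T h hm) = S.homOfLE h ≫ qmap B := by
  rw [qmap, qmap, Category.assoc, ← Spec.map_comp, restrHom_inclHom, Spec.map_comp,
    Scheme.Opens.toSpecΓ_SpecMap_presheaf_map_assoc]

theorem qmap_preimage_basicOpen {U : S.Opens} (B : Subring Γ(S, U)) (f : B) :
    qmap B ⁻¹ᵁ (PrimeSpectrum.basicOpen f : (Spec (CommRingCat.of B)).Opens) = U.ι ⁻¹ᵁ S.basicOpen f.1 := by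
  rw [qmap, Scheme.Hom.comp_preimage, ← Scheme.Opens.toSpecΓ_preimage_basicOpen]
  congr 1

theorem qmap_dominant {U : S.Opens} (hU : IsAffineOpen U) (B : Subring Γ(S, U)) :
    IsSchemeTheoreticallyDominant (qmap B) := by
  haveI : IsIso U.toSpecΓ := hU.isoSpec_hom ▸ inferInstance
  haveI := isSchemeTheoreticallyDominant_specMap (inclHom B) Subtype.val_injective
  rw [qmap]
  infer_instance

theorem qmap_quasiCompact {U : S.Opens} (hU : IsAffineOpen U) (B : Subring Γ(S, U)) :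
    QuasiCompact (qmap B) := by
  haveI : IsAffine U.toScheme := hU
  infer_instance

namespace Cov

variable {𝒲 : Cov S} (B : 𝒲.Fam)

/-- The chart attached to a member of the family. -/
noncomputable abbrev Ch (k : Fin 𝒲.n) : Scheme.{u} := Spec (CommRingCat.of (B k))

/-- The canonical map to the chart. -/
noncomputable abbrev pr (k : Fin 𝒲.n) : (𝒲.W k).1.toScheme ⟶ Ch B k := qmap (B k)

instance (k : Fin 𝒲.n) : IsSchemeTheoreticallyDominant (pr B k) := qmap_dominant (𝒲.W k).2 _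

instance (k : Fin 𝒲.n) : QuasiCompact (pr B k) := qmap_quasiCompact (𝒲.W k).2 _

/-- A morphism to a chart lies over a morphism to `S`. -/
def Ad (l : Fin 𝒲.n) {Q : Scheme.{u}} (s : Q ⟶ S) (m : Q ⟶ Ch B l) : Prop :=
  ∃ w : Q ⟶ (𝒲.W l).1.toScheme, w ≫ (𝒲.W l).1.ι = s ∧ w ≫ pr B l = m

variable {B}

theorem Ad.unique {l : Fin 𝒲.n} {Q : Scheme.{u}} {s : Q ⟶ S} {m m' : Q ⟶ Ch B l}
    (h : Ad B l s m) (h' : Ad B l s m') : m = m' := by
  obtain ⟨w, hw, rfl⟩ := h
  obtain ⟨w', hw', rfl⟩ := h'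
  rw [(cancel_mono (𝒲.W l).1.ι).1 (hw.trans hw'.symm)]

theorem Ad.comp {l : Fin 𝒲.n} {Q Q' : Scheme.{u}} {s : Q ⟶ S} {m : Q ⟶ Ch B l} (h : Ad B l s m)
    (g : Q' ⟶ Q) : Ad B l (g ≫ s) (g ≫ m) := by
  obtain ⟨w, hw, hw'⟩ := h
  exact ⟨g ≫ w, by rw [Category.assoc, hw], by rw [Category.assoc, hw']⟩

theorem ad_ext {k l : Fin 𝒲.n} {P : Scheme.{u}} (j : P ⟶ Ch B k) [Flat j] {m m' : P ⟶ Ch B l}
    (h : Ad B l (pullback.fst (pr B k) j ≫ (𝒲.W k).1.ι) (pullback.snd (pr B k) j ≫ m))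
    (h' : Ad B l (pullback.fst (pr B k) j ≫ (𝒲.W k).1.ι) (pullback.snd (pr B k) j ≫ m')) : m = m' :=
  ext_of_flat (pr B k) j (h.unique h')

section Piece

variable (B)

/-- The piece of the chart `k` cut out by `f`. -/
noncomputable abbrev pieceRing (k : Fin 𝒲.n) (f : 𝒲.A k) {E : S.Opens} (hE : E ≤ (𝒲.W k).1) :
    Subring Γ(S, E) := Loc (rs hE) (B k) f

/-- The inclusion of a piece in the chart. -/
noncomputable def pieceι (k : Fin 𝒲.n) (f : 𝒲.A k) {E : S.Opens} (hE : E ≤ (𝒲.W k).1) :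
    Spec (CommRingCat.of (pieceRing B k f hE)) ⟶ Ch B k :=
  Spec.map (restrHom (B k) _ hE fun _ hb => map_mem_loc hb)

/-- The map from a piece to another chart. -/
noncomputable def pieceMap (k : Fin 𝒲.n) (f : 𝒲.A k) {E : S.Opens} (hE : E ≤ (𝒲.W k).1) (l : Fin 𝒲.n)
    (hl : E ≤ (𝒲.W l).1) (hb : ∀ b ∈ B l, rs hl b ∈ pieceRing B k f hE) :
    Spec (CommRingCat.of (pieceRing B k f hE)) ⟶ Ch B l :=
  Spec.map (restrHom (B l) _ hl hb)

variable {B} {k : Fin 𝒲.n} {f : 𝒲.A k} {E : S.Opens} {hE : E ≤ (𝒲.W k).1}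

theorem isOpenImmersion_pieceι (hf : f ∈ B k) (hEf : E = S.basicOpen f) :
    IsOpenImmersion (pieceι B k f hE) := by
  let _ : Algebra (B k) (pieceRing B k f hE) :=
    (((rs hE).comp (B k).subtype).codRestrict (Loc (rs hE) (B k) f) fun b => map_mem_loc b.2).toAlgebra
  have := isLocalization_loc (isLocalization_rs (𝒲.W k).2 hE f hEf) hf
  exact IsOpenImmersion.of_isLocalization (⟨f, hf⟩ : B k)

theorem range_pieceι (hf : f ∈ B k) (hEf : E = S.basicOpen f) :
    Set.range (pieceι B k f hE) = (PrimeSpectrum.basicOpen (⟨f, hf⟩ : B k) : Set (PrimeSpectrum (B k))) := by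
  let _ : Algebra (B k) (pieceRing B k f hE) :=
    (((rs hE).comp (B k).subtype).codRestrict (Loc (rs hE) (B k) f) fun b => map_mem_loc b.2).toAlgebra
  have := isLocalization_loc (isLocalization_rs (𝒲.W k).2 hE f hEf) hf
  exact PrimeSpectrum.localization_away_comap_range (pieceRing B k f hE) (⟨f, hf⟩ : B k)

/-- The key compatibility of pieces. -/
theorem ad_piece (hf : f ∈ B k) (hEf : E = S.basicOpen f) {l : Fin 𝒲.n} (hl : E ≤ (𝒲.W l).1)
    (hb : ∀ b ∈ B l, rs hl b ∈ pieceRing B k f hE) {Q : Scheme.{u}} (w : Q ⟶ (𝒲.W k).1.toScheme)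
    (y : Q ⟶ Spec (CommRingCat.of (pieceRing B k f hE))) (hy : y ≫ pieceι B k f hE = w ≫ pr B k) :
    Ad B l (w ≫ (𝒲.W k).1.ι) (y ≫ pieceMap B k f hE l hl hb) := by
  haveI := isOpenImmersion_pieceι (hE := hE) hf hEf
  have hr : Set.range (w ≫ (𝒲.W k).1.ι) ⊆ Set.range E.ι := by
    rintro _ ⟨q, rfl⟩
    rw [Scheme.Opens.range_ι]
    have h1 : pr B k (w q) ∈ (PrimeSpectrum.basicOpen (⟨f, hf⟩ : B k) : (Ch B k).Opens) := by
      show (w ≫ pr B k) q ∈ _
      rw [← hy]
      exact (range_pieceι hf hEf).le ⟨y q, rfl⟩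
    have h2 : w q ∈ pr B k ⁻¹ᵁ (PrimeSpectrum.basicOpen (⟨f, hf⟩ : B k) : (Ch B k).Opens) := h1
    rw [qmap_preimage_basicOpen] at h2
    rw [hEf]
    exact h2
  let wE := IsOpenImmersion.lift E.ι (w ≫ (𝒲.W k).1.ι) hr
  have hwE : wE ≫ S.homOfLE hE = w := by
    rw [← cancel_mono (𝒲.W k).1.ι, Category.assoc, Scheme.homOfLE_ι, IsOpenImmersion.lift_fac]
  have hy' : y = wE ≫ qmap _ := by
    rw [← cancel_mono (pieceι B k f hE), hy, Category.assoc]
    refine Eq.trans ?_ (congrArg (wE ≫ ·) (qmap_restr (B k) _ hE fun _ hb => map_mem_loc hb).symm)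
    rw [← Category.assoc, hwE]
  refine ⟨wE ≫ S.homOfLE hl, by rw [Category.assoc, Scheme.homOfLE_ι, IsOpenImmersion.lift_fac], ?_⟩
  rw [hy', Category.assoc, Category.assoc, pieceMap, qmap_restr]

end Piece

end Cov

end GrothLib.AbsApprox
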