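import Groth.Agent.Lib.FgSupport6.Exists
import Mathlib.AlgebraicGeometry.Morphisms.FinitePresentation
import Mathlib.AlgebraicGeometry.Morphisms.ClosedImmersion
import Mathlib.CategoryTheory.Category.Preorder
import Mathlib.CategoryTheory.Comma.Over.Basic

/-!
# A closed immersion is a limit of closed immersions of finite presentation
-/

set_option autoImplicit false
set_option backward.isDefEq.respectTransparency false
set_option linter.style.haveILetI false

universe u

open CategoryTheory CategoryTheory.Limits AlgebraicGeometry TopologicalSpace Opposite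

namespace GrothLib.AbsApprox

variable {X Y : Scheme.{u}}

/-- Closed subschemes cut out by finitely generated ideals are of finite presentation. -/
theorem lfp_subschemeι (J : Y.IdealSheafData) (hJ : ∀ U : Y.affineOpens, (J.ideal U).FG) :
    LocallyOfFinitePresentation J.subschemeι := by
  rw [HasRingHomProperty.iff_exists_appLE (P := @LocallyOfFinitePresentation)
    (RingHom.finitePresentation_stableUnderComposition.stableUnderCompositionWithLocalizationAway
      RingHom.finitePresentation_holdsForLocalizationAway).1]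
  intro d
  obtain ⟨_, ⟨U, hU, rfl⟩, hd, -⟩ :=
    Y.isBasis_affineOpens.exists_subset_of_mem_open (Set.mem_univ (J.subschemeι d)) isOpen_univ
  refine ⟨⟨U, hU⟩, ⟨J.subschemeι ⁻¹ᵁ U, hU.preimage J.subschemeι⟩, hd, le_rfl, ?_⟩
  rw [← Scheme.Hom.app_eq_appLE]
  refine RingHom.FinitePresentation.of_surjective _ (J.subschemeι_app_surjective ⟨U, hU⟩) ?_
  rw [Scheme.IdealSheafData.ker_subschemeι_app J ⟨U, hU⟩]
  exact hJ _

variable (ι : X ⟶ Y)

/-- The finitely generated ideal sheaves contained in the ideal of a closed immersion. -/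
abbrev FgSub : Type u := {J : Y.IdealSheafData // J ≤ ι.ker ∧ ∀ U : Y.affineOpens, (J.ideal U).FG}

instance : IsDirected (FgSub ι) (· ≤ ·) :=
  ⟨fun a b => ⟨⟨a.1 ⊔ b.1, sup_le a.2.1 b.2.1, fun U => Submodule.FG.sup (a.2.2 U) (b.2.2 U)⟩, le_sup_left (a := a.1),
    le_sup_right (b := b.1)⟩⟩

instance : Nonempty (FgSub ι) := ⟨⟨⊥, bot_le, fun U => by simp only [Scheme.IdealSheafData.ideal_bot, Pi.bot_apply]; exact Submodule.fg_bot⟩⟩

theorem exists_fgSub_mem [CompactSpace Y] [QuasiSeparatedSpace Y] (U : Y.affineOpens) (x : Γ(Y, U.1))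
    (hx : x ∈ ι.ker.ideal U) : ∃ J : FgSub ι, x ∈ J.1.ideal U := by
  classical
  let 𝒰 := Y.affineCover.finiteSubcover
  let V : Option 𝒰.I₀ → Y.affineOpens := fun o => o.elim U fun i => ⟨(𝒰.f i).opensRange, isAffineOpen_opensRange _⟩
  let D : ∀ o, Finset Γ(Y, (V o).1) := fun o => match o with
    | none => {x}
    | some _ => ∅
  obtain ⟨M, hM, hfg, hD⟩ := FgSupport6.exists_fg_le V ι.ker D fun o => by
    cases o with
    | none => simpa [D, V] using hx
    | some _ => simp [D]
  refine ⟨⟨M, hM, fun W => FgSupport6.fg_of_cover M V (fun y => ⟨some _, 𝒰.covers y⟩) hfg W⟩, ?_⟩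
  exact hD none (show x ∈ (D none : Set Γ(Y, (V none).1)) by simp [D])

/-- The system of finitely presented closed subschemes containing `X`. -/
noncomputable def closedSys : (FgSub ι)ᵒᵖ ⥤ Over Y where
  obj J := Over.mk J.unop.1.subschemeι
  map {J K} a := Over.homMk (Scheme.IdealSheafData.inclusion (show K.unop.1 ≤ J.unop.1 from a.unop.le))
    (Scheme.IdealSheafData.inclusion_subschemeι _)
  map_id J := by
    ext1
    exact Scheme.IdealSheafData.inclusion_id _
  map_comp {J K L} a b := by
    ext1
    exact (Scheme.IdealSheafData.inclusion_comp _ _).symm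

theorem isClosedImmersion_inclusion {I J : Y.IdealSheafData} (h : I ≤ J) :
    IsClosedImmersion (Scheme.IdealSheafData.inclusion h) := by
  haveI : IsClosedImmersion (Scheme.IdealSheafData.inclusion h ≫ I.subschemeι) := by
    rw [Scheme.IdealSheafData.inclusion_subschemeι]; infer_instance
  exact IsClosedImmersion.of_comp _ I.subschemeι

variable [IsClosedImmersion ι]

/-- The cone with vertex `X`. -/
noncomputable def closedCone : Cone (closedSys ι) where
  pt := Over.mk ι
  π :=
    { app := fun J => Over.homMk
        (IsClosedImmersion.lift J.unop.1.subschemeι ι (by rw [Scheme.IdealSheafData.ker_subschemeι]; exact J.unop.2.1))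
        (IsClosedImmersion.lift_fac _ _ _)
      naturality := fun J K a => by
        ext1
        change 𝟙 X ≫ IsClosedImmersion.lift _ _ _ = IsClosedImmersion.lift _ _ _ ≫ Scheme.IdealSheafData.inclusion _
        rw [← cancel_mono K.unop.1.subschemeι]
        simp [IsClosedImmersion.lift_fac] }

theorem ker_le_of_cone [CompactSpace Y] [QuasiSeparatedSpace Y] (s : Cone (closedSys ι)) :
    ι.ker ≤ s.pt.hom.ker := by
  intro U x hx
  obtain ⟨J, hJ⟩ := exists_fgSub_mem ι U x hx
  have h : J.1 ≤ s.pt.hom.ker := by
    have hw : (s.π.app (op J)).left ≫ J.1.subschemeι = s.pt.hom := Over.w (s.π.app (op J))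
    rw [← hw]
    exact (Scheme.IdealSheafData.ker_subschemeι J.1).ge.trans (Scheme.Hom.le_ker_comp _ _)
  exact h U hJ

/-- `X` is the limit of the finitely presented closed subschemes containing it. -/
noncomputable def isLimitClosedCone [CompactSpace Y] [QuasiSeparatedSpace Y] : IsLimit (closedCone ι) where
  lift s := Over.homMk (IsClosedImmersion.lift ι s.pt.hom (ker_le_of_cone ι s)) (IsClosedImmersion.lift_fac _ _ _)
  fac s J := by
    ext1
    change IsClosedImmersion.lift ι s.pt.hom _ ≫ IsClosedImmersion.lift _ _ _ = (s.π.app J).left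
    have h1 : (s.π.app J).left ≫ J.unop.1.subschemeι = s.pt.hom := Over.w (s.π.app J)
    rw [← cancel_mono J.unop.1.subschemeι, Category.assoc, IsClosedImmersion.lift_fac, IsClosedImmersion.lift_fac, h1]
  uniq s m _ := by
    ext1
    change m.left = IsClosedImmersion.lift ι s.pt.hom _
    rw [← cancel_mono ι, IsClosedImmersion.lift_fac]
    exact Over.w m

end GrothLib.AbsApprox
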