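import Groth.Agent.Lib.AbsApprox.ClosedApprox
import Groth.Agent.Lib.BlowUp.IdealComap
import Mathlib.AlgebraicGeometry.AffineTransitionLimit

/-!
# Ideal sheaves on a system of closed subschemes
-/

set_option autoImplicit false
set_option backward.isDefEq.respectTransparency false
set_option linter.style.haveILetI false

universe u

open CategoryTheory CategoryTheory.Limits AlgebraicGeometry TopologicalSpace Opposite

namespace GrothLib.AbsApprox

variable {X Y : Scheme.{u}} (ι : X ⟶ Y)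

theorem comap_mono_right (M : Y.IdealSheafData) {N : Y.IdealSheafData} {K K' : Y.IdealSheafData} (h : K ≤ K')
    (hM : M.comap K.subschemeι ≤ N.comap K.subschemeι) :
    M.comap K'.subschemeι ≤ N.comap K'.subschemeι := by
  rw [← Scheme.IdealSheafData.inclusion_subschemeι h, Scheme.IdealSheafData.comap_comp,
    Scheme.IdealSheafData.comap_comp]
  exact (Scheme.IdealSheafData.map_gc _).monotone_l hM

/-- Finitely many elements of the ideal of a closed subscheme lie in a small one. -/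
theorem exists_fgSub_ideals_le [CompactSpace Y] [QuasiSeparatedSpace Y] {κ : Type*} [Finite κ]
    (U : κ → Y.affineOpens) (P Q : ∀ k, Ideal Γ(Y, (U k).1)) (hP : ∀ k, (P k).FG)
    (h : ∀ k, P k ≤ Q k ⊔ ι.ker.ideal (U k)) (K₀ : FgSub ι) :
    ∃ K : FgSub ι, K₀ ≤ K ∧ ∀ k, P k ≤ Q k ⊔ K.1.ideal (U k) := by
  classical
  choose s hs using hP
  have : ∀ x : Σ k, {g : Γ(Y, (U k).1) // g ∈ s k}, ∃ K : FgSub ι, x.2.1 ∈ Q x.1 ⊔ K.1.ideal (U x.1) := by
    rintro ⟨k, g, hg⟩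
    obtain ⟨a, ha, b, hb, e⟩ := Submodule.mem_sup.1 (h k ((hs k) ▸ Ideal.subset_span (Finset.mem_coe.2 hg) : g ∈ P k))
    obtain ⟨K, hK⟩ := exists_fgSub_mem ι (U k) b hb
    exact ⟨K, Submodule.mem_sup.2 ⟨a, ha, b, hK, e⟩⟩
  choose K hK using this
  obtain ⟨K', hK'⟩ := Finite.exists_le (fun o : Option (Σ k, {g : Γ(Y, (U k).1) // g ∈ s k}) => o.elim K₀ K)
  refine ⟨K', hK' none, fun k => ?_⟩
  rw [← hs k]
  refine Ideal.span_le.2 fun g hg => ?_
  exact sup_le_sup_left ((hK' (some ⟨k, g, hg⟩)) (U k)) _ (hK ⟨k, g, hg⟩)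

theorem ideal_comap_subschemeι (M K : Y.IdealSheafData) (U : Y.affineOpens) :
    (M.comap K.subschemeι).ideal ⟨K.subschemeι ⁻¹ᵁ U.1, U.2.preimage K.subschemeι⟩ =
      (M.ideal U).map (K.subschemeι.app U.1).hom := by
  rw [GrothLib.BlowUp.ideal_comap_eq_map M K.subschemeι U _ le_rfl, Scheme.Hom.app_eq_appLE]

theorem map_le_of_le_sup (K : Y.IdealSheafData) (U : Y.affineOpens) {P Q : Ideal Γ(Y, U.1)}
    (h : P ≤ Q ⊔ K.ideal U) :
    P.map (K.subschemeι.app U.1).hom ≤ Q.map (K.subschemeι.app U.1).hom := by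
  refine (Ideal.map_mono h).trans ?_
  rw [Ideal.map_sup, sup_le_iff]
  refine ⟨le_rfl, Ideal.map_le_iff_le_comap.2 fun x hx => ?_⟩
  rw [← Scheme.IdealSheafData.ker_subschemeι_app K U, RingHom.mem_ker] at hx
  show _ ∈ Q.map _
  rw [hx]
  exact zero_mem _

theorem le_sup_of_comap_le [IsClosedImmersion ι] {M N : Y.IdealSheafData} (U : Y.affineOpens)
    (h : M.comap ι ≤ N.comap ι) : M.ideal U ≤ N.ideal U ⊔ ι.ker.ideal U := by
  have h' := h ⟨ι ⁻¹ᵁ U.1, U.2.preimage ι⟩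
  rw [GrothLib.BlowUp.ideal_comap_eq_map M ι U _ le_rfl, GrothLib.BlowUp.ideal_comap_eq_map N ι U _ le_rfl,
    ← Scheme.Hom.app_eq_appLE, Ideal.map_le_iff_le_comap,
    Ideal.comap_map_of_surjective _ (ι.app_surjective U.1 U.2)] at h'
  rw [Scheme.Hom.ker_apply]
  exact h'

theorem exists_finite_affine_cover (Z : Scheme.{u}) [CompactSpace Z] :
    ∃ (κ : Type u) (_ : Finite κ) (U : κ → Z.affineOpens), ⨆ k, (U k).1 = ⊤ := by
  let 𝒰 := Z.affineCover.finiteSubcover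
  refine ⟨𝒰.I₀, inferInstance, fun i => ⟨_, isAffineOpen_opensRange (𝒰.f i)⟩, ?_⟩
  exact top_unique fun y _ => Opens.mem_iSup.2 ⟨_, 𝒰.covers y⟩

/-- An inclusion of pulled back ideals holds on a small closed subscheme. -/
theorem exists_fgSub_comap_le [IsClosedImmersion ι] [CompactSpace Y] [QuasiSeparatedSpace Y]
    {M N : Y.IdealSheafData} (hM : ∀ U : Y.affineOpens, (M.ideal U).FG) (h : M.comap ι ≤ N.comap ι)
    (K₀ : FgSub ι) :
    ∃ K : FgSub ι, K₀ ≤ K ∧ M.comap K.1.subschemeι ≤ N.comap K.1.subschemeι := by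
  obtain ⟨κ, _, U, hU⟩ := exists_finite_affine_cover Y
  obtain ⟨K, h0, hK⟩ := exists_fgSub_ideals_le ι U (fun k => M.ideal (U k)) (fun k => N.ideal (U k))
    (fun k => hM _) (fun k => le_sup_of_comap_le ι (U k) h) K₀
  refine ⟨K, h0, Scheme.IdealSheafData.le_of_iSup_eq_top
    (fun k => ⟨K.1.subschemeι ⁻¹ᵁ (U k).1, (U k).2.preimage K.1.subschemeι⟩) ?_ fun k => ?_⟩
  · show ⨆ k, K.1.subschemeι ⁻¹ᵁ (U k).1 = ⊤
    rw [← Scheme.Hom.preimage_iSup, hU, Scheme.Hom.preimage_top]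
  · rw [ideal_comap_subschemeι, ideal_comap_subschemeι]
    exact map_le_of_le_sup K.1 (U k) (hK k)

/-- Small closed subschemes lie in a given neighbourhood. -/
theorem exists_fgSub_preimage_eq_top [IsClosedImmersion ι] [CompactSpace Y] [QuasiSeparatedSpace Y]
    (O : Y.Opens) (hO : ι ⁻¹ᵁ O = ⊤) (K₀ : FgSub ι) :
    ∃ K : FgSub ι, K₀ ≤ K ∧ K.1.subschemeι ⁻¹ᵁ O = ⊤ := by
  let G := closedSys ι ⋙ Over.forget Y
  let cG := (Over.forget Y).mapCone (closedCone ι)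
  have hG : IsLimit cG := isLimitOfPreserves _ (isLimitClosedCone ι)
  haveI : ∀ {i j} (f : i ⟶ j), IsAffineHom (G.map f) := fun {i j} f =>
    haveI : IsClosedImmersion (G.map f) := isClosedImmersion_inclusion (show j.unop.1 ≤ i.unop.1 from f.unop.le)
    inferInstance
  haveI : ∀ i, CompactSpace ↥(G.obj i) := fun i =>
    QuasiCompact.compactSpace_of_compactSpace i.unop.1.subschemeι
  obtain ⟨j, a, hj⟩ := exists_map_eq_top G cG hG (i := op K₀) (K₀.1.subschemeι ⁻¹ᵁ O) (by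
    rw [← Scheme.Hom.comp_preimage]
    have e : ((closedCone ι).π.app (op K₀)).left ≫ K₀.1.subschemeι = ι := Over.w ((closedCone ι).π.app (op K₀))
    exact (congrArg (· ⁻¹ᵁ O) e).trans hO)
  refine ⟨j.unop, a.unop.le, ?_⟩
  rw [← Scheme.IdealSheafData.inclusion_subschemeι (show K₀.1 ≤ j.unop.1 from a.unop.le),
    Scheme.Hom.comp_preimage]
  exact hj

/-- A locally principal ideal of a closed subscheme extends to a finitely generated ideal which is
principal near the subscheme, modulo the ideal of the subscheme. -/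
theorem exists_fg_lift [IsClosedImmersion ι] [CompactSpace Y] [QuasiSeparatedSpace Y]
    (I : X.IdealSheafData)
    (hI : ∀ x : X, ∃ W : X.affineOpens, x ∈ W.1 ∧ ∃ f : Γ(X, W.1), I.ideal W = Ideal.span {f}) :
    ∃ L : Y.IdealSheafData, (∀ U : Y.affineOpens, (L.ideal U).FG) ∧ L.comap ι = I ∧
      ∃ (κ : Type u) (_ : Finite κ) (U : κ → Y.affineOpens) (f : ∀ k, Γ(Y, (U k).1)),
        ι ⁻¹ᵁ (⨆ k, (U k).1) = ⊤ ∧ ∀ k, f k ∈ L.ideal (U k) ∧
          L.ideal (U k) ≤ Ideal.span {f k} ⊔ ι.ker.ideal (U k) := by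
  classical
  haveI : CompactSpace X := QuasiCompact.compactSpace_of_compactSpace ι
  have key : ∀ x : X, ∃ U : Y.affineOpens, x ∈ ι ⁻¹ᵁ U.1 ∧ ∃ f : Γ(Y, U.1),
      I.ideal ⟨ι ⁻¹ᵁ U.1, U.2.preimage ι⟩ = Ideal.span {ι.app U.1 f} := by
    intro x
    obtain ⟨W, hxW, g, hg⟩ := hI x
    obtain ⟨O, hO, hOW⟩ := ι.isEmbedding.isInducing.isOpen_iff.mp W.1.2
    obtain ⟨_, ⟨U, hU, rfl⟩, hxU, hUO⟩ := Y.isBasis_affineOpens.exists_subset_of_mem_open
      (show ι x ∈ O from hOW.symm.subset hxW) hO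
    have hle : ι ⁻¹ᵁ U ≤ W.1 := fun y hy => hOW.subset (hUO hy)
    obtain ⟨f, hf⟩ := ι.app_surjective U hU (X.presheaf.map (homOfLE hle).op g)
    refine ⟨⟨U, hU⟩, hxU, f, ?_⟩
    rw [← I.map_ideal (U := ⟨ι ⁻¹ᵁ U, hU.preimage ι⟩) (V := W) hle, hg, Ideal.map_span,
      Set.image_singleton, hf]
    rfl
  choose U hxU f hf using key
  obtain ⟨t, ht⟩ := isCompact_univ.elim_finite_subcover (fun x : X => ((ι ⁻¹ᵁ (U x).1 : X.Opens) : Set X))
    (fun x => (ι ⁻¹ᵁ (U x).1).2) (fun x _ => Set.mem_iUnion.2 ⟨x, hxU x⟩)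
  obtain ⟨κ', _, U', hU'⟩ := exists_finite_affine_cover Y
  haveI := Fintype.ofFinite κ'
  let V : {x // x ∈ t} ⊕ κ' → Y.affineOpens := Sum.elim (fun x => U x.1) U'
  let D : ∀ k, Finset Γ(Y, (V k).1) := fun k => match k with
    | Sum.inl x => {f x.1}
    | Sum.inr _ => ∅
  obtain ⟨L, hL, hfg, hDL⟩ := FgSupport6.exists_fg_le V (I.map ι) D fun k => by
    cases k with
    | inr i => simp [D]
    | inl x =>
      intro y hy
      simp only [D, Finset.coe_singleton, Set.mem_singleton_iff] at hy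
      subst hy
      show f x.1 ∈ (I.map ι).ideal (U x.1)
      rw [Scheme.IdealSheafData.ideal_map_of_isAffineHom, Ideal.mem_comap, hf x.1]
      exact Ideal.subset_span rfl
  have hfL : ∀ x : {x // x ∈ t}, f x.1 ∈ L.ideal (U x.1) := fun x =>
    hDL (Sum.inl x) (Finset.mem_coe.2 (Finset.mem_singleton_self _))
  have hcov : ι ⁻¹ᵁ (⨆ x : {x // x ∈ t}, (U x.1).1) = ⊤ := top_unique fun x _ => by
    obtain ⟨y, hy, hxy⟩ := Set.mem_iUnion₂.1 (ht (Set.mem_univ x))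
    show ι x ∈ ⨆ x : {x // x ∈ t}, (U x.1).1
    exact Opens.mem_iSup.2 ⟨⟨y, hy⟩, hxy⟩
  have hle : L.comap ι ≤ I := Scheme.IdealSheafData.le_map_iff_comap_le.1 hL
  have heq : ∀ x : {x // x ∈ t}, (L.comap ι).ideal ⟨ι ⁻¹ᵁ (U x.1).1, (U x.1).2.preimage ι⟩ =
      I.ideal ⟨ι ⁻¹ᵁ (U x.1).1, (U x.1).2.preimage ι⟩ := fun x => by
    refine le_antisymm (hle _) ?_
    rw [hf x.1, GrothLib.BlowUp.ideal_comap_eq_map L ι (U x.1) _ le_rfl, ← Scheme.Hom.app_eq_appLE,
      Ideal.span_singleton_le_iff_mem]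
    exact Ideal.mem_map_of_mem _ (hfL x)
  refine ⟨L, fun W => FgSupport6.fg_of_cover L V (fun y => ?_) hfg W,
    Scheme.IdealSheafData.ext_of_iSup_eq_top _ (by rw [← Scheme.Hom.preimage_iSup]; exact hcov) heq,
    {x // x ∈ t}, inferInstance, fun x => U x.1, fun x => f x.1, hcov, fun x => ⟨hfL x, ?_⟩⟩
  · obtain ⟨i, hi⟩ := Opens.mem_iSup.1 (hU'.ge (Set.mem_univ y))
    exact ⟨Sum.inr i, hi⟩
  · have h1 := (heq x).le
    rw [hf x.1, GrothLib.BlowUp.ideal_comap_eq_map L ι (U x.1) _ le_rfl, ← Scheme.Hom.app_eq_appLE,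
      Ideal.map_le_iff_le_comap, ← Set.image_singleton, ← Ideal.map_span,
      Ideal.comap_map_of_surjective _ (ι.app_surjective _ (U x.1).2)] at h1
    rw [Scheme.Hom.ker_apply]
    exact h1

/-- A small closed subscheme agrees with `X` where the immersion is of finite presentation. -/
theorem exists_fgSub_ker_le [IsClosedImmersion ι] [CompactSpace Y] [QuasiSeparatedSpace Y]
    {κ : Type*} [Finite κ] (U : κ → Y.affineOpens) (hfg : ∀ k, (ι.ker.ideal (U k)).FG) (K₀ : FgSub ι) :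
    ∃ K : FgSub ι, K₀ ≤ K ∧ ∀ k, ι.ker.ideal (U k) ≤ K.1.ideal (U k) := by
  obtain ⟨K, h0, hK⟩ := exists_fgSub_ideals_le ι U (fun k => ι.ker.ideal (U k)) (fun k => ⊥) hfg
    (fun k => le_sup_right) K₀
  exact ⟨K, h0, fun k => (hK k).trans (by simp)⟩

end GrothLib.AbsApprox
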