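import Mathlib.AlgebraicGeometry.AffineTransitionLimit
import Mathlib.AlgebraicGeometry.Morphisms.ClosedImmersion
import Mathlib.AlgebraicGeometry.Morphisms.FiniteType

/-!
# A closed subscheme of finite type of a limit embeds in a stage
-/

set_option autoImplicit false
set_option backward.isDefEq.respectTransparency false
set_option linter.style.haveILetI false

universe u

open CategoryTheory CategoryTheory.Limits AlgebraicGeometry TopologicalSpace Opposite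

namespace GrothLib.AbsApprox

theorem exists_isClosedImmersion_of_isAffine {J : Type u} [SmallCategory J] [IsCofiltered J]
    (G : J ⥤ Scheme.{u}) (cG : Cone G) (hG : IsLimit cG) [∀ i, IsAffine (G.obj i)]
    {Y : Scheme.{u}} (h : Y ⟶ cG.pt) [IsClosedImmersion h] (i₀ : J)
    [LocallyOfFiniteType (h ≫ cG.π.app i₀)] :
    ∃ k : J, IsClosedImmersion (h ≫ cG.π.app k) := by
  classical
  haveI : IsAffine cG.pt := Scheme.isAffine_of_isLimit cG hG
  haveI : IsAffine Y := isAffine_of_isAffineHom h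
  let a : Y ⟶ G.obj i₀ := h ≫ cG.π.app i₀
  have hft : a.appTop.hom.FiniteType := HasRingHomProperty.appTop @LocallyOfFiniteType a inferInstance
  algebraize [a.appTop.hom]
  obtain ⟨s, hs⟩ := hft
  have key : ∀ b : Γ(Y, ⊤), ∃ (j : J) (_φ : j ⟶ i₀), b ∈ (h ≫ cG.π.app j).appTop.hom.range := by
    intro b
    obtain ⟨x, rfl⟩ := (IsClosedImmersion.isAffine_surjective_of_isAffine (f := h)).2 b
    obtain ⟨j, t, rfl⟩ := exists_appTop_π_eq_of_isAffine_of_isLimit G cG hG x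
    obtain ⟨j', φ₁, φ₂, -⟩ := IsCofilteredOrEmpty.cone_objs j i₀
    refine ⟨j', φ₂, (G.map φ₁).appTop t, ?_⟩
    rw [← cG.w φ₁]
    simp only [Scheme.Hom.comp_appTop, CommRingCat.comp_apply]
    rfl
  choose jb φb hjb using key
  obtain ⟨k, φk, g, hg⟩ := IsCofiltered.wideCospan (I := {b // b ∈ s}) (fun b => φb b.1)
  refine ⟨k, ?_⟩
  have hrange : ∀ {j : J} (g : k ⟶ j), (h ≫ cG.π.app j).appTop.hom.range ≤ (h ≫ cG.π.app k).appTop.hom.range := by
    rintro j g _ ⟨t, rfl⟩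
    refine ⟨(G.map g).appTop t, ?_⟩
    rw [← cG.w g]
    simp only [Scheme.Hom.comp_appTop, CommRingCat.comp_apply]
  refine IsClosedImmersion.of_surjective_of_isAffine _ fun b => ?_
  have hb : b ∈ Algebra.adjoin Γ(G.obj i₀, ⊤) (s : Set Γ(Y, ⊤)) := hs ▸ Algebra.mem_top
  show b ∈ (h ≫ cG.π.app k).appTop.hom.range
  induction hb using Algebra.adjoin_induction with
  | mem b hb => exact hrange (g ⟨b, hb⟩) (hjb b)
  | algebraMap r => exact hrange φk ⟨r, rfl⟩
  | add x y _ _ hx hy => exact add_mem hx hy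
  | mul x y _ _ hx hy => exact mul_mem hx hy

variable {I : Type u} [SmallCategory I] [IsCofiltered I] (D : I ⥤ Scheme.{u}) (c : Cone D) (hc : IsLimit c)
  [∀ (i j : I) (f : i ⟶ j), IsAffineHom (D.map f)] [∀ i, CompactSpace (D.obj i)]

include hc

/-- A closed subscheme of the limit which is of finite type over one stage is a closed subscheme of
all small enough stages. -/
theorem exists_isClosedImmersion_stage {Y : Scheme.{u}} (h : Y ⟶ c.pt) [IsClosedImmersion h] (i₀ : I)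
    [LocallyOfFiniteType (h ≫ c.π.app i₀)] :
    ∃ k : I, ∀ (i : I) (_ : i ⟶ k), IsClosedImmersion (h ≫ c.π.app i) := by
  classical
  have step : ∀ U : (D.obj i₀).affineOpens, ∃ k : Over i₀, ∀ j : Over i₀, (j ⟶ k) →
      IsClosedImmersion ((h ≫ c.π.app j.left) ∣_ (D.map j.hom ⁻¹ᵁ U.1)) := by
    intro U
    let G := opensDiagram D i₀ U.1
    let cG := opensCone D c i₀ U.1
    haveI : ∀ j : Over i₀, IsAffine (G.obj j) := fun j => U.2.preimage (D.map j.hom)
    let W := c.π.app i₀ ⁻¹ᵁ U.1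
    let hW : (h ⁻¹ᵁ W).toScheme ⟶ cG.pt := h ∣_ W
    haveI : IsClosedImmersion hW := IsZariskiLocalAtTarget.restrict ‹IsClosedImmersion h› W
    have hres : ∀ j : Over i₀,
        (h ⁻¹ᵁ W).ι ≫ h ≫ c.π.app j.left = (hW ≫ cG.π.app j) ≫ (D.map j.hom ⁻¹ᵁ U.1).ι := by
      intro j
      simp only [hW, cG, opensCone_π_app, Category.assoc, Scheme.Hom.resLE_comp_ι]
      rw [← Category.assoc, ← Category.assoc, morphismRestrict_ι]
    haveI : LocallyOfFiniteType (hW ≫ cG.π.app (Over.mk (𝟙 i₀))) := by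
      haveI : LocallyOfFiniteType ((hW ≫ cG.π.app (Over.mk (𝟙 i₀))) ≫ (D.map (𝟙 i₀) ⁻¹ᵁ U.1).ι) := by
        have h1 : LocallyOfFiniteType ((h ⁻¹ᵁ W).ι ≫ h ≫ c.π.app i₀) := inferInstance
        exact (hres (Over.mk (𝟙 i₀))) ▸ h1
      exact locallyOfFiniteType_of_comp _ (D.map (𝟙 i₀) ⁻¹ᵁ U.1).ι
    obtain ⟨k, hk⟩ := exists_isClosedImmersion_of_isAffine G cG (isLimitOpensCone D c hc i₀ U.1) hW (Over.mk (𝟙 i₀))
    refine ⟨k, fun j g => ?_⟩
    have hj : IsClosedImmersion (hW ≫ cG.π.app j) := by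
      haveI : IsClosedImmersion ((hW ≫ cG.π.app j) ≫ G.map g) := by
        rw [Category.assoc, cG.w g]; exact hk
      exact IsClosedImmersion.of_comp _ (G.map g)
    have e : h ⁻¹ᵁ W = (h ≫ c.π.app j.left) ⁻¹ᵁ (D.map j.hom ⁻¹ᵁ U.1) := by
      show (h ≫ c.π.app i₀) ⁻¹ᵁ U.1 = ((h ≫ c.π.app j.left) ≫ D.map j.hom) ⁻¹ᵁ U.1
      rw [Category.assoc, c.w j.hom]
    have e2 : (h ≫ c.π.app j.left) ∣_ (D.map j.hom ⁻¹ᵁ U.1) = (Y.isoOfEq e).inv ≫ hW ≫ cG.π.app j := by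
      rw [← cancel_mono (D.map j.hom ⁻¹ᵁ U.1).ι, morphismRestrict_ι, Category.assoc, ← hres]
      simp
    rw [e2]
    infer_instance
  choose k hk using step
  obtain ⟨t, ht⟩ := isCompact_univ.elim_finite_subcover (fun U : (D.obj i₀).affineOpens => (U.1 : Set (D.obj i₀)))
    (fun U => U.1.2) (fun x _ => by
      obtain ⟨_, ⟨U, hU, rfl⟩, hx, -⟩ :=
        (D.obj i₀).isBasis_affineOpens.exists_subset_of_mem_open (Set.mem_univ x) isOpen_univ
      exact Set.mem_iUnion.2 ⟨⟨U, hU⟩, hx⟩)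
  obtain ⟨k', φ, g, hg⟩ := IsCofiltered.wideCospan (I := {U // U ∈ t}) (fun U => (k U.1).hom)
  refine ⟨k', fun i ψ => ?_⟩
  refine IsZariskiLocalAtTarget.of_iSup_eq_top (P := @IsClosedImmersion)
    (fun U : {U // U ∈ t} => D.map (ψ ≫ φ) ⁻¹ᵁ U.1.1) ?_ fun U => ?_
  · refine top_unique fun x _ => ?_
    obtain ⟨U, hU, hx⟩ := Set.mem_iUnion₂.1 (ht (Set.mem_univ (D.map (ψ ≫ φ) x)))
    exact Opens.mem_iSup.2 ⟨⟨U, hU⟩, hx⟩
  · exact hk U.1 (Over.mk (ψ ≫ φ)) (Over.homMk (ψ ≫ g U) (by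
      show (ψ ≫ g U) ≫ (k U.1).hom = ψ ≫ φ
      rw [Category.assoc, hg]))

end GrothLib.AbsApprox
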