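import Groth.Agent.Lib.AbsApprox.RelMain
import Groth.Agent.Lib.AbsApprox.ClosedStage

/-!
# Closed immersions into schemes of finite presentation
-/

set_option autoImplicit false
set_option backward.isDefEq.respectTransparency false
set_option linter.style.haveILetI false

universe u

open CategoryTheory CategoryTheory.Limits AlgebraicGeometry TopologicalSpace Opposite

namespace GrothLib.AbsApprox

variable {X S : Scheme.{u}}

/-- The stages of the approximation of a scheme of finite type contain it as a closed subscheme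
from some index on. -/
theorem exists_rel_approx_closed (f : X ⟶ S) [LocallyOfFiniteType f] [CompactSpace X] [QuasiSeparatedSpace X]
    [QuasiSeparatedSpace S] :
    ∃ (I : Type u) (_ : Preorder I) (_ : IsDirected I (fun a b => a ≤ b)) (_ : Nonempty I)
      (D : Iᵒᵖ ⥤ Over S) (π : (Functor.const Iᵒᵖ).obj (Over.mk f) ⟶ D)
      (_ : IsLimit (Cone.mk (Over.mk f) π)),
      (∀ i, LocallyOfFinitePresentation (D.obj i).hom ∧ QuasiCompact (D.obj i).hom ∧
        QuasiSeparated (D.obj i).hom ∧ CompactSpace (D.obj i).left ∧ QuasiSeparatedSpace (D.obj i).left) ∧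
      (∀ (i j : Iᵒᵖ) (a : i ⟶ j), IsAffineHom (D.map a).left) ∧
      ∃ k : Iᵒᵖ, ∀ (i : Iᵒᵖ) (_ : i ⟶ k), IsClosedImmersion (π.app i).left := by
  obtain ⟨I, _, _, _, D, π, hl, h1, h2, -⟩ := exists_rel_approx f
  haveI : ∀ (i j : Iᵒᵖ) (a : i ⟶ j), IsAffineHom ((D ⋙ Over.forget S).map a) := h2
  haveI : ∀ i, CompactSpace ↥((D ⋙ Over.forget S).obj i) := fun i => (h1 i).2.2.2.1
  have hl' := isLimitOfPreserves (Over.forget S) hl
  obtain ⟨i₀⟩ : Nonempty Iᵒᵖ := inferInstance
  let h : X ⟶ ((Over.forget S).mapCone (Cone.mk (Over.mk f) π)).pt := 𝟙 X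
  haveI : IsClosedImmersion h := inferInstanceAs (IsClosedImmersion (𝟙 X))
  haveI : LocallyOfFiniteType (h ≫ ((Over.forget S).mapCone (Cone.mk (Over.mk f) π)).π.app i₀) := by
    haveI : LocallyOfFiniteType ((π.app i₀).left ≫ (D.obj i₀).hom) := by
      rw [Over.w (π.app i₀)]
      exact ‹LocallyOfFiniteType f›
    haveI := locallyOfFiniteType_of_comp (π.app i₀).left (D.obj i₀).hom
    show LocallyOfFiniteType (𝟙 X ≫ (π.app i₀).left)
    rw [Category.id_comp]
    infer_instance
  obtain ⟨k, hk⟩ := exists_isClosedImmersion_stage (D ⋙ Over.forget S) _ hl' h i₀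
  refine ⟨I, inferInstance, inferInstance, inferInstance, D, π, hl, h1, h2, k, fun i a => ?_⟩
  have := hk i a
  change IsClosedImmersion (𝟙 X ≫ (π.app i).left) at this
  rwa [Category.id_comp] at this

/-- A scheme of finite type over a quasi-separated scheme is a closed subscheme of a scheme of
finite presentation. -/
theorem exists_closedImmersion_fp (f : X ⟶ S) [LocallyOfFiniteType f] [CompactSpace X]
    [QuasiSeparatedSpace X] [QuasiSeparatedSpace S] :
    ∃ (X' : Scheme.{u}) (f' : X' ⟶ S) (j : X ⟶ X'), LocallyOfFinitePresentation f' ∧ QuasiCompact f' ∧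
      QuasiSeparated f' ∧ IsClosedImmersion j ∧ j ≫ f' = f := by
  obtain ⟨I, _, _, _, D, π, -, h1, -, k, hk⟩ := exists_rel_approx_closed f
  exact ⟨_, (D.obj k).hom, (π.app k).left, (h1 k).1, (h1 k).2.1, (h1 k).2.2.1, hk k (𝟙 k), Over.w (π.app k)⟩

end GrothLib.AbsApprox
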