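import Groth.Agent.Lib.AbsApprox.ClosedSystem

/-!
# The system of closed subschemes, over a base
-/

set_option autoImplicit false
set_option backward.isDefEq.respectTransparency false

universe u

open CategoryTheory CategoryTheory.Limits AlgebraicGeometry Opposite

namespace GrothLib.AbsApprox

variable {X Y S : Scheme.{u}} (ι : X ⟶ Y) [IsClosedImmersion ι] [CompactSpace Y] [QuasiSeparatedSpace Y]
  (f' : Y ⟶ S)

/-- A closed subscheme is the limit of the small ones also over the base. -/
theorem exists_isLimit_map : Nonempty (IsLimit ((Over.map f').mapCone (closedCone ι))) :=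
  ⟨{ lift := fun s => Over.homMk (exists_lift_map ι f' s).choose (exists_lift_map ι f' s).choose_spec.1
     fac := fun s J => Over.OverMorphism.ext ((exists_lift_map ι f' s).choose_spec.2 J)
     uniq := fun s m hm => Over.OverMorphism.ext <| by
       obtain ⟨J₀⟩ : Nonempty (FgSub ι) := inferInstance
       rw [← cancel_mono ι]
       have e : ι = ((closedCone ι).π.app (op J₀)).left ≫ J₀.1.subschemeι :=
         (Over.w ((closedCone ι).π.app (op J₀))).symm
       refine (congrArg (m.left ≫ ·) e).trans (Eq.trans ?_ (congrArg (_ ≫ ·) e).symm)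
       refine (Category.assoc _ _ _).symm.trans (Eq.trans ?_ (Category.assoc _ _ _))
       refine congrArg (· ≫ J₀.1.subschemeι) ?_
       exact (congr(($(hm (op J₀))).left)).trans ((exists_lift_map ι f' s).choose_spec.2 (op J₀)).symm }⟩

theorem proj_ι (J : (FgSub ι)ᵒᵖ) : ((closedCone ι).π.app J).left ≫ J.unop.1.subschemeι = ι :=
  Over.w ((closedCone ι).π.app J)

theorem isClosedImmersion_proj (J : (FgSub ι)ᵒᵖ) : IsClosedImmersion ((closedCone ι).π.app J).left := by
  haveI : IsClosedImmersion (((closedCone ι).π.app J).left ≫ J.unop.1.subschemeι) := by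
    rw [proj_ι]; infer_instance
  exact IsClosedImmersion.of_comp _ J.unop.1.subschemeι

end GrothLib.AbsApprox
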