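import Groth.Agent.Lib.AbsApprox.ClosedSystem
import Groth.Agent.Lib.LimDesc.Eventual
import Groth.Agent.Lib.LimDesc.EventualClosed

/-!
# Finite and separated approximations
-/

set_option autoImplicit false
set_option backward.isDefEq.respectTransparency false
set_option linter.style.haveILetI false

universe u

open CategoryTheory CategoryTheory.Limits AlgebraicGeometry TopologicalSpace Opposite

namespace GrothLib.AbsApprox

variable {X S : Scheme.{u}}

/-- The structure transformation of a diagram over `S`. -/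
def overHom {J : Type*} [Category J] (D : J ⥤ Over S) : D ⋙ Over.forget S ⟶ (Functor.const J).obj S where
  app i := (D.obj i).hom
  naturality _ _ a := (Over.w (D.map a)).trans (Category.comp_id _).symm

/-- A finite morphism is a limit of finite morphisms of finite presentation along closed immersions. -/
theorem exists_finite_system (f : X ⟶ S) [IsFinite f] [CompactSpace S] [QuasiSeparatedSpace S] :
    ∃ (I : Type u) (_ : Preorder I) (_ : IsDirected I (fun a b => a ≤ b)) (_ : Nonempty I)
      (D : Iᵒᵖ ⥤ Over S) (c : Cone D) (_ : IsLimit c),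
      (∀ i, IsFinite (D.obj i).hom ∧ LocallyOfFinitePresentation (D.obj i).hom) ∧
      (∀ (i j : Iᵒᵖ) (a : i ⟶ j), IsClosedImmersion (D.map a).left) ∧
      (∀ i, IsClosedImmersion (c.π.app i).left) ∧ Nonempty (c.pt ≅ Over.mk f) := by
  haveI : CompactSpace X := QuasiCompact.compactSpace_of_compactSpace f
  haveI : QuasiSeparatedSpace X := quasiSeparatedSpace_of_quasiSeparated f
  obtain ⟨I, _, _, _, D, π, hl, h1, h2, h3⟩ := exists_closed_system f
  haveI : ∀ (i j : Iᵒᵖ) (a : i ⟶ j), IsClosedImmersion ((D ⋙ Over.forget S).map a) := h2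
  haveI : ∀ (i j : Iᵒᵖ) (a : i ⟶ j), IsAffineHom ((D ⋙ Over.forget S).map a) :=
    fun i j a => haveI := h2 i j a; (inferInstance : IsAffineHom (D.map a).left)
  haveI : ∀ (i j : Iᵒᵖ) (a : i ⟶ j), IsFinite ((D ⋙ Over.forget S).map a) :=
    fun i j a => haveI := h2 i j a; (inferInstance : IsFinite (D.map a).left)
  haveI : ∀ i, CompactSpace ↥((D ⋙ Over.forget S).obj i) := fun i => (h1 i).2.2.2.1
  haveI : ∀ i, QuasiSeparatedSpace ↥((D ⋙ Over.forget S).obj i) := fun i => (h1 i).2.2.2.2
  haveI : ∀ i, LocallyOfFiniteType ((overHom D).app i : (D ⋙ Over.forget S).obj i ⟶ S) :=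
    fun i => haveI := (h1 i).1; (inferInstance : LocallyOfFiniteType (D.obj i).hom)
  have hl' := isLimitOfPreserves (Over.forget S) hl
  obtain ⟨i₀⟩ : Nonempty Iᵒᵖ := inferInstance
  haveI : IsIntegralHom (((Over.forget S).mapCone (Cone.mk (Over.mk f) π)).π.app i₀ ≫ (overHom D).app i₀) := by
    show IsIntegralHom ((π.app i₀).left ≫ (D.obj i₀).hom)
    rw [Over.w (π.app i₀)]
    exact (inferInstance : IsIntegralHom f)
  obtain ⟨k, hk⟩ := GrothLib.LimDesc.eventually_isFinite (D ⋙ Over.forget S) hl' (overHom D) i₀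
  obtain ⟨I', _, _, _, ρ, ⟨hρ⟩, hle⟩ := exists_tail D _ hl k
  exact ⟨I', inferInstance, inferInstance, inferInstance, ρ ⋙ D, _, hρ,
    fun i => ⟨hk (ρ.obj i) (hle i).some, (h1 (ρ.obj i)).1⟩, fun i j a => h2 _ _ (ρ.map a),
    fun i => h3 (ρ.obj i), ⟨Iso.refl _⟩⟩

/-- A separated morphism of finite type factors as a closed immersion and a separated morphism of
finite presentation. -/
theorem exists_closedImmersion_separated (f : X ⟶ S) [IsSeparated f] [LocallyOfFiniteType f]
    [QuasiCompact f] [CompactSpace S] [QuasiSeparatedSpace S] :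
    ∃ (X' : Scheme.{u}) (f' : X' ⟶ S) (j : X ⟶ X'), IsSeparated f' ∧ LocallyOfFinitePresentation f' ∧
      QuasiCompact f' ∧ IsClosedImmersion j ∧ j ≫ f' = f := by
  haveI : CompactSpace X := QuasiCompact.compactSpace_of_compactSpace f
  haveI : QuasiSeparatedSpace X := quasiSeparatedSpace_of_quasiSeparated f
  obtain ⟨I, _, _, _, D, π, hl, h1, h2, h3⟩ := exists_closed_system f
  haveI : ∀ (i j : Iᵒᵖ) (a : i ⟶ j), IsAffineHom ((D ⋙ Over.forget S).map a) :=
    fun i j a => haveI := h2 i j a; (inferInstance : IsAffineHom (D.map a).left)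
  haveI : ∀ i, CompactSpace ↥((D ⋙ Over.forget S).obj i) := fun i => (h1 i).2.2.2.1
  haveI : ∀ i, QuasiSeparatedSpace ↥((D ⋙ Over.forget S).obj i) := fun i => (h1 i).2.2.2.2
  have hl' := isLimitOfPreserves (Over.forget S) hl
  obtain ⟨i₀⟩ : Nonempty Iᵒᵖ := inferInstance
  haveI : IsSeparated (((Over.forget S).mapCone (Cone.mk (Over.mk f) π)).π.app i₀ ≫ (overHom D).app i₀) := by
    show IsSeparated ((π.app i₀).left ≫ (D.obj i₀).hom)
    rw [Over.w (π.app i₀)]
    exact ‹IsSeparated f›
  obtain ⟨k, hk⟩ := GrothLib.LimDesc.eventually_isSeparated (D ⋙ Over.forget S) hl' (overHom D) i₀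
  exact ⟨_, (D.obj k).hom, (π.app k).left, hk k (𝟙 k), (h1 k).1, (h1 k).2.1, h3 k, Over.w (π.app k)⟩

end GrothLib.AbsApprox
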