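import Groth.Agent.Lib.AbsApprox.ClosedModel
import Groth.Agent.Lib.AbsApprox.ClosedApprox
import Mathlib.CategoryTheory.Limits.Final
import Mathlib.CategoryTheory.Filtered.Final

/-!
# Approximation of a scheme of finite type by closed immersions
-/

set_option autoImplicit false
set_option backward.isDefEq.respectTransparency false
set_option linter.style.haveILetI false

universe u

open CategoryTheory CategoryTheory.Limits AlgebraicGeometry TopologicalSpace Opposite

namespace GrothLib.AbsApprox

variable {X S : Scheme.{u}}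

theorem exists_lift_map {X' : Scheme.{u}} (ι : X ⟶ X') (f' : X' ⟶ S) [IsClosedImmersion ι]
    [CompactSpace X'] [QuasiSeparatedSpace X'] (s : Cone (closedSys ι ⋙ Over.map f')) :
    ∃ m : s.pt.left ⟶ X, m ≫ ι ≫ f' = s.pt.hom ∧
      ∀ J, m ≫ ((closedCone ι).π.app J).left = (s.π.app J).left := by
  obtain ⟨J₀⟩ : Nonempty (FgSub ι) := inferInstance
  let a : ∀ J : FgSub ι, s.pt.left ⟶ X' := fun J => (s.π.app (op J)).left ≫ J.1.subschemeι
  have hmono : ∀ (J K : FgSub ι) (_ : J ≤ K), a K = a J := fun J K h => by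
    show (s.π.app (op K)).left ≫ K.1.subschemeι = (s.π.app (op J)).left ≫ J.1.subschemeι
    rw [← s.w (homOfLE h).op]
    change _ = ((s.π.app (op K)).left ≫ Scheme.IdealSheafData.inclusion _) ≫ J.1.subschemeι
    rw [Category.assoc, Scheme.IdealSheafData.inclusion_subschemeι]
  have hconst : ∀ J : FgSub ι, a J = a J₀ := fun J => by
    obtain ⟨K, h1, h2⟩ := exists_ge_ge J J₀
    rw [← hmono J K h1, hmono J₀ K h2]
  let s' : Cone (closedSys ι) :=
    { pt := Over.mk (a J₀)
      π :=
        { app := fun J => Over.homMk (s.π.app J).left (hconst J.unop)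
          naturality := fun J K g => by
            ext1
            show 𝟙 _ ≫ (s.π.app K).left = (s.π.app J).left ≫ ((closedSys ι).map g).left
            rw [Category.id_comp, ← s.w g]
            rfl } }
  have hm : ((isLimitClosedCone ι).lift s').left ≫ ι = a J₀ := Over.w ((isLimitClosedCone ι).lift s')
  refine ⟨((isLimitClosedCone ι).lift s').left, ?_, fun J => ?_⟩
  · rw [← Category.assoc, hm]
    show ((s.π.app (op J₀)).left ≫ J₀.1.subschemeι) ≫ f' = _
    rw [Category.assoc]
    exact Over.w (s.π.app (op J₀))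
  · exact congr(($((isLimitClosedCone ι).fac s' J)).left)

/-- A qcqs scheme of finite type over a quasi-separated scheme is a limit of schemes of finite
presentation along closed immersions. -/
theorem exists_closed_system (f : X ⟶ S) [LocallyOfFiniteType f] [CompactSpace X] [QuasiSeparatedSpace X]
    [QuasiSeparatedSpace S] :
    ∃ (I : Type u) (_ : Preorder I) (_ : IsDirected I (fun a b => a ≤ b)) (_ : Nonempty I)
      (D : Iᵒᵖ ⥤ Over S) (π : (Functor.const Iᵒᵖ).obj (Over.mk f) ⟶ D)
      (_ : IsLimit (Cone.mk (Over.mk f) π)),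
      (∀ i, LocallyOfFinitePresentation (D.obj i).hom ∧ QuasiCompact (D.obj i).hom ∧
        QuasiSeparated (D.obj i).hom ∧ CompactSpace (D.obj i).left ∧ QuasiSeparatedSpace (D.obj i).left) ∧
      (∀ (i j : Iᵒᵖ) (a : i ⟶ j), IsClosedImmersion (D.map a).left) ∧
      ∀ i, IsClosedImmersion (π.app i).left := by
  obtain ⟨I₀, _, _, _, D₀, π₀, -, h1, -, k, hk⟩ := exists_rel_approx_closed f
  obtain ⟨hp, hqc, hqs, hc, hs⟩ := h1 k
  haveI := hp; haveI := hqc; haveI := hqs; haveI := hc; haveI := hs
  let ι : X ⟶ (D₀.obj k).left := (π₀.app k).left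
  haveI : IsClosedImmersion ι := hk k (𝟙 k)
  let f' := (D₀.obj k).hom
  have hw : ι ≫ f' = f := Over.w (π₀.app k)
  let D := closedSys ι ⋙ Over.map f'
  let π : (Functor.const (FgSub ι)ᵒᵖ).obj (Over.mk f) ⟶ D :=
    { app := fun J => Over.homMk ((closedCone ι).π.app J).left (by
        show ((closedCone ι).π.app J).left ≫ J.unop.1.subschemeι ≫ f' = f
        rw [← Category.assoc]
        exact (congrArg (· ≫ f') (Over.w ((closedCone ι).π.app J))).trans hw)
      naturality := fun J K g => by
        ext1
        show 𝟙 X ≫ ((closedCone ι).π.app K).left = ((closedCone ι).π.app J).left ≫ ((closedSys ι).map g).left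
        rw [Category.id_comp]
        exact congr(($((closedCone ι).w g)).left).symm }
  have hl : IsLimit (Cone.mk (Over.mk f) π) :=
    { lift := fun s => Over.homMk (exists_lift_map ι f' s).choose (by
        show _ ≫ f = _
        rw [← hw]
        exact (exists_lift_map ι f' s).choose_spec.1)
      fac := fun s J => Over.OverMorphism.ext ((exists_lift_map ι f' s).choose_spec.2 J)
      uniq := fun s m hm => Over.OverMorphism.ext <| by
        obtain ⟨J₀⟩ : Nonempty (FgSub ι) := inferInstance
        rw [← cancel_mono ι]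
        have e : ι = ((closedCone ι).π.app (op J₀)).left ≫ J₀.1.subschemeι :=
          (Over.w ((closedCone ι).π.app (op J₀))).symm
        refine (congrArg (m.left ≫ ·) e).trans (Eq.trans ?_ (congrArg (_ ≫ ·) e).symm)
        refine (Category.assoc _ _ _).symm.trans (Eq.trans ?_ (Category.assoc _ _ _))
        refine congrArg (· ≫ J₀.1.subschemeι) ?_
        exact (congr(($(hm (op J₀))).left)).trans ((exists_lift_map ι f' s).choose_spec.2 (op J₀)).symm }
  refine ⟨FgSub ι, inferInstance, inferInstance, inferInstance, D, π, hl, fun J => ?_,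
    fun J K a => isClosedImmersion_inclusion _, fun J => ?_⟩
  · haveI : LocallyOfFinitePresentation J.unop.1.subschemeι := lfp_subschemeι _ J.unop.2.2
    exact ⟨inferInstanceAs (LocallyOfFinitePresentation (J.unop.1.subschemeι ≫ f')),
      inferInstanceAs (QuasiCompact (J.unop.1.subschemeι ≫ f')),
      inferInstanceAs (QuasiSeparated (J.unop.1.subschemeι ≫ f')),
      QuasiCompact.compactSpace_of_compactSpace J.unop.1.subschemeι,
      quasiSeparatedSpace_of_quasiSeparated J.unop.1.subschemeι⟩
  · show IsClosedImmersion ((closedCone ι).π.app J).left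
    haveI : IsClosedImmersion (((closedCone ι).π.app J).left ≫ J.unop.1.subschemeι) := by
      have e : ((closedCone ι).π.app J).left ≫ J.unop.1.subschemeι = ι := Over.w ((closedCone ι).π.app J)
      rw [e]; infer_instance
    exact IsClosedImmersion.of_comp _ J.unop.1.subschemeι

/-- Restricting a closed system to a tail satisfying a property. -/
theorem exists_tail {C : Type*} [Category C] {I : Type u} [Preorder I] [IsDirected I (fun a b => a ≤ b)]
    [Nonempty I] (D : Iᵒᵖ ⥤ C) (c : Cone D) (hl : IsLimit c) (k : Iᵒᵖ) :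
    ∃ (I' : Type u) (_ : Preorder I') (_ : IsDirected I' (fun a b => a ≤ b)) (_ : Nonempty I')
      (ρ : I'ᵒᵖ ⥤ Iᵒᵖ), Nonempty (IsLimit (c.whisker ρ)) ∧ ∀ i, Nonempty (ρ.obj i ⟶ k) := by
  let I' := {i : I // k.unop ≤ i}
  haveI : IsDirected I' (fun a b => a ≤ b) := ⟨fun a b => by
    obtain ⟨d, h1, h2⟩ := exists_ge_ge a.1 b.1
    exact ⟨⟨d, a.2.trans h1⟩, h1, h2⟩⟩
  haveI : Nonempty I' := ⟨⟨k.unop, le_rfl⟩⟩
  let F : I' ⥤ I := (show Monotone fun i : I' => i.1 from fun _ _ h => h).functor
  haveI : F.Final := Functor.final_of_exists_of_isFiltered _ (fun i => by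
    obtain ⟨d, h1, h2⟩ := exists_ge_ge i k.unop
    exact ⟨⟨d, h2⟩, ⟨homOfLE h1⟩⟩) fun {_ c'} _ _ => ⟨c', 𝟙 c', Subsingleton.elim _ _⟩
  exact ⟨I', inferInstance, inferInstance, inferInstance, F.op,
    ⟨(Functor.Initial.isLimitWhiskerEquiv F.op c).symm hl⟩, fun i => ⟨(homOfLE i.unop.2).op⟩⟩

end GrothLib.AbsApprox
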