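import Groth.Agent.Lib.AbsApprox.Loc
import Mathlib.AlgebraicGeometry.AffineScheme
import Mathlib.AlgebraicGeometry.Morphisms.QuasiSeparated

/-!
# Compatible families of finitely generated subrings on an affine cover

A `Cov S` is a finite affine cover with a finite cover of each double intersection by opens which
are basic in both affines.  An admissible family of subrings `B k ⊆ Γ(S, W k)` is one whose
localizations agree on these pieces; we show that these are cofinal among all finitely generated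
families.
-/

set_option autoImplicit false
set_option backward.isDefEq.respectTransparency false

universe u

open CategoryTheory AlgebraicGeometry TopologicalSpace Opposite Filter

namespace GrothLib.AbsApprox

variable {S : Scheme.{u}}

/-- Restriction of sections. -/
abbrev rs {D U : S.Opens} (h : D ≤ U) : Γ(S, U) →+* Γ(S, D) := (S.presheaf.map (homOfLE h).op).hom

theorem rs_rs {E D U : S.Opens} (h : E ≤ D) (h' : D ≤ U) (x : Γ(S, U)) :
    rs h (rs h' x) = rs (h.trans h') x := by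
  change (S.presheaf.map (homOfLE h').op ≫ S.presheaf.map (homOfLE h).op) x = _
  rw [← S.presheaf.map_comp]
  rfl

theorem basicOpen_rs {D U : S.Opens} (h : D ≤ U) (x : Γ(S, U)) :
    S.basicOpen (rs h x) = D ⊓ S.basicOpen x := S.basicOpen_res x (homOfLE h).op

theorem isUnit_rs {D U : S.Opens} (h : D ≤ U) (f : Γ(S, U)) (hf : D ≤ S.basicOpen f) :
    IsUnit (rs h f) := by
  have : rs h f = rs hf (rs (S.basicOpen_le f) f) := (rs_rs hf (S.basicOpen_le f) f).symm
  rw [this]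
  exact (RingedSpace.isUnit_res_basicOpen S.toLocallyRingedSpace.toRingedSpace f).map (rs hf)

theorem isLocalization_rs {D U : S.Opens} (hU : IsAffineOpen U) (h : D ≤ U) (f : Γ(S, U))
    (hf : D = S.basicOpen f) : letI := (rs h).toAlgebra; IsLocalization.Away f Γ(S, D) :=
  hU.isLocalization_of_eq_basicOpen f (homOfLE h) hf

/-- A finite affine cover with a finite cover of each intersection by common basic opens. -/
structure Cov (S : Scheme.{u}) where
  n : ℕ
  W : Fin n → S.affineOpens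
  iSup_W : ⨆ k, (W k).1 = ⊤
  P : Fin n → Fin n → Finset S.Opens
  symm : ∀ k l, P k l = P l k
  self : ∀ k, P k k = {(W k).1}
  cover : ∀ k l, (P k l).sup id = (W k).1 ⊓ (W l).1
  basic : ∀ k l, ∀ D ∈ P k l, ∃ f : Γ(S, (W k).1), S.basicOpen f = D

theorem exists_pieces [QuasiSeparatedSpace S] (U V : S.affineOpens) :
    ∃ Q : Finset S.Opens, Q.sup id = U.1 ⊓ V.1 ∧
      ∀ D ∈ Q, (∃ f : Γ(S, U.1), S.basicOpen f = D) ∧ ∃ g : Γ(S, V.1), S.basicOpen g = D := by
  classical
  choose f g hfg hx using fun x : ↥(U.1 ⊓ V.1) => exists_basicOpen_le_affine_inter U.2 V.2 x.1 x.2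
  have hc : IsCompact ((U.1 : Set S) ∩ (V.1 : Set S)) :=
    QuasiSeparatedSpace.inter_isCompact _ _ U.1.2 U.2.isCompact V.1.2 V.2.isCompact
  obtain ⟨t, ht⟩ := hc.elim_finite_subcover (fun x : ↥(U.1 ⊓ V.1) => (S.basicOpen (f x) : Set S))
    (fun x => (S.basicOpen _).2) (fun x hx' => Set.mem_iUnion.2 ⟨⟨x, hx'⟩, hx _⟩)
  refine ⟨t.image fun x => S.basicOpen (f x), le_antisymm (Finset.sup_le fun D hD => ?_) (fun x hx' => ?_),
    fun D hD => ?_⟩
  · obtain ⟨x, -, rfl⟩ := Finset.mem_image.1 hD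
    exact le_inf (S.basicOpen_le _) ((hfg x).le.trans (S.basicOpen_le _))
  · obtain ⟨y, hy, hxy⟩ := Set.mem_iUnion₂.1 (ht hx')
    have h2 : S.basicOpen (f y) ≤ (t.image fun x => S.basicOpen (f x)).sup id :=
      Finset.le_sup (f := id) (Finset.mem_image.2 ⟨y, hy, rfl⟩)
    exact h2 hxy
  · obtain ⟨x, -, rfl⟩ := Finset.mem_image.1 hD
    exact ⟨⟨f x, rfl⟩, g x, (hfg x).symm⟩

/-- Any finite affine cover of a quasi-separated scheme extends to a `Cov`. -/
theorem exists_cov [QuasiSeparatedSpace S] {n : ℕ} (W : Fin n → S.affineOpens)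
    (hW : ⨆ k, (W k).1 = ⊤) : ∃ (P : Fin n → Fin n → Finset S.Opens),
      (∀ k l, P k l = P l k) ∧ (∀ k, P k k = {(W k).1}) ∧
      (∀ k l, (P k l).sup id = (W k).1 ⊓ (W l).1) ∧
      (∀ k l, ∀ D ∈ P k l, ∃ f : Γ(S, (W k).1), S.basicOpen f = D) := by
  classical
  choose Q hQ hb using fun k l => exists_pieces (W k) (W l)
  refine ⟨fun k l => if k = l then {(W k).1} else Q k l ∪ Q l k, fun k l => ?_, fun k => if_pos rfl,
    fun k l => ?_, fun k l D hD => ?_⟩
  · by_cases h : k = l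
    · subst h; rfl
    · simp only [if_neg h, if_neg (Ne.symm h), Finset.union_comm]
  · by_cases h : k = l
    · subst h; simp
    · simp only [if_neg h, Finset.sup_union, hQ, inf_comm (W l).1, sup_idem]
  · dsimp only at hD
    by_cases h : k = l
    · subst h
      rw [if_pos rfl, Finset.mem_singleton] at hD
      exact ⟨1, hD ▸ S.basicOpen_of_isUnit isUnit_one⟩
    · rw [if_neg h, Finset.mem_union] at hD
      rcases hD with hD | hD
      exacts [(hb k l D hD).1, (hb l k D hD).2]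

theorem nonempty_cov [CompactSpace S] [QuasiSeparatedSpace S] : Nonempty (Cov S) := by
  classical
  obtain ⟨t, ht⟩ := isCompact_univ.elim_finite_subcover (fun U : S.affineOpens => (U.1 : Set S))
    (fun U => U.1.2) (fun x _ => by
      obtain ⟨_, ⟨U, hU, rfl⟩, hx, -⟩ := S.isBasis_affineOpens.exists_subset_of_mem_open (Set.mem_univ x) isOpen_univ
      exact Set.mem_iUnion.2 ⟨⟨U, hU⟩, hx⟩)
  let W : Fin t.card → S.affineOpens := fun k => (t.equivFin.symm k).1
  have hW : ⨆ k, (W k).1 = ⊤ := by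
    refine top_unique fun x _ => ?_
    obtain ⟨U, hU, hx⟩ := Set.mem_iUnion₂.1 (ht (Set.mem_univ x))
    exact Opens.mem_iSup.2 ⟨t.equivFin ⟨U, hU⟩, by simpa [W] using hx⟩
  obtain ⟨P, h1, h2, h3, h4⟩ := exists_cov W hW
  exact ⟨⟨_, W, hW, P, h1, h2, h3, h4⟩⟩

namespace Cov

variable (𝒲 : Cov S)

/-- The rings of the cover. -/
abbrev A (k : Fin 𝒲.n) : CommRingCat.{u} := Γ(S, (𝒲.W k).1)

/-- A family of subrings. -/
abbrev Fam := ∀ k : Fin 𝒲.n, Subring (𝒲.A k)

open Classical in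
/-- A chosen equation of `D` on `W k`. -/
noncomputable def phi (k : Fin 𝒲.n) (D : S.Opens) : 𝒲.A k :=
  if D = (𝒲.W k).1 then 1 else if h : ∃ f : Γ(S, (𝒲.W k).1), S.basicOpen f = D then h.choose else 1

variable {𝒲}

theorem le_left {k l : Fin 𝒲.n} {D : S.Opens} (hD : D ∈ 𝒲.P k l) : D ≤ (𝒲.W k).1 :=
  (Finset.le_sup (f := id) hD).trans ((𝒲.cover k l).le.trans inf_le_left)

theorem le_right {k l : Fin 𝒲.n} {D : S.Opens} (hD : D ∈ 𝒲.P k l) : D ≤ (𝒲.W l).1 :=
  (Finset.le_sup (f := id) hD).trans ((𝒲.cover k l).le.trans inf_le_right)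

theorem mem_symm {k l : Fin 𝒲.n} {D : S.Opens} (hD : D ∈ 𝒲.P k l) : D ∈ 𝒲.P l k := 𝒲.symm k l ▸ hD

theorem basicOpen_phi {k l : Fin 𝒲.n} {D : S.Opens} (hD : D ∈ 𝒲.P k l) :
    S.basicOpen (𝒲.phi k D) = D := by
  unfold phi
  split_ifs with h1 h2
  · rw [h1]; exact S.basicOpen_of_isUnit isUnit_one
  · exact h2.choose_spec
  · exact absurd (𝒲.basic k l D hD) h2

theorem phi_self (k : Fin 𝒲.n) : 𝒲.phi k (𝒲.W k).1 = 1 := by
  unfold phi; rw [if_pos rfl]

theorem isAffineOpen_piece {k l : Fin 𝒲.n} {D : S.Opens} (hD : D ∈ 𝒲.P k l) : IsAffineOpen D :=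
  basicOpen_phi hD ▸ (𝒲.W k).2.basicOpen _

theorem isLocalization_phi {k l : Fin 𝒲.n} {D : S.Opens} (hD : D ∈ 𝒲.P k l) :
    letI := (rs (le_left hD)).toAlgebra; IsLocalization.Away (𝒲.phi k D) Γ(S, D) :=
  isLocalization_rs (𝒲.W k).2 _ _ (basicOpen_phi hD).symm

theorem isUnit_phi {k l : Fin 𝒲.n} {D : S.Opens} (hD : D ∈ 𝒲.P k l) :
    IsUnit (rs (le_left hD) (𝒲.phi k D)) := isUnit_rs _ _ (basicOpen_phi hD).ge

/-- The localized subring on a piece. -/
noncomputable abbrev R (B : 𝒲.Fam) (k : Fin 𝒲.n) (D : S.Opens) (h : D ≤ (𝒲.W k).1) :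
    Subring Γ(S, D) := Loc (rs h) (B k) (𝒲.phi k D)

theorem R_mono {B C : 𝒲.Fam} (h : B ≤ C) (k : Fin 𝒲.n) (D : S.Opens) (hD : D ≤ (𝒲.W k).1) :
    R B k D hD ≤ R C k D hD := loc_mono (h k)

variable (𝒲) in
/-- A property of families holds for all large enough families. -/
def Large (Q : 𝒲.Fam → Prop) : Prop :=
  ∃ C : 𝒲.Fam, (∀ k, Fg (C k)) ∧ ∀ B, C ≤ B → Q B

theorem Large.of_forall {Q : 𝒲.Fam → Prop} (h : ∀ B, Q B) : 𝒲.Large Q :=
  ⟨fun _ => Subring.closure ∅, fun _ => fg_closure Set.finite_empty, fun B _ => h B⟩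

theorem Large.and {Q Q' : 𝒲.Fam → Prop} (h : 𝒲.Large Q) (h' : 𝒲.Large Q') :
    𝒲.Large fun B => Q B ∧ Q' B := by
  obtain ⟨C, hC, hQ⟩ := h
  obtain ⟨C', hC', hQ'⟩ := h'
  exact ⟨C ⊔ C', fun k => (hC k).sup (hC' k), fun B hB =>
    ⟨hQ B (le_sup_left.trans hB), hQ' B (le_sup_right.trans hB)⟩⟩

theorem Large.mono {Q Q' : 𝒲.Fam → Prop} (h : 𝒲.Large Q) (hQ : ∀ B, Q B → Q' B) : 𝒲.Large Q' :=
  h.imp fun _ ⟨hC, hQC⟩ => ⟨hC, fun B hB => hQ B (hQC B hB)⟩

theorem Large.all {ι : Type*} [Finite ι] {Q : ι → 𝒲.Fam → Prop} (h : ∀ i, 𝒲.Large (Q i)) :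
    𝒲.Large fun B => ∀ i, Q i B := by
  classical
  have := Fintype.ofFinite ι
  have key : ∀ s : Finset ι, 𝒲.Large fun B => ∀ i ∈ s, Q i B := by
    intro s
    induction s using Finset.induction_on with
    | empty => exact Large.of_forall fun B i hi => absurd hi (Finset.notMem_empty i)
    | insert a t _ ih =>
      exact ((h a).and ih).mono fun B hB i hi => by
        rcases Finset.mem_insert.1 hi with rfl | hi
        exacts [hB.1, hB.2 i hi]
  exact (key Finset.univ).mono fun B hB i => hB i (Finset.mem_univ i)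

theorem large_mem (k : Fin 𝒲.n) (a : 𝒲.A k) : 𝒲.Large fun B => a ∈ B k := by
  classical
  let C : 𝒲.Fam := Function.update (fun _ => Subring.closure ∅) k (Subring.closure {a})
  refine ⟨C, fun j => ?_, fun B hB => hB k ?_⟩
  · by_cases h : j = k
    · subst h
      simp only [C, Function.update_self]
      exact fg_closure (Set.finite_singleton a)
    · simp only [C, Function.update_of_ne h]
      exact fg_closure Set.finite_empty
  · simp only [C, Function.update_self]
    exact Subring.subset_closure rfl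

theorem large_mem_of_fg (k : Fin 𝒲.n) {T : Subring (𝒲.A k)} (hT : Fg T) :
    𝒲.Large fun B => T ≤ B k := by
  obtain ⟨s, hs, rfl⟩ := hT
  have := hs.to_subtype
  exact (Large.all fun x : s => large_mem k x.1).mono fun B hB =>
    Subring.closure_le.2 fun x hx => hB ⟨x, hx⟩

/-- Any section over a piece lies in the localized subring of a large enough family. -/
theorem large_mem_R {k l : Fin 𝒲.n} {D : S.Opens} (hD : D ∈ 𝒲.P k l) (z : Γ(S, D)) :
    𝒲.Large fun B => z ∈ R B k D (le_left hD) := by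
  obtain ⟨n, a, e⟩ := exists_pow_mul (isUnit_phi hD) (z := z) (isLocalization_phi hD)
  exact (large_mem k a).mono fun B hB => mem_loc_of_mul_pow_eq (isUnit_phi hD) hB e

theorem large_phi_mem : 𝒲.Large fun B => ∀ k l, ∀ D ∈ 𝒲.P k l, 𝒲.phi k D ∈ B k :=
  (Large.all fun k => Large.all fun l => Large.all fun D : {D // D ∈ 𝒲.P k l} =>
    large_mem k (𝒲.phi k D.1)).mono fun _ hB k l D hD => hB k l ⟨D, hD⟩

theorem R_self (B : 𝒲.Fam) (k : Fin 𝒲.n) : ∀ D ∈ 𝒲.P k k, ∀ (h h' : D ≤ (𝒲.W k).1),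
    R B k D h ≤ R B k D h' := fun _ _ _ _ => le_rfl

end Cov

end GrothLib.AbsApprox
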