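import Groth.Agent.Lib.FibreDimAt6.Proper
import Groth.Agent.Lib.AlgSp.FibreDimBC
import Groth.Agent.Lib.LimDesc.Basic
import Mathlib.AlgebraicGeometry.AffineTransitionLimit
import Mathlib.AlgebraicGeometry.Noetherian

/-!
# Bounds on fibre dimensions descend to stages
-/

set_option autoImplicit false
set_option backward.isDefEq.respectTransparency false
set_option linter.style.haveILetI false

universe u

open CategoryTheory CategoryTheory.Limits AlgebraicGeometry TopologicalSpace Opposite

namespace GrothLib.AbsApprox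

/-- Fibre dimensions are monotone along closed immersions. -/
theorem fibreDimAt_le_of_isClosedImmersion {A B S : Scheme.{u}} (l : A ⟶ B) [IsClosedImmersion l]
    (p : B ⟶ S) (f : A ⟶ S) (e : l ≫ p = f) (x : A) :
    FlatMor.fibreDimAt f x ≤ FlatMor.fibreDimAt p (l x) := by
  subst e
  obtain ⟨U, hxU, hU⟩ := FibreDimAt6.fibreDimAt_attained p (l x)
  rw [← hU]
  refine (FibreDimAt6.fibreDimAt_le_of_open (l ≫ p) x (l ⁻¹ᵁ U) hxU).trans ?_
  have hmem : ∀ z : ↥((l ⁻¹ᵁ U : Set A) ∩ (l ≫ p) ⁻¹' {(l ≫ p) x}),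
      l z.1 ∈ (U : Set B) ∩ p ⁻¹' {p (l x)} := fun z => z.2
  refine Topology.IsInducing.topologicalKrullDim_le (f := fun z => (⟨l z.1, hmem z⟩ : ↥((U : Set B) ∩ p ⁻¹' {p (l x)}))) ?_
  exact (l.isEmbedding.isInducing.comp Topology.IsInducing.subtypeVal).codRestrict hmem

variable {J : Type u} [SmallCategory J] [IsCofiltered J]

/-- A bound on fibre dimensions which holds on the limit holds at a stage. -/
theorem exists_fibreDimAt_le (G : J ⥤ Scheme.{u}) (cG : Cone G) (hG : IsLimit cG)
    [∀ (i j : J) (a : i ⟶ j), IsAffineHom (G.map a)] [∀ i, CompactSpace ↥(G.obj i)]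
    (T : J → Scheme.{u}) (t : ∀ i, G.obj i ⟶ T i) [∀ i, LocallyOfFiniteType (t i)] (d : ℕ)
    (hmono : ∀ (i j : J) (a : i ⟶ j) (x : G.obj i),
      FlatMor.fibreDimAt (t i) x ≤ FlatMor.fibreDimAt (t j) (G.map a x))
    (hlim : ∀ x : cG.pt, ∃ i, FlatMor.fibreDimAt (t i) (cG.π.app i x) ≤ d) :
    ∃ i, ∀ x, FlatMor.fibreDimAt (t i) x ≤ d := by
  by_contra hc
  push Not at hc
  obtain ⟨x, hx⟩ := exists_mem_of_isClosed_of_nonempty G cG hG
    (fun i => {x : G.obj i | FlatMor.fibreDimAt (t i) x ≤ d}ᶜ)
    (fun i => (FibreDimAt6.isOpen_fibreDimAt_le (t i) d).isClosed_compl)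
    (fun i => by obtain ⟨x, hx⟩ := hc i; exact ⟨x, not_le.2 hx⟩)
    (fun i => (FibreDimAt6.isOpen_fibreDimAt_le (t i) d).isClosed_compl.isCompact)
    (fun {i j} a y hy h => hy ((hmono i j a y).trans h))
  obtain ⟨i, hi⟩ := hlim x
  exact hx i hi

/-- A projection of a limit is surjective when the transition morphisms to it are. -/
theorem surjective_π (G : J ⥤ Scheme.{u}) (cG : Cone G) (hG : IsLimit cG)
    [∀ (i j : J) (a : i ⟶ j), IsAffineHom (G.map a)] (k : J)
    (hs : ∀ (j : J) (a : j ⟶ k), Surjective (G.map a)) : Surjective (cG.π.app k) := by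
  refine ⟨fun y => ?_⟩
  let a := (G.obj k).fromSpecResidueField y
  have hP : IsPullback (pullback.fst a (cG.π.app k)) (pullback.snd a (cG.π.app k)) a (cG.π.app k) :=
    IsPullback.of_hasPullback _ _
  haveI : ∀ j : Over k, Nonempty ↥((LimDesc.diag G k a).obj j) := fun j => by
    haveI := hs j.left j.hom
    haveI : Surjective (pullback.fst a (G.map j.hom)) := MorphismProperty.pullback_fst _ _ inferInstance
    exact ⟨((pullback.fst a (G.map j.hom)).surjective (IsLocalRing.closedPoint _)).choose⟩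
  haveI : ∀ {i j : Over k} (f : i ⟶ j), IsAffineHom ((LimDesc.diag G k a).map f) := fun f =>
    LimDesc.isAffineHom_map G k a f
  haveI : ∀ j : Over k, CompactSpace ↥((LimDesc.diag G k a).obj j) := fun j =>
    LimDesc.compactSpace_obj G k a j
  obtain ⟨z⟩ := Scheme.nonempty_of_isLimit (LimDesc.diag G k a) (LimDesc.cone G k a hP)
    (LimDesc.isLimitCone G k a hP hG)
  refine ⟨pullback.snd a (cG.π.app k) z, ?_⟩
  rw [← Scheme.Hom.comp_apply, ← pullback.condition, Scheme.Hom.comp_apply]
  exact Scheme.fromSpecResidueField_apply y _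

/-- For a system with closed transition morphisms and Noetherian stages, some projection from the
limit is surjective. -/
theorem exists_surjective_π (G : J ⥤ Scheme.{u}) (cG : Cone G) (hG : IsLimit cG)
    [∀ (i j : J) (a : i ⟶ j), IsClosedImmersion (G.map a)] (i₀ : J) [NoetherianSpace ↥(G.obj i₀)] :
    ∃ k : J, Surjective (cG.π.app k) := by
  let R : Set (Closeds ↥(G.obj i₀)) :=
    {C | ∃ (i : J) (a : i ⟶ i₀), (C : Set ↥(G.obj i₀)) = Set.range (G.map a)}
  obtain ⟨C, ⟨k, a, hC⟩, hmin⟩ := (wellFounded_lt (α := Closeds ↥(G.obj i₀))).has_min R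
    ⟨⟨Set.range (G.map (𝟙 i₀)), (G.map (𝟙 i₀)).isClosedEmbedding.isClosed_range⟩, i₀, 𝟙 i₀, rfl⟩
  haveI : ∀ (i j : J) (f : i ⟶ j), IsAffineHom (G.map f) := fun i j f => inferInstance
  refine ⟨k, surjective_π G cG hG k fun j b => ⟨fun y => ?_⟩⟩
  let C' : Closeds ↥(G.obj i₀) :=
    ⟨Set.range (G.map (b ≫ a)), (G.map (b ≫ a)).isClosedEmbedding.isClosed_range⟩
  have hle : C' ≤ C := by
    intro z hz
    obtain ⟨w, rfl⟩ := hz
    show G.map (b ≫ a) w ∈ (C : Set ↥(G.obj i₀))
    rw [hC, G.map_comp, Scheme.Hom.comp_apply]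
    exact ⟨_, rfl⟩
  have he : C' = C := (eq_or_lt_of_le hle).resolve_right (hmin C' ⟨j, b ≫ a, rfl⟩)
  have hy : G.map a y ∈ (C' : Set ↥(G.obj i₀)) := by rw [he, hC]; exact ⟨y, rfl⟩
  obtain ⟨w, hw⟩ := hy
  rw [G.map_comp, Scheme.Hom.comp_apply] at hw
  exact ⟨w, (G.map a).isClosedEmbedding.injective hw⟩

/-- A limit along closed immersions is a closed subscheme of each stage. -/
theorem isClosedImmersion_π (G : J ⥤ Scheme.{u}) (cG : Cone G) (hG : IsLimit cG)
    [∀ (i j : J) (a : i ⟶ j), IsClosedImmersion (G.map a)] (k : J) : IsClosedImmersion (cG.π.app k) := by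
  haveI : ∀ (i j : J) (a : i ⟶ j), IsAffineHom (G.map a) := fun i j a => inferInstance
  haveI : IsAffineHom (cG.π.app k) := isAffineHom_π_app G cG hG k
  rw [IsZariskiLocalAtTarget.iff_of_iSup_eq_top (P := @IsClosedImmersion) _ (iSup_affineOpens_eq_top (G.obj k))]
  intro U
  haveI : IsAffine U.1 := U.2
  haveI : IsAffine (cG.π.app k ⁻¹ᵁ U.1) := U.2.preimage (cG.π.app k)
  haveI : ∀ j : Over k, IsAffine ((opensDiagram G k U.1).obj j) := fun j => U.2.preimage (G.map j.hom)
  refine IsClosedImmersion.of_surjective_of_isAffine _ fun s => ?_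
  obtain ⟨j, t, rfl⟩ := exists_appTop_π_eq_of_isAffine_of_isLimit _ _ (isLimitOpensCone G cG hG k U.1) s
  haveI : IsClosedImmersion (G.map j.hom ∣_ U.1) := IsZariskiLocalAtTarget.restrict (inferInstance : IsClosedImmersion (G.map j.hom)) U.1
  obtain ⟨t', ht'⟩ := (IsClosedImmersion.isAffine_surjective_of_isAffine (f := G.map j.hom ∣_ U.1)).2 t
  refine ⟨t', ?_⟩
  have e : (cG.π.app k ∣_ U.1) = (opensCone G cG k U.1).π.app j ≫ (G.map j.hom ∣_ U.1) := by
    rw [← cancel_mono U.1.ι, morphismRestrict_ι, Category.assoc, morphismRestrict_ι]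
    simp
  rw [← ht', e, Scheme.Hom.comp_appTop]
  rfl

variable (DX DS : J ⥤ Scheme.{u}) (φ : DX ⟶ DS) (cX : Cone DX) (cS : Cone DS)
  (hX : IsLimit cX) (hS : IsLimit cS) [∀ (i j : J) (a : i ⟶ j), IsAffineHom (DS.map a)]
  [∀ i, CompactSpace ↥(DS.obj i)] [∀ i, LocallyOfFiniteType (φ.app i)] [∀ i, QuasiCompact (φ.app i)]
  (hcl : ∀ (i j : J) (a : i ⟶ j),
    IsClosedImmersion (pullback.lift (DX.map a) (φ.app i) (φ.naturality a)))
  (f : cX.pt ⟶ cS.pt) (hf : ∀ i, f ≫ cS.π.app i = cX.π.app i ≫ φ.app i)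

/-- The fibres at the stages below a point of the limit, over its residue field. -/
noncomputable def fibSys (s : cS.pt) : J ⥤ Scheme.{u} where
  obj i := pullback (φ.app i) (cS.pt.fromSpecResidueField s ≫ cS.π.app i)
  map {i j} a := pullback.lift (pullback.fst _ _ ≫ DX.map a) (pullback.snd _ _) (by
    rw [Category.assoc, φ.naturality, pullback.condition_assoc, Category.assoc, cS.w])
  map_id i := by apply pullback.hom_ext <;> simp
  map_comp a b := by apply pullback.hom_ext <;> simp

include hcl in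
theorem isClosedImmersion_fibSys (s : cS.pt) {i j : J} (a : i ⟶ j) :
    IsClosedImmersion ((fibSys DX DS φ cS s).map a) := by
  let q := pullback.snd (φ.app j) (DS.map a)
  let σ := cS.pt.fromSpecResidueField s ≫ cS.π.app i
  let l := pullback.lift (DX.map a) (φ.app i) (φ.naturality a)
  haveI : IsClosedImmersion l := hcl i j a
  let T := pullback q σ
  let u : pullback (φ.app i) σ ⟶ T := pullback.lift (pullback.fst _ _ ≫ l) (pullback.snd _ _)
    (by rw [Category.assoc, pullback.lift_snd, pullback.condition])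
  have h1 : IsPullback u (pullback.fst (φ.app i) σ) (pullback.fst q σ) l := by
    refine IsPullback.of_right (h₁₂ := pullback.snd q σ) (h₂₂ := q) ?_ (pullback.lift_fst _ _ _)
      (IsPullback.of_hasPullback q σ).flip
    rw [pullback.lift_snd, pullback.lift_snd]
    exact (IsPullback.of_hasPullback (φ.app i) σ).flip
  haveI : IsClosedImmersion u := MorphismProperty.of_isPullback h1.flip (inferInstance : IsClosedImmersion l)
  let v : T ⟶ (fibSys DX DS φ cS s).obj j := pullback.lift (pullback.fst q σ ≫ pullback.fst _ _)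
    (pullback.snd q σ) (by
      rw [Category.assoc, pullback.condition, ← Category.assoc, pullback.condition, Category.assoc,
        Category.assoc, cS.w])
  have hv : IsPullback (pullback.fst q σ ≫ pullback.fst (φ.app j) (DS.map a)) (pullback.snd q σ) (φ.app j)
      (σ ≫ DS.map a) :=
    (IsPullback.of_hasPullback q σ).paste_horiz (IsPullback.of_hasPullback (φ.app j) (DS.map a))
  haveI : IsIso v := by
    have e : σ ≫ DS.map a = cS.pt.fromSpecResidueField s ≫ cS.π.app j := by rw [Category.assoc, cS.w]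
    rw [e] at hv
    have : v = hv.isoPullback.hom := by
      apply pullback.hom_ext
      · rw [pullback.lift_fst, hv.isoPullback_hom_fst]
      · rw [pullback.lift_snd, hv.isoPullback_hom_snd]
    rw [this]
    infer_instance
  have e : (fibSys DX DS φ cS s).map a = u ≫ v := by
    apply pullback.hom_ext
    · simp [fibSys, u, v, l, σ, q]
    · simp [fibSys, u, v, l, σ, q]
  rw [e]
  infer_instance

/-- The cone over `fibSys` given by the fibre of the limit. -/
noncomputable def fibCone (s : cS.pt) : Cone (fibSys DX DS φ cS s) where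
  pt := pullback f (cS.pt.fromSpecResidueField s)
  π :=
    { app := fun i => pullback.lift (pullback.fst _ _ ≫ cX.π.app i) (pullback.snd _ _) (by
        rw [Category.assoc, ← hf, pullback.condition_assoc])
      naturality := fun i j a => by
        apply pullback.hom_ext <;> simp [fibSys] }

include hX hS in
theorem exists_isLimit_fibCone (s : cS.pt) : Nonempty (IsLimit (fibCone DX DS φ cX cS f hf s)) := by
  obtain ⟨i₀⟩ : Nonempty J := IsCofiltered.nonempty
  have hsnd : ∀ (c : Cone (fibSys DX DS φ cS s)) (i : J),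
      c.π.app i ≫ pullback.snd _ _ = c.π.app i₀ ≫ pullback.snd _ _ := by
    intro c i
    obtain ⟨k, a, b, -⟩ := IsCofilteredOrEmpty.cone_objs i i₀
    rw [← c.w a, ← c.w b, Category.assoc, Category.assoc]
    congr 1
    simp [fibSys]
  let s' : ∀ c : Cone (fibSys DX DS φ cS s), Cone DX := fun c =>
    { pt := c.pt
      π :=
        { app := fun i => c.π.app i ≫ pullback.fst _ _
          naturality := fun i j a => by
            refine (Category.id_comp _).trans ?_
            rw [← c.w a, Category.assoc, Category.assoc]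
            congr 1
            simp [fibSys] } }
  have hcond : ∀ c : Cone (fibSys DX DS φ cS s),
      hX.lift (s' c) ≫ f = (c.π.app i₀ ≫ pullback.snd _ _) ≫ cS.pt.fromSpecResidueField s := by
    intro c
    refine hS.hom_ext fun i => ?_
    rw [Category.assoc, hf, hX.fac_assoc, ← hsnd c i]
    show (c.π.app i ≫ pullback.fst _ _) ≫ _ = _
    rw [Category.assoc, pullback.condition, Category.assoc, Category.assoc]
  refine ⟨{ lift := fun c => pullback.lift (hX.lift (s' c)) _ (hcond c)
            fac := fun c i => ?_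
            uniq := fun c m hm => ?_ }⟩
  · apply pullback.hom_ext
    · simp [fibCone, s']
    · rw [hsnd c i]
      simp [fibCone]
  · apply pullback.hom_ext
    · rw [pullback.lift_fst]
      refine hX.uniq (s' c) _ fun i => ?_
      show _ = c.π.app i ≫ pullback.fst _ _
      rw [← hm i]
      simp [fibCone]
    · rw [pullback.lift_snd, ← hm i₀]
      simp [fibCone]

include hX hS hcl hf in
/-- A bound on fibre dimensions of a limit of morphisms holds at a stage. -/
theorem exists_dim_fiber_le (d : ℕ) (hd : ∀ s : cS.pt, topologicalKrullDim ↥(f.fiber s) ≤ (d : WithBot ℕ∞)) :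
    ∃ i, ∀ s : DS.obj i, topologicalKrullDim ↥((φ.app i).fiber s) ≤ (d : WithBot ℕ∞) := by
  haveI : ∀ (i j : J) (a : i ⟶ j), IsAffineHom (DX.map a) := fun i j a => by
    haveI := hcl i j a
    haveI : IsAffineHom (pullback.fst (φ.app j) (DS.map a)) := MorphismProperty.pullback_fst _ _ inferInstance
    rw [← pullback.lift_fst (DX.map a) (φ.app i) (φ.naturality a)]
    infer_instance
  haveI : ∀ i, CompactSpace ↥(DX.obj i) := fun i => QuasiCompact.compactSpace_of_compactSpace (φ.app i)
  have hmono : ∀ (i j : J) (a : i ⟶ j) (x : DX.obj i),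
      FlatMor.fibreDimAt (φ.app i) x ≤ FlatMor.fibreDimAt (φ.app j) (DX.map a x) := by
    intro i j a x
    let l := pullback.lift (DX.map a) (φ.app i) (φ.naturality a)
    haveI : IsClosedImmersion l := hcl i j a
    refine (fibreDimAt_le_of_isClosedImmersion l (pullback.snd (φ.app j) (DS.map a)) (φ.app i)
      (pullback.lift_snd _ _ _) x).trans (le_of_eq ?_)
    rw [GrothLib.AlgSp.fibreDimAt_of_isPullback (IsPullback.of_hasPullback (φ.app j) (DS.map a)) (l x),
      ← Scheme.Hom.comp_apply, pullback.lift_fst]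
  have hlimit : ∀ x : cX.pt, ∃ i, FlatMor.fibreDimAt (φ.app i) (cX.π.app i x) ≤ (d : WithBot ℕ∞) := by
    intro x
    let s := f x
    let F := fibSys DX DS φ cS s
    haveI : ∀ (i j : J) (a : i ⟶ j), IsClosedImmersion (F.map a) := fun i j a =>
      isClosedImmersion_fibSys DX DS φ cS hcl s a
    obtain ⟨i₀⟩ : Nonempty J := IsCofiltered.nonempty
    haveI : IsLocallyNoetherian (F.obj i₀) :=
      LocallyOfFiniteType.isLocallyNoetherian (pullback.snd (φ.app i₀) (cS.pt.fromSpecResidueField s ≫ cS.π.app i₀))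
    haveI : CompactSpace ↥(F.obj i₀) :=
      QuasiCompact.compactSpace_of_compactSpace (pullback.snd (φ.app i₀) (cS.pt.fromSpecResidueField s ≫ cS.π.app i₀))
    haveI : IsNoetherian (F.obj i₀) := ⟨⟩
    obtain ⟨hlim⟩ := exists_isLimit_fibCone DX DS φ cX cS hX hS f hf s
    obtain ⟨k, hk⟩ := exists_surjective_π F _ hlim i₀
    haveI := hk
    haveI : IsClosedImmersion ((fibCone DX DS φ cX cS f hf s).π.app k) :=
      isClosedImmersion_π F _ hlim k
    refine ⟨k, ?_⟩
    have hsk : cS.π.app k s = φ.app k (cX.π.app k x) := by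
      show cS.π.app k (f x) = _
      exact congr($(hf k) x)
    refine (FibreDimAt6.dim_fiber_le_iff (φ.app k) (cS.π.app k s) _).1 ?_ _ hsk.symm
    have h1 := GrothLib.FibreBC.topologicalKrullDim_fiber
      (IsPullback.of_hasPullback (φ.app k) (cS.pt.fromSpecResidueField s ≫ cS.π.app k)) (IsLocalRing.closedPoint _)
    rw [Scheme.Hom.comp_apply, Scheme.fromSpecResidueField_apply] at h1
    refine h1.symm.trans_le ?_
    have hhom : IsHomeomorph ((fibCone DX DS φ cX cS f hf s).π.app k) :=
      ⟨((fibCone DX DS φ cX cS f hf s).π.app k).continuous,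
        fun U hU => by
          rw [← compl_compl U, Set.image_compl_eq ⟨((fibCone DX DS φ cX cS f hf s).π.app k).isClosedEmbedding.injective, hk.1⟩]
          exact (((fibCone DX DS φ cX cS f hf s).π.app k).isClosedEmbedding.isClosedMap _ hU.isClosed_compl).isOpen_compl,
        ⟨((fibCone DX DS φ cX cS f hf s).π.app k).isClosedEmbedding.injective, hk.1⟩⟩
    refine (Scheme.Hom.fiberι _ _).isEmbedding.isInducing.topologicalKrullDim_le.trans ?_
    exact (IsHomeomorph.topologicalKrullDim_eq _ hhom).symm.trans_le (hd s)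
  obtain ⟨i, hi⟩ := exists_fibreDimAt_le DX cX hX (fun i => DS.obj i) φ.app d hmono hlimit
  exact ⟨i, fun s => (FibreDimAt6.dim_fiber_le_iff _ s _).2 fun x _ => hi x⟩

end GrothLib.AbsApprox
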