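import Groth.Agent.Lib.AbsApprox.Chart
import Mathlib.AlgebraicGeometry.Gluing

/-!
# The scheme of finite type attached to an admissible family
-/

set_option autoImplicit false
set_option backward.isDefEq.respectTransparency false

universe u

open CategoryTheory CategoryTheory.Limits AlgebraicGeometry TopologicalSpace Opposite

namespace GrothLib.AbsApprox.Cov

variable {S : Scheme.{u}} {𝒲 : Cov S} {B : 𝒲.Fam}

theorem isIso_opens_ι_of_eq_top {X : Scheme.{u}} {U : X.Opens} (h : U = ⊤) : IsIso U.ι := by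
  subst h
  exact X.topIso_hom ▸ inferInstance

theorem rs_inverse_mem {E D U : S.Opens} (hED : E ≤ D) (hD : D ≤ U) {T : Subring Γ(S, E)} {f g : Γ(S, U)}
    (hf : IsUnit (rs hD f)) (hfg : IsUnit (rs (hED.trans hD) (f * g))) (hg : rs (hED.trans hD) g ∈ T)
    (hi : Ring.inverse (rs (hED.trans hD) (f * g)) ∈ T) :
    rs hED (Ring.inverse (rs hD f)) ∈ T := by
  have h1 : rs (hED.trans hD) f * rs hED (Ring.inverse (rs hD f)) = 1 := by
    rw [← rs_rs hED hD, ← map_mul, inverse_eq hf, map_one]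
  have : rs hED (Ring.inverse (rs hD f)) = rs (hED.trans hD) g * Ring.inverse (rs (hED.trans hD) (f * g)) := by
    calc rs hED (Ring.inverse (rs hD f))
        = rs hED (Ring.inverse (rs hD f)) * (rs (hED.trans hD) (f * g) * Ring.inverse (rs (hED.trans hD) (f * g))) := by
          rw [inverse_eq hfg, mul_one]
      _ = (rs (hED.trans hD) f * rs hED (Ring.inverse (rs hD f))) *
            (rs (hED.trans hD) g * Ring.inverse (rs (hED.trans hD) (f * g))) := by
          rw [map_mul]; ring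
      _ = _ := by rw [h1, one_mul]
  rw [this]
  exact mul_mem hg hi

variable (hB : Adm 𝒲 B)

/-- The basic open of a chart attached to a piece. -/
noncomputable abbrev O (k l : Fin 𝒲.n) (D : {D // D ∈ 𝒲.P k l}) : (Ch B k).Opens :=
  PrimeSpectrum.basicOpen (⟨𝒲.phi k D.1, hB.phi_mem k l D.1 D.2⟩ : B k)

/-- The overlap of two charts. -/
noncomputable def V (k l : Fin 𝒲.n) : (Ch B k).Opens := ⨆ D, O hB k l D

theorem V_self (k : Fin 𝒲.n) : V hB k k = ⊤ := by
  refine top_unique fun x _ => ?_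
  refine Opens.mem_iSup.2 ⟨⟨(𝒲.W k).1, by rw [𝒲.self k]; exact Finset.mem_singleton_self _⟩, ?_⟩
  show (⟨𝒲.phi k (𝒲.W k).1, _⟩ : B k) ∉ x.asIdeal
  intro h
  refine x.isPrime.ne_top ((Ideal.eq_top_iff_one _).2 ?_)
  convert h using 1
  exact Subtype.ext (phi_self k).symm

/-- The cover of an overlap by the pieces. -/
noncomputable def cov (k l : Fin 𝒲.n) : (V hB k l).toScheme.OpenCover :=
  (V hB k l).toScheme.openCoverOfIsOpenCover (fun D => (V hB k l).ι ⁻¹ᵁ O hB k l D) (by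
    show (⨆ D, (V hB k l).ι ⁻¹ᵁ O hB k l D) = ⊤
    rw [← Scheme.Hom.preimage_iSup]
    exact Scheme.Opens.ι_preimage_self _)

include hB in
theorem mem_pieceRing {k l : Fin 𝒲.n} {D : S.Opens} (hD : D ∈ 𝒲.P k l) :
    ∀ b ∈ B l, rs (le_right hD) b ∈ pieceRing B k (𝒲.phi k D) (le_left hD) :=
  fun _ hb => hB.compat l k D (mem_symm hD) (map_mem_loc hb)

/-- The map of a member of the cover to the piece. -/
noncomputable def toPiece (k l : Fin 𝒲.n) (D : {D // D ∈ 𝒲.P k l}) :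
    (cov hB k l).X D ⟶ Spec (CommRingCat.of (pieceRing B k (𝒲.phi k D.1) (le_left D.2))) :=
  haveI := isOpenImmersion_pieceι (hE := le_left D.2) (hB.phi_mem k l D.1 D.2) (basicOpen_phi D.2).symm
  IsOpenImmersion.lift (pieceι B k (𝒲.phi k D.1) (le_left D.2)) ((cov hB k l).f D ≫ (V hB k l).ι) (by
    rw [range_pieceι (hB.phi_mem k l D.1 D.2) (basicOpen_phi D.2).symm]
    rintro _ ⟨z, rfl⟩
    exact z.2)

theorem toPiece_ι (k l : Fin 𝒲.n) (D : {D // D ∈ 𝒲.P k l}) :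
    toPiece hB k l D ≫ pieceι B k (𝒲.phi k D.1) (le_left D.2) = (cov hB k l).f D ≫ (V hB k l).ι :=
  haveI := isOpenImmersion_pieceι (hE := le_left D.2) (hB.phi_mem k l D.1 D.2) (basicOpen_phi D.2).symm
  IsOpenImmersion.lift_fac _ _ _

/-- The transition map on a piece. -/
noncomputable def tPiece (k l : Fin 𝒲.n) (D : {D // D ∈ 𝒲.P k l}) : (cov hB k l).X D ⟶ Ch B l :=
  toPiece hB k l D ≫ pieceMap B k (𝒲.phi k D.1) (le_left D.2) l (le_right D.2) (mem_pieceRing hB D.2)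

theorem ad_tPiece {k l : Fin 𝒲.n} (D : {D // D ∈ 𝒲.P k l}) {Q : Scheme.{u}}
    (w : Q ⟶ (𝒲.W k).1.toScheme) (y : Q ⟶ (cov hB k l).X D)
    (hy : y ≫ (cov hB k l).f D ≫ (V hB k l).ι = w ≫ pr B k) :
    Ad B l (w ≫ (𝒲.W k).1.ι) (y ≫ tPiece hB k l D) := by
  rw [tPiece, ← Category.assoc y]
  exact ad_piece (hB.phi_mem k l D.1 D.2) (basicOpen_phi D.2).symm (le_right D.2) _ w _
    (by rw [Category.assoc, toPiece_ι, hy])

/-- The transition map. -/
noncomputable def tV (k l : Fin 𝒲.n) : (V hB k l).toScheme ⟶ Ch B l :=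
  (cov hB k l).glueMorphisms (tPiece hB k l) fun a b => by
    haveI : Flat (pullback.fst ((cov hB k l).f a) ((cov hB k l).f b) ≫ (cov hB k l).f a ≫ (V hB k l).ι) :=
      inferInstance
    refine ad_ext (pullback.fst ((cov hB k l).f a) ((cov hB k l).f b) ≫ (cov hB k l).f a ≫ (V hB k l).ι) ?_ ?_
    · rw [← Category.assoc (pullback.snd (pr B k) _)]
      exact ad_tPiece hB a _ _ (by rw [Category.assoc]; exact pullback.condition.symm)
    · rw [← Category.assoc (pullback.snd (pr B k) _)]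
      refine ad_tPiece hB b _ _ ?_
      rw [Category.assoc, ← pullback.condition_assoc]
      exact pullback.condition.symm

theorem ι_tV (k l : Fin 𝒲.n) (D : {D // D ∈ 𝒲.P k l}) :
    (cov hB k l).f D ≫ tV hB k l = tPiece hB k l D := by
  unfold tV
  exact Scheme.Cover.ι_glueMorphisms (cov hB k l) _ _ D

theorem range_subset_W {k l : Fin 𝒲.n} {Q : Scheme.{u}} (w : Q ⟶ (𝒲.W k).1.toScheme)
    (y : Q ⟶ (V hB k l).toScheme) (hy : y ≫ (V hB k l).ι = w ≫ pr B k) :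
    Set.range (w ≫ (𝒲.W k).1.ι) ⊆ Set.range (𝒲.W l).1.ι := by
  rintro _ ⟨q, rfl⟩
  rw [Scheme.Opens.range_ι]
  have h1 : (y ≫ (V hB k l).ι) q ∈ V hB k l := (y q).2
  rw [hy] at h1
  obtain ⟨D, hD⟩ := Opens.mem_iSup.1 h1
  have h2 : w q ∈ pr B k ⁻¹ᵁ O hB k l D := hD
  rw [qmap_preimage_basicOpen] at h2
  have h3 : (𝒲.W k).1.ι (w q) ∈ S.basicOpen (𝒲.phi k D.1) := h2
  rw [basicOpen_phi D.2] at h3
  exact le_right D.2 h3

theorem ad_tV {k l : Fin 𝒲.n} {Q : Scheme.{u}} (w : Q ⟶ (𝒲.W k).1.toScheme)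
    (y : Q ⟶ (V hB k l).toScheme) (hy : y ≫ (V hB k l).ι = w ≫ pr B k) :
    Ad B l (w ≫ (𝒲.W k).1.ι) (y ≫ tV hB k l) := by
  let w' := IsOpenImmersion.lift (𝒲.W l).1.ι (w ≫ (𝒲.W k).1.ι) (range_subset_W hB w y hy)
  refine ⟨w', IsOpenImmersion.lift_fac _ _ _, ?_⟩
  refine Scheme.Cover.hom_ext ((cov hB k l).pullback₁ y) _ _ fun D => ?_
  change pullback.fst y ((cov hB k l).f D) ≫ _ = pullback.fst y ((cov hB k l).f D) ≫ _
  refine Ad.unique (s := pullback.fst y ((cov hB k l).f D) ≫ w ≫ (𝒲.W k).1.ι)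
    ⟨pullback.fst _ _ ≫ w', by rw [Category.assoc, IsOpenImmersion.lift_fac], by rw [Category.assoc]⟩ ?_
  rw [pullback.condition_assoc, ι_tV, ← Category.assoc]
  exact ad_tPiece hB D _ _ (by rw [← pullback.condition_assoc, hy, Category.assoc])

theorem tV_mem {k l : Fin 𝒲.n} (z : (V hB k l).toScheme) : tV hB k l z ∈ V hB l k := by
  obtain ⟨D, x, rfl⟩ := (cov hB k l).exists_eq z
  rw [← Scheme.Hom.comp_apply, ι_tV, tPiece, Scheme.Hom.comp_apply]
  refine Opens.mem_iSup.2 ⟨⟨D.1, mem_symm D.2⟩, ?_⟩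
  show (⟨rs (le_right D.2) (𝒲.phi l D.1), mem_pieceRing hB D.2 _ (hB.phi_mem l k D.1 (mem_symm D.2))⟩ :
      pieceRing B k (𝒲.phi k D.1) (le_left D.2)) ∉ (toPiece hB k l D x).asIdeal
  have hu := isUnit_phi (mem_symm D.2)
  intro h
  refine (toPiece hB k l D x).isPrime.ne_top (Ideal.eq_top_of_isUnit_mem _ h (IsUnit.of_mul_eq_one
    ⟨_, hB.compat l k D.1 (mem_symm D.2) inv_mem_loc⟩ (Subtype.ext (inverse_eq hu))))

/-- The transition isomorphism. -/
noncomputable def t (k l : Fin 𝒲.n) : (V hB k l).toScheme ⟶ (V hB l k).toScheme :=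
  IsOpenImmersion.lift (V hB l k).ι (tV hB k l) (by
    rw [Scheme.Opens.range_ι]
    rintro _ ⟨z, rfl⟩
    exact tV_mem hB z)

@[reassoc]
theorem t_ι (k l : Fin 𝒲.n) : t hB k l ≫ (V hB l k).ι = tV hB k l := IsOpenImmersion.lift_fac _ _ _

theorem t_self (k : Fin 𝒲.n) : t hB k k = 𝟙 _ := by
  rw [← cancel_mono (V hB k k).ι, t_ι, Category.id_comp]
  exact ad_ext (V hB k k).ι (ad_tV hB _ _ pullback.condition.symm) ⟨_, rfl, pullback.condition⟩

theorem tV_mem_triple (i j k : Fin 𝒲.n) (q : ↥(pullback (V hB i j).ι (V hB i k).ι)) :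
    tV hB i j (pullback.fst (V hB i j).ι (V hB i k).ι q) ∈ V hB j k := by
  let z := pullback.fst (V hB i j).ι (V hB i k).ι q
  obtain ⟨⟨D, hD⟩, hxD⟩ := Opens.mem_iSup.1 z.2
  have hz' : (V hB i j).ι z ∈ V hB i k := by
    show (pullback.fst (V hB i j).ι (V hB i k).ι ≫ (V hB i j).ι) q ∈ _
    rw [pullback.condition]
    exact (pullback.snd (V hB i j).ι (V hB i k).ι q).2
  obtain ⟨⟨D', hD'⟩, hxD'⟩ := Opens.mem_iSup.1 hz'
  have hE : D ⊓ D' ≤ (𝒲.W i).1 := le_inf_left_W hD hD'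
  let f := 𝒲.phi i D * 𝒲.phi i D'
  have hf : f ∈ B i := mul_mem (hB.phi_mem i j D hD) (hB.phi_mem i k D' hD')
  have hEf : D ⊓ D' = S.basicOpen f := (basicOpen_phi_mul hD hD').symm
  have hl : D ⊓ D' ≤ (𝒲.W j).1 := le_inf_mid hD
  have hb : ∀ b ∈ B j, rs hl b ∈ pieceRing B i f hE := fun b hb => by
    have h1 : rs (le_right hD) b ∈ (pieceRing B i f hE).comap (rs (inf_le_left : D ⊓ D' ≤ D)) := by
      refine loc_le ?_ ?_ (mem_pieceRing hB hD b hb)
      · intro c hc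
        show rs (inf_le_left : D ⊓ D' ≤ D) (rs (le_left hD) c) ∈ pieceRing B i f hE
        rw [rs_rs]
        exact map_mem_loc hc
      · exact rs_inverse_mem (T := pieceRing B i f hE) (g := 𝒲.phi i D') inf_le_left (le_left hD)
          (isUnit_phi hD) (isUnit_rs _ _ hEf.le) (map_mem_loc (hB.phi_mem i k D' hD')) inv_mem_loc
    rw [← rs_rs (inf_le_left : D ⊓ D' ≤ D) (le_right hD)]
    exact h1
  haveI := isOpenImmersion_pieceι (hE := hE) hf hEf
  have hr : Set.range (pieceι B i f hE) ⊆ Set.range (V hB i j).ι := by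
    rw [range_pieceι hf hEf, Scheme.Opens.range_ι]
    intro x hx
    refine Opens.mem_iSup.2 ⟨⟨D, hD⟩, fun h => hx ?_⟩
    exact x.asIdeal.mul_mem_right (⟨𝒲.phi i D', hB.phi_mem i k D' hD'⟩ : B i) h
  let e := IsOpenImmersion.lift (V hB i j).ι (pieceι B i f hE) hr
  have he : e ≫ tV hB i j = pieceMap B i f hE j hl hb := by
    refine ad_ext (pieceι B i f hE) ?_ (ad_piece hf hEf hl hb _ _ pullback.condition.symm)
    rw [← Category.assoc]
    exact ad_tV hB _ _ (by rw [Category.assoc, IsOpenImmersion.lift_fac]; exact pullback.condition.symm)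
  have hz : (V hB i j).ι z ∈ Set.range (pieceι B i f hE) := by
    rw [range_pieceι hf hEf]
    intro h
    exact (((V hB i j).ι z).isPrime.mem_or_mem
      (show (⟨𝒲.phi i D, hB.phi_mem i j D hD⟩ : B i) * ⟨𝒲.phi i D', hB.phi_mem i k D' hD'⟩ ∈ _ from h)).elim
      hxD hxD'
  obtain ⟨y, hy⟩ := hz
  have hey : e y = z := (V hB i j).ι.isOpenEmbedding.injective (by
    rw [← Scheme.Hom.comp_apply, IsOpenImmersion.lift_fac, hy])
  show tV hB i j z ∈ _
  rw [← hey, ← Scheme.Hom.comp_apply, he]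
  obtain ⟨c, hc, hsum⟩ := hB.wit i j k D D' hD hD'
  let u : {t // t ∈ 𝒲.P j k} → pieceRing B i f hE := fun t =>
    ⟨rs hl (𝒲.phi j t.1), hb _ (hB.phi_mem j k t.1 t.2)⟩
  have h1 : ∑ t, (⟨c t, hc t⟩ : pieceRing B i f hE) * u t = 1 := Subtype.ext (by
    rw [AddSubmonoidClass.coe_finsetSum]
    exact hsum)
  have hy' : y ∈ (⨆ t, PrimeSpectrum.basicOpen (u t)) := by
    rw [iSup_basicOpen_eq_top h1]
    trivial
  obtain ⟨t, ht⟩ := Opens.mem_iSup.1 hy'
  exact Opens.mem_iSup.2 ⟨t, ht⟩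

/-- The triple transition map. -/
noncomputable def t' (i j k : Fin 𝒲.n) :
    pullback (V hB i j).ι (V hB i k).ι ⟶ pullback (V hB j k).ι (V hB j i).ι :=
  pullback.lift
    (IsOpenImmersion.lift (V hB j k).ι (pullback.fst _ _ ≫ t hB i j ≫ (V hB j i).ι) (by
      rw [Scheme.Opens.range_ι, t_ι]
      rintro _ ⟨q, rfl⟩
      exact tV_mem_triple hB i j k q))
    (pullback.fst _ _ ≫ t hB i j)
    (by rw [IsOpenImmersion.lift_fac, Category.assoc])

theorem t'_fst (i j k : Fin 𝒲.n) :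
    t' hB i j k ≫ pullback.fst _ _ ≫ (V hB j k).ι = pullback.fst _ _ ≫ tV hB i j := by
  rw [t', pullback.lift_fst_assoc, IsOpenImmersion.lift_fac, t_ι]

theorem ad_t' {i j k : Fin 𝒲.n} {Q : Scheme.{u}} {s : Q ⟶ S}
    (y : Q ⟶ pullback (V hB i j).ι (V hB i k).ι) (h : Ad B i s (y ≫ pullback.fst _ _ ≫ (V hB i j).ι)) :
    Ad B j s ((y ≫ t' hB i j k) ≫ pullback.fst _ _ ≫ (V hB j k).ι) := by
  obtain ⟨w, hw, hw'⟩ := h
  rw [Category.assoc, t'_fst, ← Category.assoc, ← hw]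
  exact ad_tV hB w _ (by rw [Category.assoc, hw'])

theorem cocycle (i j k : Fin 𝒲.n) : t' hB i j k ≫ t' hB j k i ≫ t' hB k i j = 𝟙 _ := by
  rw [← cancel_mono (pullback.fst (V hB i j).ι (V hB i k).ι ≫ (V hB i j).ι), Category.id_comp]
  let jj := pullback.fst (V hB i j).ι (V hB i k).ι ≫ (V hB i j).ι
  have h0 : Ad B i (pullback.fst (pr B i) jj ≫ (𝒲.W i).1.ι)
      (pullback.snd (pr B i) jj ≫ pullback.fst _ _ ≫ (V hB i j).ι) := ⟨_, rfl, pullback.condition⟩
  have h3 := ad_t' hB _ (ad_t' hB _ (ad_t' hB _ h0))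
  simp only [Category.assoc] at h3
  refine ad_ext jj ?_ h0
  simpa only [Category.assoc] using h3

/-- The gluing data. -/
noncomputable def glueData : Scheme.GlueData.{u} where
  J := ULift.{u} (Fin 𝒲.n)
  U k := Ch B k.down
  V p := (V hB p.1.down p.2.down).toScheme
  f k l := (V hB k.down l.down).ι
  f_id k := isIso_opens_ι_of_eq_top (V_self hB k.down)
  t k l := t hB k.down l.down
  t_id k := t_self hB k.down
  t' i j k := t' hB i.down j.down k.down
  t_fac i j k := pullback.lift_snd _ _ _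
  cocycle i j k := cocycle hB i.down j.down k.down
  f_open _ _ := inferInstance

end GrothLib.AbsApprox.Cov
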