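import Mathlib.AlgebraicGeometry.AffineTransitionLimit
import Mathlib.AlgebraicGeometry.IdealSheaf.Functorial
import Groth.Agent.Lib.AbsApprox.System

/-!
# Closed subschemes of a limit are limits of their scheme theoretic images
-/

set_option autoImplicit false
set_option backward.isDefEq.respectTransparency false
set_option linter.style.haveILetI false

universe u

open CategoryTheory CategoryTheory.Limits AlgebraicGeometry TopologicalSpace Opposite

namespace GrothLib.AbsApprox

variable {J : Type u} [SmallCategory J] [IsCofiltered J] (G : J ⥤ Scheme.{u}) (cG : Cone G)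
  [∀ (i j : J) (f : i ⟶ j), IsAffineHom (G.map f)]

/-- An affine open of a stage pulls back to sections coming from the smaller stages. -/
theorem exists_app_eq_of_isAffineOpen (hG : IsLimit cG) {i : J} {U : (G.obj i).Opens}
    (hU : IsAffineOpen U) (x : Γ(cG.pt, cG.π.app i ⁻¹ᵁ U)) :
    ∃ (j : J) (φ : j ⟶ i) (b : Γ(G.obj j, G.map φ ⁻¹ᵁ U))
      (h : cG.π.app i ⁻¹ᵁ U = cG.π.app j ⁻¹ᵁ (G.map φ ⁻¹ᵁ U)),
      cG.pt.presheaf.map (eqToHom h).op ((cG.π.app j).app _ b) = x := by
  haveI : ∀ j : Over i, IsAffine ((opensDiagram G i U).obj j) := fun j => hU.preimage (G.map j.hom)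
  obtain ⟨j, t, ht⟩ := exists_appTop_π_eq_of_isAffine_of_isLimit _ _ (isLimitOpensCone G cG hG i U)
    ((cG.π.app i ⁻¹ᵁ U).topIso.inv x)
  have h : cG.π.app i ⁻¹ᵁ U = cG.π.app j.left ⁻¹ᵁ (G.map j.hom ⁻¹ᵁ U) := by
    rw [← Scheme.Hom.comp_preimage, cG.w]
  refine ⟨j.left, j.hom, (G.map j.hom ⁻¹ᵁ U).topIso.hom t, h, ?_⟩
  have e := congr((cG.π.app i ⁻¹ᵁ U).topIso.hom $ht)
  rw [Iso.inv_hom_id_apply] at e
  refine Eq.trans ?_ e
  have e2 : ((G.map j.hom ⁻¹ᵁ U).topIso.hom ≫ (cG.π.app j.left).app _) ≫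
      cG.pt.presheaf.map (eqToHom h).op =
      ((opensCone G cG i U).π.app j).appTop ≫ (cG.π.app i ⁻¹ᵁ U).topIso.hom := by
    simp [Scheme.Hom.resLE_appLE, Scheme.Hom.app_eq_appLE, Scheme.Hom.appLE_map, Scheme.Hom.map_appLE]
  exact congr($e2 t)

/-- Ideal sheaves on a limit are compared on their images in the stages. -/
theorem le_of_forall_map_le (hG : IsLimit cG) [∀ i, IsAffineHom (cG.π.app i)]
    {I K : cG.pt.IdealSheafData} (h : ∀ i, I.map (cG.π.app i) ≤ K.map (cG.π.app i)) : I ≤ K := by
  obtain ⟨i⟩ : Nonempty J := IsCofiltered.nonempty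
  refine Scheme.IdealSheafData.le_of_iSup_eq_top
    (fun U : (G.obj i).affineOpens => ⟨_, U.2.preimage (cG.π.app i)⟩) ?_ fun U x hx => ?_
  · show ⨆ U : (G.obj i).affineOpens, cG.π.app i ⁻¹ᵁ U.1 = ⊤
    rw [← Scheme.Hom.preimage_iSup, iSup_affineOpens_eq_top, Scheme.Hom.preimage_top]
  obtain ⟨j, φ, b, e, rfl⟩ := exists_app_eq_of_isAffineOpen G cG hG U.2 x
  let Uj : (G.obj j).affineOpens := ⟨_, U.2.preimage (G.map φ)⟩
  let W : cG.pt.affineOpens := ⟨_, U.2.preimage (cG.π.app i)⟩
  let W' : cG.pt.affineOpens := ⟨_, Uj.2.preimage (cG.π.app j)⟩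
  have hW : W = W' := Subtype.ext e
  have key : ∀ (L : cG.pt.IdealSheafData) (y : Γ(cG.pt, W'.1)) (V : cG.pt.affineOpens) (hV : V = W'),
      cG.pt.presheaf.map (eqToHom (congrArg Subtype.val hV)).op y ∈ L.ideal V ↔ y ∈ L.ideal W' := by
    intro L y V hV
    subst hV
    simp
  have hb : b ∈ (I.map (cG.π.app j)).ideal Uj := by
    rw [Scheme.IdealSheafData.ideal_map_of_isAffineHom]
    exact (key I _ W hW).1 hx
  have hb' := h j Uj hb
  rw [Scheme.IdealSheafData.ideal_map_of_isAffineHom] at hb'
  exact (key K _ W hW).2 hb'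

variable {X : Scheme.{u}} (ι : X ⟶ cG.pt)

omit [IsCofiltered J] [∀ (i j : J) (f : i ⟶ j), IsAffineHom (G.map f)] in
theorem ker_le_map {i j : J} (a : i ⟶ j) :
    (ι ≫ cG.π.app j).ker ≤ (ι ≫ cG.π.app i).ker.map (G.map a) := by
  rw [Scheme.IdealSheafData.map_ker, Category.assoc, cG.w]

/-- The images of `X` in the stages. -/
noncomputable def imageSys : J ⥤ Scheme.{u} where
  obj i := (ι ≫ cG.π.app i).ker.subscheme
  map {i j} a := Scheme.IdealSheafData.subschemeMap _ _ (G.map a) (ker_le_map G cG ι a)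
  map_id i := by
    rw [← cancel_mono (Scheme.IdealSheafData.subschemeι _),
      Scheme.IdealSheafData.subschemeMap_subschemeι, G.map_id]
    simp
  map_comp a b := by
    rw [← cancel_mono (Scheme.IdealSheafData.subschemeι _), Category.assoc,
      Scheme.IdealSheafData.subschemeMap_subschemeι, Scheme.IdealSheafData.subschemeMap_subschemeι,
      Scheme.IdealSheafData.subschemeMap_subschemeι_assoc, G.map_comp]

/-- The inclusions of the images. -/
noncomputable def imageIncl : imageSys G cG ι ⟶ G where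
  app i := (ι ≫ cG.π.app i).imageι
  naturality i j a := Scheme.IdealSheafData.subschemeMap_subschemeι _ _ _ (ker_le_map G cG ι a)

instance isClosedImmersion_imageIncl (i : J) : IsClosedImmersion ((imageIncl G cG ι).app i) :=
  show IsClosedImmersion (ι ≫ cG.π.app i).ker.subschemeι from inferInstance

theorem isAffineHom_imageSys {i j : J} (a : i ⟶ j) : IsAffineHom ((imageSys G cG ι).map a) := by
  haveI : IsAffineHom ((imageSys G cG ι).map a ≫ (imageIncl G cG ι).app j) := by
    rw [(imageIncl G cG ι).naturality a]; infer_instance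
  exact MorphismProperty.of_postcomp (W := @IsAffineHom) (W' := @IsSeparated) _
    ((imageIncl G cG ι).app j) inferInstance ‹_›

/-- The cone of images with vertex `X`. -/
noncomputable def imageCone : Cone (imageSys G cG ι) where
  pt := X
  π :=
    { app := fun i => (ι ≫ cG.π.app i).toImage
      naturality := fun i j a => by
        refine (Category.id_comp _).trans ?_
        refine (cancel_mono ((imageIncl G cG ι).app j)).1 ?_
        rw [Category.assoc, (imageIncl G cG ι).naturality a]
        exact (Scheme.Hom.toImage_imageι _).trans ((congrArg (ι ≫ ·) (cG.w a).symm).trans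
          ((Category.assoc _ _ _).symm.trans ((congrArg (· ≫ G.map a)
            (Scheme.Hom.toImage_imageι (ι ≫ cG.π.app i)).symm).trans (Category.assoc _ _ _)))) }

theorem imageCone_π (i : J) : (imageCone G cG ι).π.app i ≫ (imageIncl G cG ι).app i = ι ≫ cG.π.app i :=
  Scheme.Hom.toImage_imageι (ι ≫ cG.π.app i)

/-- A closed subscheme of a limit is the limit of its images. -/
noncomputable def isLimitImageCone (hG : IsLimit cG) [∀ i, IsAffineHom (cG.π.app i)]
    [IsClosedImmersion ι] : IsLimit (imageCone G cG ι) := by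
  have hm : ∀ s : Cone (imageSys G cG ι), ι.ker ≤ (hG.lift ((Cone.postcompose (imageIncl G cG ι)).obj s)).ker := by
    intro s
    refine le_of_forall_map_le G cG hG fun i => ?_
    rw [Scheme.IdealSheafData.map_ker, Scheme.IdealSheafData.map_ker, hG.fac]
    refine (Scheme.IdealSheafData.ker_subschemeι (ι ≫ cG.π.app i).ker).ge.trans ?_
    exact Scheme.Hom.le_ker_comp (s.π.app i) ((imageIncl G cG ι).app i)
  refine
    { lift := fun s => IsClosedImmersion.lift ι _ (hm s)
      fac := fun s i => ?_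
      uniq := fun s m hm' => ?_ }
  · refine (cancel_mono ((imageIncl G cG ι).app i)).1 ?_
    rw [Category.assoc, imageCone_π, IsClosedImmersion.lift_fac_assoc, hG.fac]
    rfl
  · refine (cancel_mono ι).1 (hG.hom_ext fun i => ?_)
    rw [IsClosedImmersion.lift_fac, hG.fac, Category.assoc, ← imageCone_π, reassoc_of% hm']
    rfl

end GrothLib.AbsApprox
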