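import Groth.Agent.Lib.AbsApprox.Rel
import Mathlib.AlgebraicGeometry.Morphisms.Immersion

/-!
# Immersions into schemes of finite presentation
-/

set_option autoImplicit false
set_option backward.isDefEq.respectTransparency false
set_option linter.style.haveILetI false

universe u

open CategoryTheory CategoryTheory.Limits AlgebraicGeometry TopologicalSpace Opposite

namespace GrothLib.AbsApprox

variable {X S : Scheme.{u}}

/-- A cover of the source by affines mapping into affines of the target. -/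
theorem exists_refine_affine [CompactSpace X] [QuasiSeparatedSpace X] (f : X ⟶ S) :
    ∃ (𝒲 : Cov X) (V : Fin 𝒲.n → S.affineOpens), ∀ k, (𝒲.W k).1 ≤ f ⁻¹ᵁ (V k).1 := by
  classical
  have h : ∀ x : X, ∃ (U : X.affineOpens) (V : S.affineOpens), x ∈ U.1 ∧ U.1 ≤ f ⁻¹ᵁ V.1 := fun x => by
    obtain ⟨_, ⟨V, hV, rfl⟩, hxV, -⟩ :=
      S.isBasis_affineOpens.exists_subset_of_mem_open (Set.mem_univ (f x)) isOpen_univ
    obtain ⟨_, ⟨U, hU, rfl⟩, hxU, hUV⟩ :=
      X.isBasis_affineOpens.exists_subset_of_mem_open (show x ∈ f ⁻¹ᵁ V from hxV) (f ⁻¹ᵁ V).2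
    exact ⟨⟨U, hU⟩, ⟨V, hV⟩, hxU, hUV⟩
  choose U V hxU hle using h
  obtain ⟨t, ht⟩ := isCompact_univ.elim_finite_subcover (fun x : X => ((U x).1 : Set X)) (fun x => (U x).1.2)
    (fun x _ => Set.mem_iUnion.2 ⟨x, hxU x⟩)
  let W : Fin t.card → X.affineOpens := fun k => U (t.equivFin.symm k).1
  have hW : ⨆ k, (W k).1 = ⊤ := by
    refine top_unique fun x _ => ?_
    obtain ⟨y, hy, hx⟩ := Set.mem_iUnion₂.1 (ht (Set.mem_univ x))
    exact Opens.mem_iSup.2 ⟨t.equivFin ⟨y, hy⟩, by simpa [W] using hx⟩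
  obtain ⟨P, h1, h2, h3, h4⟩ := exists_cov W hW
  exact ⟨⟨_, W, hW, P, h1, h2, h3, h4⟩, fun k => V (t.equivFin.symm k).1, fun k => hle _⟩

theorem range_appTop_comp_le {A B C : Scheme.{u}} (f : A ⟶ B) (g : B ⟶ C) :
    (f ≫ g).appTop.hom.range ≤ f.appTop.hom.range := by
  rintro _ ⟨x, rfl⟩
  exact ⟨g.appTop x, by rw [Scheme.Hom.comp_appTop]; rfl⟩

/-- A scheme of finite type over `S` has an immersion into a scheme of finite presentation. -/
theorem exists_immersion_fp (f : X ⟶ S) [LocallyOfFiniteType f] [CompactSpace X] [QuasiSeparatedSpace X] :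
    ∃ (X' : Scheme.{u}) (f' : X' ⟶ S) (j : X ⟶ X'), LocallyOfFinitePresentation f' ∧ QuasiCompact f' ∧
      QuasiSeparated f' ∧ IsImmersion j ∧ j ≫ f' = f := by
  classical
  obtain ⟨𝒲, V, hle⟩ := exists_refine_affine f
  have hgen : ∀ k, ∃ s : Finset (𝒲.A k), Subring.closure
      (Set.range (f.appLE (V k).1 (𝒲.W k).1 (hle k)).hom ∪ (s : Set (𝒲.A k))) = ⊤ := by
    intro k
    have h := f.finiteType_appLE (V k).2 (𝒲.W k).2 (hle k)
    algebraize [(f.appLE (V k).1 (𝒲.W k).1 (hle k)).hom]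
    obtain ⟨s, hs⟩ := ‹Algebra.FiniteType Γ(S, (V k).1) (𝒲.A k)›
    refine ⟨s, top_unique fun x _ => ?_⟩
    have hx : x ∈ Algebra.adjoin Γ(S, (V k).1) (s : Set (𝒲.A k)) := hs ▸ Algebra.mem_top
    exact Algebra.adjoin_eq_ring_closure (R := Γ(S, (V k).1)) (s := (s : Set (𝒲.A k))) ▸ hx
  choose s hs using hgen
  obtain ⟨B, hB, -⟩ := Cov.exists_le_idx (fun k => Subring.closure (s k : Set (𝒲.A k)))
    (fun k => fg_closure (s k).finite_toSet) (Cov.Large.of_forall (Q := fun _ => True) fun _ => trivial)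
  let T := Cov.model B.2
  let tT : T ⟶ Spec (CommRingCat.of (ULift.{u} ℤ)) := IsTerminal.from specULiftZIsTerminal T
  let tS : S ⟶ Spec (CommRingCat.of (ULift.{u} ℤ)) := IsTerminal.from specULiftZIsTerminal S
  haveI : IsNoetherianRing (CommRingCat.of (ULift.{u} ℤ)) := Cov.isNoetherianRing_ulift_int
  haveI := Cov.isLocallyNoetherian_model B.2
  haveI : LocallyOfFiniteType tT := Cov.locallyOfFiniteType_model B.2
  let P := pullback tT tS
  let p₁ : P ⟶ T := pullback.fst tT tS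
  let p₂ : P ⟶ S := pullback.snd tT tS
  haveI : LocallyOfFinitePresentation p₂ := MorphismProperty.pullback_snd _ _ inferInstance
  haveI : QuasiCompact p₂ := MorphismProperty.pullback_snd _ _ inferInstance
  haveI : QuasiSeparated p₂ := MorphismProperty.pullback_snd _ _ inferInstance
  let j : X ⟶ P := pullback.lift (Cov.toModel B.2) f (specULiftZIsTerminal.hom_ext _ _)
  have hj₁ : j ≫ p₁ = Cov.toModel B.2 := pullback.lift_fst _ _ _
  have hj₂ : j ≫ p₂ = f := pullback.lift_snd _ _ _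
  let O : ULift.{u} (Fin 𝒲.n) → P.Opens := fun k =>
    p₁ ⁻¹ᵁ (Cov.ι B.2 k.down).opensRange ⊓ p₂ ⁻¹ᵁ (V k.down).1
  have hpre : ∀ k, j ⁻¹ᵁ O k = (𝒲.W k.down).1 := fun k => by
    show j ⁻¹ᵁ (p₁ ⁻¹ᵁ (Cov.ι B.2 k.down).opensRange) ⊓ j ⁻¹ᵁ (p₂ ⁻¹ᵁ (V k.down).1) = _
    rw [← Scheme.Hom.comp_preimage, ← Scheme.Hom.comp_preimage, hj₁, hj₂, Cov.toModel_preimage]
    exact inf_eq_left.2 (hle k.down)
  have hO : ∀ k, IsAffineOpen (O k) := fun k => by
    let U₁ := (Cov.ι B.2 k.down).opensRange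
    haveI : IsAffine U₁.toScheme := isAffineOpen_opensRange _
    haveI : IsAffine (V k.down).1.toScheme := (V k.down).2
    let m : pullback (U₁.ι ≫ tT) ((V k.down).1.ι ≫ tS) ⟶ P :=
      pullback.map _ _ _ _ U₁.ι (V k.down).1.ι (𝟙 _) (by simp) (by simp)
    have hm : m.opensRange = O k := by
      ext z
      show z ∈ Set.range m ↔ z ∈ (O k : Set P)
      rw [Scheme.Pullback.range_map]
      simp [O, U₁, p₁, p₂, Scheme.Opens.range_ι]
      rfl
    exact hm ▸ isAffineOpen_opensRange m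
  let U : P.Opens := ⨆ k, O k
  have hr : Set.range j ⊆ Set.range U.ι := by
    rintro _ ⟨x, rfl⟩
    rw [Scheme.Opens.range_ι]
    have hx : x ∈ ⨆ k, (𝒲.W k).1 := by rw [𝒲.iSup_W]; trivial
    obtain ⟨k, hk⟩ := Opens.mem_iSup.1 hx
    rw [← hpre ⟨k⟩] at hk
    exact Opens.mem_iSup.2 ⟨⟨k⟩, hk⟩
  let j' : X ⟶ U.toScheme := IsOpenImmersion.lift U.ι j hr
  have hj' : j' ≫ U.ι = j := IsOpenImmersion.lift_fac _ _ _
  have hcl : IsClosedImmersion j' := by
    refine IsZariskiLocalAtTarget.of_iSup_eq_top (P := @IsClosedImmersion) (fun k => U.ι ⁻¹ᵁ O k) ?_ fun k => ?_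
    · rw [← Scheme.Hom.preimage_iSup]
      exact Scheme.Opens.ι_preimage_self _
    · haveI : IsAffine (U.ι ⁻¹ᵁ O k).toScheme :=
        (hO k).preimage_of_isOpenImmersion U.ι (by rw [Scheme.Opens.opensRange_ι]; exact le_iSup O k)
      have e : j' ⁻¹ᵁ (U.ι ⁻¹ᵁ O k) = (𝒲.W k.down).1 := by rw [← Scheme.Hom.comp_preimage, hj', hpre]
      let r : (𝒲.W k.down).1.toScheme ⟶ (U.ι ⁻¹ᵁ O k).toScheme := j'.resLE _ _ e.ge
      haveI : IsAffine (𝒲.W k.down).1.toScheme := (𝒲.W k.down).2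
      have hr₁ : r ≫ (U.ι ⁻¹ᵁ O k).ι ≫ U.ι = (𝒲.W k.down).1.ι ≫ j := by
        simp only [r, Scheme.Hom.resLE_comp_ι_assoc, hj']
      let a : (U.ι ⁻¹ᵁ O k).toScheme ⟶ Cov.Ch B.1 k.down :=
        IsOpenImmersion.lift (Cov.ι B.2 k.down) ((U.ι ⁻¹ᵁ O k).ι ≫ U.ι ≫ p₁) (by
          rintro _ ⟨z, rfl⟩; exact z.2.1)
      let b : (U.ι ⁻¹ᵁ O k).toScheme ⟶ (V k.down).1.toScheme :=
        IsOpenImmersion.lift (V k.down).1.ι ((U.ι ⁻¹ᵁ O k).ι ≫ U.ι ≫ p₂) (by
          rw [Scheme.Opens.range_ι]; rintro _ ⟨z, rfl⟩; exact z.2.2)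
      have ha : r ≫ a = Cov.pr B.1 k.down := by
        rw [← cancel_mono (Cov.ι B.2 k.down), Category.assoc, IsOpenImmersion.lift_fac, reassoc_of% hr₁, hj₁,
          Cov.ι_toModel]
      have hb : r ≫ b = f.resLE _ _ (hle k.down) := by
        rw [← cancel_mono (V k.down).1.ι, Category.assoc, IsOpenImmersion.lift_fac, reassoc_of% hr₁, hj₂,
          Scheme.Hom.resLE_comp_ι]
      haveI hcr : IsClosedImmersion r := by
        refine IsClosedImmersion.of_surjective_of_isAffine _ fun x => ?_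
        show x ∈ r.appTop.hom.range
        have hsur : Function.Surjective ((𝒲.W k.down).1.toSpecΓ.appTop) := by
          haveI : IsIso (𝒲.W k.down).1.toSpecΓ := (𝒲.W k.down).2.isoSpec_hom ▸ inferInstance
          exact (asIso (𝒲.W k.down).1.toSpecΓ.appTop).commRingCatIsoToRingEquiv.surjective
        obtain ⟨y, rfl⟩ := hsur x
        obtain ⟨z, rfl⟩ : ∃ z, (Scheme.ΓSpecIso (𝒲.A k.down)).inv z = y :=
          ⟨(Scheme.ΓSpecIso (𝒲.A k.down)).hom y, by simp⟩
        let e₀ : 𝒲.A k.down →+* Γ((𝒲.W k.down).1.toScheme, ⊤) :=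
          ((Scheme.ΓSpecIso (𝒲.A k.down)).inv ≫ (𝒲.W k.down).1.toSpecΓ.appTop).hom
        show z ∈ r.appTop.hom.range.comap e₀
        have hz : z ∈ (⊤ : Subring (𝒲.A k.down)) := trivial
        rw [← hs k.down] at hz
        refine (Subring.closure_le.2 ?_) hz
        rintro w (⟨v, rfl⟩ | hw)
        · refine range_appTop_comp_le r b ?_
          rw [hb]
          refine ⟨((Scheme.ΓSpecIso Γ(S, (V k.down).1)).inv ≫ (V k.down).1.toSpecΓ.appTop) v, ?_⟩
          have := congr(($(Scheme.Opens.toSpecΓ_SpecMap_appLE f (V k.down).1 (𝒲.W k.down).1 (hle k.down))).appTop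
            ((Scheme.ΓSpecIso Γ(S, (V k.down).1)).inv v))
          simp only [Scheme.Hom.comp_appTop, CommRingCat.comp_apply] at this
          refine this.symm.trans (congrArg _ ?_)
          exact congr($((Scheme.ΓSpecIso_inv_naturality (f.appLE (V k.down).1 (𝒲.W k.down).1 (hle k.down))).symm) v)
        · refine range_appTop_comp_le r a ?_
          rw [ha]
          refine ⟨(Scheme.ΓSpecIso (CommRingCat.of (B.1 k.down))).inv ⟨w, hB k.down (Subring.subset_closure hw)⟩, ?_⟩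
          simp only [Cov.pr, qmap, Scheme.Hom.comp_appTop, CommRingCat.comp_apply]
          exact congrArg (𝒲.W k.down).1.toSpecΓ.appTop
            congr($((Scheme.ΓSpecIso_inv_naturality (inclHom (B.1 k.down))).symm) ⟨w, _⟩)
      have e2 : j' ∣_ (U.ι ⁻¹ᵁ O k) = (X.isoOfEq e).hom ≫ r := by
        rw [← cancel_mono (U.ι ⁻¹ᵁ O k).ι, morphismRestrict_ι, Category.assoc, Scheme.Hom.resLE_comp_ι]
        simp
      rw [e2]
      infer_instance
  haveI := hcl
  exact ⟨P, p₂, j, inferInstance, inferInstance, inferInstance, hj' ▸ inferInstance, hj₂⟩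

end GrothLib.AbsApprox
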