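import Groth.Agent.Lib.AbsApprox.RelMain
import Groth.Agent.Lib.AbsApprox.ClosedProps
import Groth.Agent.Lib.Nagata6.Modification

/-!
# An integral morphism is a limit of finite morphisms of finite presentation
-/

set_option autoImplicit false
set_option backward.isDefEq.respectTransparency false
set_option linter.style.haveILetI false

universe u

open CategoryTheory CategoryTheory.Limits AlgebraicGeometry TopologicalSpace Opposite

namespace GrothLib.AbsApprox

variable {X Y S : Scheme.{u}}

/-- The scheme theoretic image in an affine scheme over the base of an integral scheme is integral. -/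
theorem isIntegralHom_image (π : X ⟶ Y) (g : Y ⟶ S) [QuasiCompact π] [IsAffineHom g]
    [IsIntegralHom (π ≫ g)] : IsIntegralHom (π.imageι ≫ g) where
  toIsAffineHom := inferInstance
  isIntegral_app U hU := fun y => by
    let V : Y.affineOpens := ⟨g ⁻¹ᵁ U, hU.preimage g⟩
    have hinj := π.toImage_app_injective V
    have hcomp : (π.toImage ≫ π.imageι ≫ g) = π ≫ g := by rw [← Category.assoc, π.toImage_imageι]
    haveI : IsIntegralHom (π.toImage ≫ π.imageι ≫ g) := hcomp ▸ ‹IsIntegralHom (π ≫ g)›
    obtain ⟨p, hp, hpy⟩ := IsIntegralHom.isIntegral_app (π.toImage ≫ π.imageι ≫ g) U hU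
      (π.toImage.app _ y)
    refine ⟨p, hp, hinj ?_⟩
    rw [map_zero]
    refine (Polynomial.hom_eval₂ p _ (π.toImage.app ((π.imageι ≫ g) ⁻¹ᵁ U)).hom y).trans ?_
    rw [Scheme.Hom.comp_app, CommRingCat.hom_comp] at hpy
    exact hpy

variable {I : Type u} [Preorder I] {D : Iᵒᵖ ⥤ Over S} (f : X ⟶ S)
  (π : (Functor.const Iᵒᵖ).obj (Over.mk f) ⟶ D)

/-- A finitely presented closed subscheme, finite over the base, containing the image. -/
structure FinIdx where
  i : I
  J : FgSub (π.app (op i)).left
  fin : IsFinite (J.1.subschemeι ≫ (D.obj (op i)).hom)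

namespace FinIdx

variable {f π}

instance : Preorder (FinIdx f π) where
  le a b := ∃ h : a.i ≤ b.i, a.J.1.comap (D.map (homOfLE h).op).left ≤ b.J.1
  le_refl a := ⟨le_rfl, by
    rw [show (homOfLE (le_refl a.i)).op = 𝟙 (op a.i) from rfl, D.map_id]
    exact le_of_eq (by simp)⟩
  le_trans a b c := fun ⟨h, hJ⟩ ⟨h', hJ'⟩ => ⟨h.trans h', by
    rw [show (homOfLE (h.trans h')).op = (homOfLE h').op ≫ (homOfLE h).op from rfl, D.map_comp, Over.comp_left,
      Scheme.IdealSheafData.comap_comp]
    exact ((Scheme.IdealSheafData.map_gc _).monotone_l hJ).trans hJ'⟩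

theorem comap_le_ker {i j : I} (h : i ≤ j) {J : (D.obj (op i)).left.IdealSheafData}
    (hJ : J ≤ (π.app (op i)).left.ker) :
    J.comap (D.map (homOfLE h).op).left ≤ (π.app (op j)).left.ker := by
  rw [← Scheme.IdealSheafData.le_map_iff_comap_le, Scheme.IdealSheafData.map_ker]
  refine hJ.trans (le_of_eq ?_)
  rw [← Over.comp_left, ← π.naturality (homOfLE h).op]
  exact congrArg Scheme.Hom.ker (Category.id_comp _).symm

theorem trans_le {a b : FinIdx f π} (h : a ≤ b) :
    a.J.1 ≤ b.J.1.map (D.map (homOfLE h.choose).op).left :=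
  Scheme.IdealSheafData.le_map_iff_comap_le.2 h.choose_spec

variable (f π)

/-- The system of finite finitely presented schemes. -/
noncomputable def sys : (FinIdx f π)ᵒᵖ ⥤ Over S where
  obj a := Over.mk (a.unop.J.1.subschemeι ≫ (D.obj (op a.unop.i)).hom)
  map {a b} t := Over.homMk (Scheme.IdealSheafData.subschemeMap _ _ _ (trans_le t.unop.le)) (by
    show Scheme.IdealSheafData.subschemeMap _ _ _ (trans_le t.unop.le) ≫ b.unop.J.1.subschemeι ≫ _ = _
    rw [Scheme.IdealSheafData.subschemeMap_subschemeι_assoc, Over.w]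
    rfl)
  map_id a := by
    ext1
    show Scheme.IdealSheafData.subschemeMap _ _ _ (trans_le (le_refl a.unop)) = 𝟙 _
    rw [← cancel_mono a.unop.J.1.subschemeι, Scheme.IdealSheafData.subschemeMap_subschemeι]
    rw [show (homOfLE (le_refl a.unop).choose).op = 𝟙 (op a.unop.i) from rfl, D.map_id]
    simp
  map_comp {a b c} s t := by
    ext1
    show Scheme.IdealSheafData.subschemeMap _ _ _ (trans_le (s ≫ t).unop.le) =
      Scheme.IdealSheafData.subschemeMap _ _ _ (trans_le s.unop.le) ≫
        Scheme.IdealSheafData.subschemeMap _ _ _ (trans_le t.unop.le)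
    rw [← cancel_mono c.unop.J.1.subschemeι, Category.assoc, Scheme.IdealSheafData.subschemeMap_subschemeι,
      Scheme.IdealSheafData.subschemeMap_subschemeι, Scheme.IdealSheafData.subschemeMap_subschemeι_assoc,
      show (homOfLE (s ≫ t).unop.le.choose).op =
        (homOfLE s.unop.le.choose).op ≫ (homOfLE t.unop.le.choose).op from rfl, D.map_comp, Over.comp_left]

variable [∀ i, QuasiCompact (π.app i).left]

/-- The lift of a projection to a closed subscheme containing the image. -/
noncomputable def proj (a : FinIdx f π) : X ⟶ a.J.1.subscheme :=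
  (π.app (op a.i)).left.toImage ≫ Scheme.IdealSheafData.inclusion a.J.2.1

theorem proj_ι (a : FinIdx f π) : proj f π a ≫ a.J.1.subschemeι = (π.app (op a.i)).left := by
  rw [proj, Category.assoc, Scheme.IdealSheafData.inclusion_subschemeι]
  exact Scheme.Hom.toImage_imageι _

/-- The cone with vertex `X`. -/
noncomputable def cone : Cone (sys f π) where
  pt := Over.mk f
  π :=
    { app := fun a => Over.homMk (proj f π a.unop) (by
        show proj f π a.unop ≫ a.unop.J.1.subschemeι ≫ (D.obj (op a.unop.i)).hom = f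
        rw [← Category.assoc, proj_ι]
        exact Over.w (π.app (op a.unop.i)))
      naturality := fun a b t => by
        ext1
        show 𝟙 X ≫ proj f π b.unop = proj f π a.unop ≫ Scheme.IdealSheafData.subschemeMap _ _ _ (trans_le t.unop.le)
        rw [← cancel_mono b.unop.J.1.subschemeι, Category.id_comp, Category.assoc,
          Scheme.IdealSheafData.subschemeMap_subschemeι, proj_ι, ← Category.assoc, proj_ι]
        exact (Category.id_comp _).symm.trans (congrArg Over.Hom.left (π.naturality (homOfLE t.unop.le.choose).op)) }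

variable [IsDirected I (fun a b => a ≤ b)] [∀ i, IsAffineHom (D.obj i).hom]
  [∀ i, LocallyOfFiniteType (D.obj i).hom] [CompactSpace S] [QuasiSeparatedSpace S] [IsIntegralHom f]

/-- Every stage has a finite finitely presented closed subscheme containing the image. -/
theorem exists_idx (i : I) : ∃ J : FgSub (π.app (op i)).left, IsFinite (J.1.subschemeι ≫ (D.obj (op i)).hom) := by
  let p := (π.app (op i)).left
  let g := (D.obj (op i)).hom
  haveI : CompactSpace ↥(D.obj (op i)).left := QuasiCompact.compactSpace_of_compactSpace g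
  haveI : QuasiSeparatedSpace ↥(D.obj (op i)).left := quasiSeparatedSpace_of_quasiSeparated g
  haveI : IsIntegralHom (p ≫ g) := by
    have e : p ≫ g = f := Over.w (π.app (op i))
    rw [e]; infer_instance
  haveI := isIntegralHom_image p g
  let F := closedSys p.imageι ⋙ Over.forget _
  let cF := (Over.forget _).mapCone (closedCone p.imageι)
  have hF : IsLimit cF := isLimitOfPreserves _ (isLimitClosedCone p.imageι)
  let t : F ⟶ (Functor.const _).obj S :=
    { app := fun J => J.unop.1.subschemeι ≫ g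
      naturality := fun J K a => by
        show Scheme.IdealSheafData.inclusion _ ≫ K.unop.1.subschemeι ≫ g = (J.unop.1.subschemeι ≫ g) ≫ 𝟙 S
        rw [Scheme.IdealSheafData.inclusion_subschemeι_assoc, Category.comp_id] }
  haveI : ∀ (J K) (a : J ⟶ K), IsClosedImmersion (F.map a) := fun J K a =>
    isClosedImmersion_inclusion (show K.unop.1 ≤ J.unop.1 from a.unop.le)
  haveI : ∀ (J K) (a : J ⟶ K), IsAffineHom (F.map a) := fun J K a => inferInstance
  haveI : ∀ (J K) (a : J ⟶ K), IsFinite (F.map a) := fun J K a => inferInstance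
  haveI : ∀ J, CompactSpace ↥(F.obj J) := fun J =>
    QuasiCompact.compactSpace_of_compactSpace J.unop.1.subschemeι
  haveI : ∀ J, QuasiSeparatedSpace ↥(F.obj J) := fun J =>
    quasiSeparatedSpace_of_quasiSeparated J.unop.1.subschemeι
  haveI : ∀ J, LocallyOfFiniteType (t.app J : F.obj J ⟶ S) := fun J =>
    inferInstanceAs (LocallyOfFiniteType (J.unop.1.subschemeι ≫ g))
  obtain ⟨J₀⟩ : Nonempty (FgSub p.imageι)ᵒᵖ := inferInstance
  haveI : IsIntegralHom (cF.π.app J₀ ≫ t.app J₀) := by
    show IsIntegralHom (((closedCone p.imageι).π.app J₀).left ≫ J₀.unop.1.subschemeι ≫ g)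
    have e : ((closedCone p.imageι).π.app J₀).left ≫ J₀.unop.1.subschemeι = p.imageι :=
      Over.w ((closedCone p.imageι).π.app J₀)
    rw [← Category.assoc, e]
    infer_instance
  obtain ⟨k, hk⟩ := GrothLib.LimDesc.eventually_isFinite F hF t J₀
  refine ⟨⟨k.unop.1, ?_, k.unop.2.2⟩, hk k (𝟙 k)⟩
  exact k.unop.2.1.trans (Scheme.IdealSheafData.ker_subschemeι _).le

theorem exists_above (a : FinIdx f π) {k : I} (h : a.i ≤ k) : ∃ b : FinIdx f π, b.i = k ∧ a ≤ b := by
  obtain ⟨K, hK⟩ := exists_idx f π k
  let J' := a.J.1.comap (D.map (homOfLE h).op).left ⊔ K.1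
  have hJ : J' ≤ (π.app (op k)).left.ker := sup_le (comap_le_ker h a.J.2.1) K.2.1
  refine ⟨⟨k, ⟨J', hJ, fun U => Submodule.FG.sup (Nagata6.fg_comap' _ a.J.2.2 _ U) (K.2.2 U)⟩, ?_⟩, rfl,
    h, le_sup_left⟩
  have e : Scheme.IdealSheafData.inclusion (le_sup_right : K.1 ≤ J') ≫ K.1.subschemeι ≫ (D.obj (op k)).hom =
      J'.subschemeι ≫ (D.obj (op k)).hom := Scheme.IdealSheafData.inclusion_subschemeι_assoc _ _
  haveI := hK
  haveI := isClosedImmersion_inclusion (le_sup_right : K.1 ≤ J')
  show IsFinite (J'.subschemeι ≫ (D.obj (op k)).hom)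
  rw [← e]
  exact MorphismProperty.comp_mem _ _ _ (inferInstance : IsFinite _) hK

theorem isDirected : IsDirected (FinIdx f π) (fun a b => a ≤ b) := ⟨fun a a' => by
  obtain ⟨k, h, h'⟩ := exists_ge_ge a.i a'.i
  obtain ⟨b, hbk, hb⟩ := exists_above f π a h
  obtain ⟨b', hbk', hb'⟩ := exists_above f π a' h'
  obtain ⟨i, J, hfin⟩ := b
  obtain ⟨i', J', hfin'⟩ := b'
  dsimp only at hbk hbk'
  subst hbk
  subst hbk'
  have hJ : J.1 ⊔ J'.1 ≤ (π.app (op i')).left.ker := sup_le J.2.1 J'.2.1
  have hf : IsFinite ((J.1 ⊔ J'.1).subschemeι ≫ (D.obj (op i')).hom) := by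
    rw [← Scheme.IdealSheafData.inclusion_subschemeι_assoc (le_sup_left : J.1 ≤ J.1 ⊔ J'.1)]
    haveI := isClosedImmersion_inclusion (le_sup_left : J.1 ≤ J.1 ⊔ J'.1)
    exact MorphismProperty.comp_mem _ _ _ (inferInstance : IsFinite _) hfin
  refine ⟨⟨i', ⟨_, hJ, fun U => Submodule.FG.sup (J.2.2 U) (J'.2.2 U)⟩, hf⟩, ?_, ?_⟩
  · refine le_trans hb ⟨le_rfl, ?_⟩
    rw [show (homOfLE (le_refl i')).op = 𝟙 (op i') from rfl, D.map_id]
    simp
  · refine le_trans hb' ⟨le_rfl, ?_⟩
    rw [show (homOfLE (le_refl i')).op = 𝟙 (op i') from rfl, D.map_id]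
    simp⟩

/-- `X` is the limit. -/
theorem isLimit [Nonempty I] (hl : IsLimit (Cone.mk (Over.mk f) π)) : Nonempty (IsLimit (cone f π)) := by
  choose J hJ using exists_idx f π
  let idx : I → FinIdx f π := fun i => ⟨i, J i, hJ i⟩
  let m : ∀ (s : Cone (sys f π)) (i : I), s.pt ⟶ D.obj (op i) := fun s i =>
    s.π.app (op (idx i)) ≫ Over.homMk (J i).1.subschemeι rfl
  have hw : ∀ (s : Cone (sys f π)) {a b : FinIdx f π} (h : a ≤ b),
      ((s.π.app (op b)).left ≫ b.J.1.subschemeι) ≫ (D.map (homOfLE h.choose).op).left =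
        (s.π.app (op a)).left ≫ a.J.1.subschemeι := by
    intro s a b h
    rw [← s.w (homOfLE h).op]
    show _ = (_ ≫ Scheme.IdealSheafData.subschemeMap _ _ _ (trans_le h)) ≫ _
    rw [Category.assoc, Category.assoc, Scheme.IdealSheafData.subschemeMap_subschemeι]
  have key : ∀ (s : Cone (sys f π)) (a : FinIdx f π) (i : I) (h : a.i ≤ i),
      (m s i).left ≫ (D.map (homOfLE h).op).left = (s.π.app (op a)).left ≫ a.J.1.subschemeι := by
    intro s a i h
    haveI := isDirected f π
    obtain ⟨b, hb, hb'⟩ := exists_ge_ge a (idx i)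
    show ((s.π.app (op (idx i))).left ≫ (idx i).J.1.subschemeι) ≫ _ = _
    rw [← hw s hb', ← hw s hb, Category.assoc]
    congr 1
    rw [← Over.comp_left, ← D.map_comp]
    rfl
  let s' : ∀ s : Cone (sys f π), Cone D := fun s =>
    { pt := s.pt
      π :=
        { app := fun i => m s i.unop
          naturality := fun i j t => by
            ext1
            show 𝟙 _ ≫ (m s j.unop).left = (m s i.unop).left ≫ (D.map t).left
            rw [Category.id_comp]
            exact (key s (idx j.unop) i.unop t.unop.le).symm } }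
  have hm : ∀ (s : Cone (sys f π)) (g : s.pt ⟶ Over.mk f) (a : FinIdx f π),
      g.left ≫ (π.app (op a.i)).left = (s.π.app (op a)).left ≫ a.J.1.subschemeι →
      g.left ≫ proj f π a = (s.π.app (op a)).left := by
    intro s g a h
    rw [← cancel_mono a.J.1.subschemeι, Category.assoc, proj_ι, h]
  refine ⟨{ lift := fun s => hl.lift (s' s), fac := fun s a => ?_, uniq := fun s g hg => ?_ }⟩
  · ext1
    refine hm s _ a.unop ?_
    have h1 := congrArg Over.Hom.left (hl.fac (s' s) (op a.unop.i))
    refine h1.trans ?_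
    show (m s a.unop.i).left = _
    have h2 := key s a.unop a.unop.i le_rfl
    rw [show (homOfLE (le_refl a.unop.i)).op = 𝟙 (op a.unop.i) from rfl, D.map_id] at h2
    exact (Category.comp_id _).symm.trans h2
  · refine hl.uniq (s' s) g fun i => ?_
    ext1
    show g.left ≫ (π.app i).left = (s.π.app (op (idx i.unop))).left ≫ (J i.unop).1.subschemeι
    rw [← hg (op (idx i.unop))]
    show g.left ≫ (π.app (op (idx i.unop).i)).left = (g.left ≫ proj f π (idx i.unop)) ≫ (idx i.unop).J.1.subschemeι
    rw [Category.assoc, proj_ι]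

end FinIdx

end GrothLib.AbsApprox
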