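import Mathlib.RingTheory.Localization.Away.Basic
import Mathlib.Algebra.Ring.Subring.Basic
import Mathlib.RingTheory.Ideal.Maps
import Mathlib.RingTheory.Spectrum.Prime.Topology

/-!
# Localizations of subrings inside a localization

For `r : A →+* A'`, a subring `B` of `A` and `f : A`, `Loc r B f` is the subring of `A'`
generated by the image of `B` and the inverse of `r f`.
-/

set_option autoImplicit false

universe u

namespace GrothLib.AbsApprox

/-- A subring generated by finitely many elements. -/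
def Fg {A : Type u} [CommRing A] (B : Subring A) : Prop := ∃ s : Set A, s.Finite ∧ Subring.closure s = B

variable {A A' A'' : Type u} [CommRing A] [CommRing A'] [CommRing A'']

theorem Fg.sup {B C : Subring A} (hB : Fg B) (hC : Fg C) : Fg (B ⊔ C) := by
  obtain ⟨s, hs, rfl⟩ := hB
  obtain ⟨t, ht, rfl⟩ := hC
  exact ⟨s ∪ t, hs.union ht, Subring.closure_union s t⟩

theorem fg_closure {s : Set A} (hs : s.Finite) : Fg (Subring.closure s) := ⟨s, hs, rfl⟩

/-- The subring of `A'` generated by the image of `B` and the inverse of `r f`. -/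
noncomputable def Loc (r : A →+* A') (B : Subring A) (f : A) : Subring A' :=
  Subring.closure (r '' (B : Set A) ∪ {Ring.inverse (r f)})

variable {r : A →+* A'} {B : Subring A} {f : A}

theorem map_mem_loc {b : A} (hb : b ∈ B) : r b ∈ Loc r B f :=
  Subring.subset_closure (Or.inl ⟨b, hb, rfl⟩)

theorem inv_mem_loc : Ring.inverse (r f) ∈ Loc r B f :=
  Subring.subset_closure (Or.inr rfl)

theorem loc_le {T : Subring A'} (h1 : ∀ b ∈ B, r b ∈ T) (h2 : Ring.inverse (r f) ∈ T) :
    Loc r B f ≤ T :=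
  Subring.closure_le.2 (Set.union_subset (by rintro _ ⟨b, hb, rfl⟩; exact h1 b hb)
    (Set.singleton_subset_iff.2 h2))

theorem loc_mono {C : Subring A} (h : B ≤ C) : Loc r B f ≤ Loc r C f :=
  loc_le (fun _ hb => map_mem_loc (h hb)) inv_mem_loc

theorem inverse_eq (hu : IsUnit (r f)) : r f * Ring.inverse (r f) = 1 := Ring.mul_inverse_cancel _ hu

theorem mem_loc_of_mul_pow_eq (hu : IsUnit (r f)) {z : A'} {n : ℕ} {b : A} (hb : b ∈ B)
    (e : z * r f ^ n = r b) : z ∈ Loc r B f := by
  have : z = r b * Ring.inverse (r f) ^ n := by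
    rw [← e, mul_assoc, ← mul_pow, inverse_eq hu, one_pow, mul_one]
  rw [this]
  exact mul_mem (map_mem_loc hb) (pow_mem inv_mem_loc n)

theorem exists_of_mem_loc (hu : IsUnit (r f)) (hf : f ∈ B) {z : A'} (hz : z ∈ Loc r B f) :
    ∃ n : ℕ, ∃ b ∈ B, z * r f ^ n = r b := by
  induction hz using Subring.closure_induction with
  | mem x hx =>
    rcases hx with ⟨b, hb, rfl⟩ | rfl
    · exact ⟨0, b, hb, by simp⟩
    · exact ⟨1, 1, one_mem B, by rw [pow_one, map_one, mul_comm, inverse_eq hu]⟩
  | zero => exact ⟨0, 0, zero_mem B, by simp⟩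
  | one => exact ⟨0, 1, one_mem B, by simp⟩
  | add x y _ _ hx hy =>
    obtain ⟨n, b, hb, e⟩ := hx
    obtain ⟨m, c, hc, e'⟩ := hy
    refine ⟨n + m, b * f ^ m + c * f ^ n, add_mem (mul_mem hb (pow_mem hf m)) (mul_mem hc (pow_mem hf n)), ?_⟩
    rw [map_add, map_mul, map_mul, ← e, ← e', map_pow, map_pow]
    ring
  | neg x _ hx =>
    obtain ⟨n, b, hb, e⟩ := hx
    exact ⟨n, -b, neg_mem hb, by rw [map_neg, ← e]; ring⟩
  | mul x y _ _ hx hy =>
    obtain ⟨n, b, hb, e⟩ := hx
    obtain ⟨m, c, hc, e'⟩ := hy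
    refine ⟨n + m, b * c, mul_mem hb hc, ?_⟩
    rw [map_mul, ← e, ← e']
    ring

theorem exists_pow_mul (h : IsUnit (r f)) {z : A'}
    (hloc : letI := r.toAlgebra; IsLocalization.Away f A') : ∃ (n : ℕ) (a : A), z * r f ^ n = r a := by
  let _ := r.toAlgebra
  haveI : IsLocalization.Away f A' := hloc
  exact IsLocalization.Away.surj f z

theorem exists_pow_mul_eq (hloc : letI := r.toAlgebra; IsLocalization.Away f A') {x y : A}
    (e : r x = r y) : ∃ n : ℕ, f ^ n * x = f ^ n * y := by
  let _ := r.toAlgebra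
  haveI : IsLocalization.Away f A' := hloc
  exact IsLocalization.Away.exists_of_eq f e

/-- `B → Loc r B f` is the localization away from `f`. -/
theorem isLocalization_loc (hloc : letI := r.toAlgebra; IsLocalization.Away f A') (hf : f ∈ B) :
    letI := ((r.comp B.subtype).codRestrict (Loc r B f) fun b => map_mem_loc b.2).toAlgebra
    IsLocalization.Away (⟨f, hf⟩ : B) (Loc r B f) := by
  let _ := r.toAlgebra
  haveI : IsLocalization.Away f A' := hloc
  have hu : IsUnit (r f) := IsLocalization.Away.algebraMap_isUnit (S := A') f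
  let g : B →+* Loc r B f := (r.comp B.subtype).codRestrict (Loc r B f) fun b => map_mem_loc b.2
  let _ := g.toAlgebra
  refine IsLocalization.Away.mk _ ?_ (fun z => ?_) (fun x y e => ?_)
  · exact IsUnit.of_mul_eq_one (⟨Ring.inverse (r f), inv_mem_loc⟩ : Loc r B f) (Subtype.ext (inverse_eq hu))
  · obtain ⟨n, b, hb, e⟩ := exists_of_mem_loc hu hf z.2
    exact ⟨n, ⟨b, hb⟩, Subtype.ext e⟩
  · obtain ⟨n, hn⟩ := exists_pow_mul_eq hloc (congrArg Subtype.val e : r x.1 = r y.1)
    exact ⟨n, Subtype.ext hn⟩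

/-- An element which lies in a subring after multiplication by powers of elements generating the
unit ideal lies in the subring. -/
theorem mem_of_forall_pow_mul_mem {ι : Type*} [Fintype ι] {Q : Subring A} {u : ι → A} {c : ι → A}
    (hu : ∀ i, u i ∈ Q) (hc : ∀ i, c i ∈ Q) (h1 : ∑ i, c i * u i = 1) {z : A}
    (hz : ∀ i, ∃ N : ℕ, u i ^ N * z ∈ Q) : z ∈ Q := by
  choose N hN using hz
  let J : Ideal Q :=
    { carrier := {q | (q : A) * z ∈ Q}
      add_mem' := fun {a b} ha hb => by
        show ((a + b : Q) : A) * z ∈ Q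
        rw [Subring.coe_add, add_mul]
        exact add_mem ha hb
      zero_mem' := by
        show ((0 : Q) : A) * z ∈ Q
        rw [ZeroMemClass.coe_zero, zero_mul]
        exact zero_mem _
      smul_mem' := fun a b hb => by
        show ((a * b : Q) : A) * z ∈ Q
        rw [Subring.coe_mul, mul_assoc]
        exact mul_mem a.2 hb }
  have hr : ∀ i, (⟨u i, hu i⟩ : Q) ∈ J.radical := fun i => ⟨N i, by
    show (((⟨u i, hu i⟩ : Q) ^ N i : Q) : A) * z ∈ Q
    rw [SubmonoidClass.coe_pow]
    exact hN i⟩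
  have h1' : (1 : Q) ∈ J.radical := by
    have e : (1 : Q) = ∑ i, (⟨c i, hc i⟩ : Q) * ⟨u i, hu i⟩ := Subtype.ext (by
      rw [AddSubmonoidClass.coe_finsetSum]
      exact h1.symm)
    rw [e]
    exact Submodule.sum_mem _ fun i _ => Ideal.mul_mem_left _ _ (hr i)
  obtain ⟨n, hn⟩ := h1'
  rw [one_pow] at hn
  have hn' : ((1 : Q) : A) * z ∈ Q := hn
  simpa using hn'

/-- The preimage of a unit-ideal family of elements of a subring covers its spectrum. -/
theorem iSup_basicOpen_eq_top {ι : Type*} [Fintype ι] {u c : ι → A} (h1 : ∑ i, c i * u i = 1) :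
    ⨆ i, PrimeSpectrum.basicOpen (u i) = ⊤ := by
  rw [PrimeSpectrum.iSup_basicOpen_eq_top_iff, Ideal.eq_top_iff_one, ← h1]
  exact Submodule.sum_mem _ fun i _ => Ideal.mul_mem_left _ _ (Ideal.subset_span ⟨i, rfl⟩)

end GrothLib.AbsApprox
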