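import Groth.Agent.Lib.AbsApprox.ClosedIdeals
import Groth.Agent.Lib.AbsApprox.ClosedOver
import Groth.Agent.Lib.AbsApprox.ProperSystem
import Groth.Agent.Lib.ABU25.PhSheaf
import Groth.Agent.Lib.DiagGrp.KernelFP
import Groth.Agent.Lib.Nagata6.Modification
import Groth.Prelude.Def_BlowUp2

/-!
# Small closed subschemes agreeing with `X` over an open
-/

set_option autoImplicit false
set_option backward.isDefEq.respectTransparency false
set_option linter.style.haveILetI false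

universe u

open CategoryTheory CategoryTheory.Limits AlgebraicGeometry TopologicalSpace Opposite

namespace GrothLib.AbsApprox

/-- A locally principal ideal is of finite type. -/
theorem fg_of_isEffCartierIdeal {Y : Scheme.{u}} {I : Y.IdealSheafData} (hI : BlowUp.IsEffCartierIdeal I) :
    BlowUp.IsFiniteTypeIdeal I := by
  choose U hxU f _ hf using hI
  exact fun W => FgSupport6.fg_of_cover I U (fun y => ⟨y, hxU y⟩)
    (fun y => by rw [hf y]; exact Submodule.fg_span_singleton _) W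

/-- The complement of the support of an ideal of finite type is a finite union of affines. -/
theorem exists_affine_cover_compl_support {Q : Scheme.{u}} [CompactSpace Q] (M : Q.IdealSheafData)
    (hM : ∀ U : Q.affineOpens, (M.ideal U).FG) :
    ∃ (κ : Type u) (_ : Finite κ) (U : κ → Q.affineOpens), ⨆ k, (U k).1 = M.support.compl := by
  classical
  let 𝒰 := Q.affineCover.finiteSubcover
  let W : 𝒰.I₀ → Q.affineOpens := fun i => ⟨(𝒰.f i).opensRange, isAffineOpen_opensRange _⟩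
  choose G hG using fun i => hM (W i)
  refine ⟨Σ i, {g // g ∈ G i}, inferInstance, fun k => ⟨Q.basicOpen k.2.1, (W k.1).2.basicOpen k.2.1⟩, ?_⟩
  ext x
  simp only [Opens.coe_iSup, Set.mem_iUnion, SetLike.mem_coe, Closeds.coe_compl, Set.mem_compl_iff]
  constructor
  · rintro ⟨⟨i, g, hg⟩, hxg⟩ hxs
    rw [Scheme.IdealSheafData.mem_support_iff_of_mem (U := W i) (Q.basicOpen_le g hxg), ← hG i,
      Scheme.zeroLocus_span, Scheme.mem_zeroLocus_iff] at hxs
    exact hxs g hg hxg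
  · intro hx
    have hi : x ∈ (W _).1 := 𝒰.covers x
    change x ∉ M.support at hx
    rw [Scheme.IdealSheafData.mem_support_iff_of_mem (U := W _) hi, ← hG _,
      Scheme.zeroLocus_span, Scheme.mem_zeroLocus_iff] at hx
    push Not at hx
    obtain ⟨g, hg, hxg⟩ := hx
    exact ⟨⟨_, g, hg⟩, hxg⟩

variable {X Z Y : Scheme.{u}} (ι : X ⟶ Z) [IsClosedImmersion ι] [CompactSpace Z] [QuasiSeparatedSpace Z]
  (f₀ : Z ⟶ Y) [LocallyOfFinitePresentation f₀]

/-- If `X → Y` is an isomorphism over an open, so are the small stages. -/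
theorem exists_fgSub_isIso (V : Y.Opens) [IsIso ((ι ≫ f₀) ∣_ V)] {κ : Type*} [Finite κ]
    (U : κ → Z.affineOpens) (hU : ⨆ k, (U k).1 = f₀ ⁻¹ᵁ V) (K₀ : FgSub ι) :
    ∃ K : FgSub ι, K₀ ≤ K ∧ ∀ K' : FgSub ι, K ≤ K' → IsIso ((K'.1.subschemeι ≫ f₀) ∣_ V) := by
  have hle : ∀ k, (U k).1 ≤ f₀ ⁻¹ᵁ V := fun k => hU ▸ le_iSup (fun k => (U k).1) k
  haveI : LocallyOfFinitePresentation ((ι ∣_ (f₀ ⁻¹ᵁ V)) ≫ (f₀ ∣_ V)) := by
    rw [← morphismRestrict_comp]; infer_instance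
  haveI : LocallyOfFinitePresentation (ι ∣_ (f₀ ⁻¹ᵁ V)) :=
    GrothLib.DiagGrp.lfp_of_comp_of_lft _ (f₀ ∣_ V) inferInstance inferInstance
  haveI : IsClosedImmersion (ι ∣_ (f₀ ⁻¹ᵁ V)) := IsZariskiLocalAtTarget.restrict (inferInstance : IsClosedImmersion ι) _
  have hfg : ∀ k, (ι.ker.ideal (U k)).FG := fun k => by
    let O := f₀ ⁻¹ᵁ V
    let Vk : O.toScheme.affineOpens := ⟨O.ι ⁻¹ᵁ (U k).1, (U k).2.preimage_of_isOpenImmersion O.ι
      (by rw [Scheme.Opens.opensRange_ι]; exact hle k)⟩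
    have h := GrothLib.ABU25.isFiniteTypeIdeal_ker (ι ∣_ O) Vk
    rw [Scheme.ker_morphismRestrict_ideal] at h
    have e : (⟨O.ι ''ᵁ Vk.1, Vk.2.image_of_isOpenImmersion _⟩ : Z.affineOpens) = U k := Subtype.ext (by
      show O.ι ''ᵁ (O.ι ⁻¹ᵁ (U k).1) = (U k).1
      rw [Scheme.Hom.image_preimage_eq_opensRange_inf, Scheme.Opens.opensRange_ι, inf_eq_right]
      exact hle k)
    have h' : (ι.ker.ideal ⟨O.ι ''ᵁ Vk.1, Vk.2.image_of_isOpenImmersion _⟩).FG := h
    rw [e] at h'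
    exact h'
  obtain ⟨K, h0, hK⟩ := exists_fgSub_ker_le ι U hfg K₀
  refine ⟨K, h0, fun K' hK' => ?_⟩
  let s := K'.1.subschemeι
  let π := ((closedCone ι).π.app (op K')).left
  haveI : IsClosedImmersion π := isClosedImmersion_proj ι (op K')
  have hπ : π ≫ s = ι := proj_ι ι (op K')
  haveI : IsIso (π ∣_ (s ⁻¹ᵁ (f₀ ⁻¹ᵁ V))) := by
    haveI : IsClosedImmersion (π ∣_ (s ⁻¹ᵁ (f₀ ⁻¹ᵁ V))) := IsZariskiLocalAtTarget.restrict (inferInstance : IsClosedImmersion π) _
    let T := (s ⁻¹ᵁ (f₀ ⁻¹ᵁ V)).ι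
    refine (IsZariskiLocalAtTarget.iff_of_iSup_eq_top (P := MorphismProperty.isomorphisms Scheme.{u})
      (fun k => T ⁻¹ᵁ (s ⁻¹ᵁ (U k).1)) ?_).2 fun k => ?_
    · rw [← Scheme.Hom.preimage_iSup, ← Scheme.Hom.preimage_iSup, hU]
      exact Scheme.Opens.ι_preimage_self _
    · show IsIso _
      refine (MorphismProperty.arrow_mk_iso_iff (MorphismProperty.isomorphisms Scheme.{u})
        (morphismRestrictRestrict π _ _)).2 ?_
      have e : T ''ᵁ (T ⁻¹ᵁ (s ⁻¹ᵁ (U k).1)) = s ⁻¹ᵁ (U k).1 := by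
        rw [Scheme.Hom.image_preimage_eq_opensRange_inf, Scheme.Opens.opensRange_ι, inf_eq_right]
        exact fun x hx => hle k hx
      rw [e]
      show IsIso (π ∣_ (s ⁻¹ᵁ (U k).1))
      haveI : IsClosedImmersion (π ∣_ (s ⁻¹ᵁ (U k).1)) := IsZariskiLocalAtTarget.restrict (inferInstance : IsClosedImmersion π) _
      haveI : IsAffine (s ⁻¹ᵁ (U k).1).toScheme := (U k).2.preimage s
      refine IsClosedImmersion.isIso_of_injective_of_isAffine ?_
      rw [injective_iff_map_eq_zero]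
      intro a ha
      obtain ⟨b, hb⟩ := K'.1.subschemeι_app_surjective (U k) ((s ⁻¹ᵁ (U k).1).topIso.hom a)
      have hb0 : ι.app (U k).1 b = 0 := by
        have e1 : π.app (s ⁻¹ᵁ (U k).1) (s.app (U k).1 b) = 0 := by
          show π.app (s ⁻¹ᵁ (U k).1) (K'.1.subschemeι.app (U k).1 b) = 0
          have e3 : (s ⁻¹ᵁ (U k).1).topIso.hom ≫ π.app (s ⁻¹ᵁ (U k).1) =
              (π ∣_ (s ⁻¹ᵁ (U k).1)).appTop ≫ (π ⁻¹ᵁ (s ⁻¹ᵁ (U k).1)).topIso.hom := by
            simp [morphismRestrict_appLE, Scheme.Hom.app_eq_appLE, Scheme.Hom.appLE_map, Scheme.Hom.map_appLE]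
          rw [hb]
          refine (congr($e3 a)).trans ?_
          rw [CommRingCat.comp_apply, ha, map_zero]
        have e2 : ι.app (U k).1 = (π ≫ s).app (U k).1 ≫ X.presheaf.map (eqToHom (by rw [hπ])).op :=
          Scheme.Hom.congr_app hπ.symm (U k).1
        rw [e2, Scheme.Hom.comp_app, CommRingCat.comp_apply, CommRingCat.comp_apply]
        exact (congrArg _ e1).trans (map_zero _)
      have hbK : b ∈ K'.1.ideal (U k) := by
        refine hK' (U k) (hK k ?_)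
        rw [Scheme.Hom.ker_apply]
        exact hb0
      rw [← Scheme.IdealSheafData.ker_subschemeι_app, RingHom.mem_ker] at hbK
      change K'.1.subschemeι.app (U k).1 b = 0 at hbK
      rw [hbK] at hb
      exact (map_eq_zero_iff _ (ConcreteCategory.bijective_of_isIso (s ⁻¹ᵁ (U k).1).topIso.hom).1).1 hb.symm
  haveI : IsIso ((π ∣_ ((s ≫ f₀) ⁻¹ᵁ V)) ≫ (s ≫ f₀) ∣_ V) := by
    rw [← morphismRestrict_comp]
    have e : π ≫ s ≫ f₀ = ι ≫ f₀ := by rw [← Category.assoc, hπ]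
    exact (congrArg (fun m => IsIso (m ∣_ V)) e).mpr inferInstance
  haveI : IsIso (π ∣_ ((s ≫ f₀) ⁻¹ᵁ V)) := ‹IsIso (π ∣_ (s ⁻¹ᵁ (f₀ ⁻¹ᵁ V)))›
  exact IsIso.of_isIso_comp_left (π ∣_ ((s ≫ f₀) ⁻¹ᵁ V)) _

end GrothLib.AbsApprox
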