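import Groth.Agent.Lib.AbsApprox.Glue
import Mathlib.AlgebraicGeometry.Limits
import Mathlib.AlgebraicGeometry.Morphisms.FiniteType

/-!
# The models of an admissible family and their transition morphisms
-/

set_option autoImplicit false
set_option backward.isDefEq.respectTransparency false

universe u

open CategoryTheory CategoryTheory.Limits AlgebraicGeometry TopologicalSpace Opposite

namespace GrothLib.AbsApprox.Cov

variable {S : Scheme.{u}} {𝒲 : Cov S} {B : 𝒲.Fam} (hB : Adm 𝒲 B)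

/-- The model attached to an admissible family. -/
noncomputable def model : Scheme.{u} := (glueData hB).glued

/-- The chart of the model. -/
noncomputable def ι (k : Fin 𝒲.n) : Ch B k ⟶ model hB := (glueData hB).ι ⟨k⟩

instance (k : Fin 𝒲.n) : IsOpenImmersion (ι hB k) :=
  inferInstanceAs (IsOpenImmersion ((glueData hB).ι ⟨k⟩))

theorem exists_ι_eq (x : model hB) : ∃ k y, ι hB k y = x := by
  obtain ⟨k, y, h⟩ := (glueData hB).ι_jointly_surjective x
  exact ⟨k.down, y, h⟩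

theorem tV_ι (k l : Fin 𝒲.n) : tV hB k l ≫ ι hB l = (V hB k l).ι ≫ ι hB k := by
  rw [← t_ι_assoc]
  exact (glueData hB).glue_condition ⟨k⟩ ⟨l⟩

theorem mem_V_of_ι_eq {k l : Fin 𝒲.n} {p : Ch B k} {q : Ch B l} (h : ι hB k p = ι hB l q) :
    p ∈ V hB k l := by
  obtain ⟨z, hz, -⟩ := ((glueData hB).ι_eq_iff ⟨k⟩ ⟨l⟩ p q).1 h
  have hz' : (V hB k l).ι z = p := hz
  exact hz' ▸ z.2

theorem ι_preimage_range (k l : Fin 𝒲.n) : ι hB k ⁻¹ᵁ (ι hB l).opensRange = V hB k l := by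
  ext p
  constructor
  · rintro ⟨q, hq⟩
    exact mem_V_of_ι_eq hB hq.symm
  · intro hp
    refine ⟨tV hB k l ⟨p, hp⟩, ?_⟩
    rw [← Scheme.Hom.comp_apply, tV_ι]
    rfl

theorem hom_ext_model {Y : Scheme.{u}} {f g : model hB ⟶ Y} (h : ∀ k, ι hB k ≫ f = ι hB k ≫ g) : f = g :=
  Scheme.Cover.hom_ext (glueData hB).openCover f g fun k => h k.down

/-- Morphisms out of the model. -/
noncomputable def descModel {Y : Scheme.{u}} (m : ∀ k, Ch B k ⟶ Y)
    (hm : ∀ k l, (V hB k l).ι ≫ m k = tV hB k l ≫ m l) : model hB ⟶ Y :=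
  Multicoequalizer.desc _ _ (fun k : ULift.{u} (Fin 𝒲.n) => m k.down) fun p => by
    change (V hB p.1.down p.2.down).ι ≫ m p.1.down =
      (t hB p.1.down p.2.down ≫ (V hB p.2.down p.1.down).ι) ≫ m p.2.down
    rw [t_ι]
    exact hm _ _

theorem ι_desc {Y : Scheme.{u}} (m : ∀ k, Ch B k ⟶ Y)
    (hm : ∀ k l, (V hB k l).ι ≫ m k = tV hB k l ≫ m l) (k : Fin 𝒲.n) :
    ι hB k ≫ descModel hB m hm = m k := Multicoequalizer.π_desc _ _ _ _ _

instance compactSpace_model : CompactSpace (model hB) := by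
  haveI : ∀ i, CompactSpace ((glueData hB).openCover.X i) := fun i =>
    inferInstanceAs (CompactSpace (Ch B i.down))
  haveI : Finite (glueData hB).openCover.I₀ := inferInstanceAs (Finite (ULift.{u} (Fin 𝒲.n)))
  exact (glueData hB).openCover.compactSpace

theorem finiteType_of_fg {A : Type u} [CommRing A] {C : Subring A} (h : Fg C) :
    Algebra.FiniteType ℤ C := by
  obtain ⟨s, hs, rfl⟩ := h
  refine ⟨?_⟩
  refine ⟨(hs.preimage Subtype.val_injective.injOn).toFinset, ?_⟩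
  rw [Set.Finite.coe_toFinset]
  refine top_unique fun x _ => ?_
  have key : ∀ a (ha : a ∈ Subring.closure s), (⟨a, ha⟩ : Subring.closure s) ∈
      Algebra.adjoin ℤ ((Subtype.val : Subring.closure s → A) ⁻¹' s) := fun a ha => by
    induction ha using Subring.closure_induction with
    | mem a ha => exact Algebra.subset_adjoin ha
    | zero => exact zero_mem _
    | one => exact one_mem _
    | add a b ha hb iha ihb => exact add_mem iha ihb
    | neg a ha iha => exact neg_mem iha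
    | mul a b ha hb iha ihb => exact mul_mem iha ihb
  exact key x.1 x.2

theorem locallyOfFiniteType_model :
    LocallyOfFiniteType (IsTerminal.from specULiftZIsTerminal (model hB)) := by
  rw [IsZariskiLocalAtSource.iff_of_openCover (P := @LocallyOfFiniteType) (glueData hB).openCover]
  intro k
  let φ : CommRingCat.of (ULift.{u} ℤ) ⟶ CommRingCat.of (B k.down) :=
    CommRingCat.ofHom ((Int.castRingHom (B k.down)).comp ULift.ringEquiv.toRingHom)
  have e : (glueData hB).openCover.f k ≫ IsTerminal.from specULiftZIsTerminal (model hB) = Spec.map φ :=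
    specULiftZIsTerminal.hom_ext _ _
  rw [e, HasRingHomProperty.Spec_iff (P := @LocallyOfFiniteType)]
  have h1 : (Int.castRingHom (B k.down)).FiniteType := by
    have := finiteType_of_fg (hB.fg k.down)
    rw [← algebraMap_int_eq]
    exact RingHom.finiteType_algebraMap.mpr this
  refine RingHom.FiniteType.of_comp_finiteType (f := (ULift.ringEquiv.symm : ℤ ≃+* ULift.{u} ℤ).toRingHom) ?_
  rw [RingHom.ext_int (φ.hom.comp _) (Int.castRingHom (B k.down))]
  exact h1

/-! ### The morphism from `S` -/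

theorem pr_mem_V {k l : Fin 𝒲.n} {x : (𝒲.W k).1.toScheme} (hx : x.1 ∈ (𝒲.W l).1) :
    pr B k x ∈ V hB k l := by
  have h2 : x.1 ∈ (𝒲.P k l).sup id := (𝒲.cover k l).ge ⟨x.2, hx⟩
  have e : (𝒲.P k l).sup id = ⨆ t : {t // t ∈ 𝒲.P k l}, t.1 := by
    rw [Finset.sup_eq_iSup, iSup_subtype']
    rfl
  rw [e, Opens.mem_iSup] at h2
  obtain ⟨D, hD⟩ := h2
  refine Opens.mem_iSup.2 ⟨D, ?_⟩
  have : x ∈ pr B k ⁻¹ᵁ O hB k l D := by
    rw [qmap_preimage_basicOpen]
    show x.1 ∈ S.basicOpen _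
    rw [basicOpen_phi D.2]
    exact hD
  exact this

/-- The cover of `S`. -/
noncomputable def coverS : S.OpenCover :=
  S.openCoverOfIsOpenCover (fun k : ULift.{u} (Fin 𝒲.n) => (𝒲.W k.down).1) (by
    refine top_unique fun x _ => ?_
    have hx : x ∈ ⨆ k, (𝒲.W k).1 := by rw [𝒲.iSup_W]; trivial
    obtain ⟨k, hk⟩ := Opens.mem_iSup.1 hx
    exact Opens.mem_iSup.2 ⟨⟨k⟩, hk⟩)

theorem pr_ι_eq {k l : Fin 𝒲.n} {Q : Scheme.{u}} (w : Q ⟶ (𝒲.W k).1.toScheme)
    (w' : Q ⟶ (𝒲.W l).1.toScheme) (h : w ≫ (𝒲.W k).1.ι = w' ≫ (𝒲.W l).1.ι) :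
    w ≫ pr B k ≫ ι hB k = w' ≫ pr B l ≫ ι hB l := by
  have hr : Set.range (w ≫ pr B k) ⊆ Set.range (V hB k l).ι := by
    rw [Scheme.Opens.range_ι]
    rintro _ ⟨q, rfl⟩
    refine pr_mem_V hB (x := w q) ?_
    show (w ≫ (𝒲.W k).1.ι) q ∈ _
    rw [h]
    exact (w' q).2
  let y := IsOpenImmersion.lift (V hB k l).ι (w ≫ pr B k) hr
  have hy : y ≫ (V hB k l).ι = w ≫ pr B k := IsOpenImmersion.lift_fac _ _ _
  have he : y ≫ tV hB k l = w' ≫ pr B l := (ad_tV hB w y hy).unique ⟨w', h.symm, rfl⟩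
  rw [← Category.assoc, ← hy, Category.assoc, ← tV_ι, ← Category.assoc, he, Category.assoc]

/-- The morphism to the model. -/
noncomputable def toModel : S ⟶ model hB :=
  (coverS (𝒲 := 𝒲)).glueMorphisms (fun k => pr B k.down ≫ ι hB k.down) fun k l =>
    pr_ι_eq hB _ _ pullback.condition

theorem ι_toModel (k : Fin 𝒲.n) : (𝒲.W k).1.ι ≫ toModel hB = pr B k ≫ ι hB k := by
  unfold toModel
  exact Scheme.Cover.ι_glueMorphisms coverS _ _ (⟨k⟩ : ULift.{u} (Fin 𝒲.n))

theorem toModel_preimage (l : Fin 𝒲.n) : toModel hB ⁻¹ᵁ (ι hB l).opensRange = (𝒲.W l).1 := by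
  ext x
  obtain ⟨⟨k⟩, y, rfl⟩ := (coverS (𝒲 := 𝒲)).exists_eq x
  have hk : toModel hB ((coverS (𝒲 := 𝒲)).f ⟨k⟩ y) = ι hB k (pr B k y) := by
    rw [← Scheme.Hom.comp_apply, ← Scheme.Hom.comp_apply]
    exact congrArg (fun g : (𝒲.W k).1.toScheme ⟶ model hB => g y) (ι_toModel hB k)
  constructor
  · rintro ⟨q, hq⟩
    have hp : pr B k y ∈ V hB k l := mem_V_of_ι_eq hB (hk.symm.trans hq.symm)
    obtain ⟨D, hD⟩ := Opens.mem_iSup.1 hp
    have h2 : y ∈ pr B k ⁻¹ᵁ O hB k l D := hD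
    rw [qmap_preimage_basicOpen] at h2
    have h3 : y.1 ∈ S.basicOpen (𝒲.phi k D.1) := h2
    rw [basicOpen_phi D.2] at h3
    exact le_right D.2 h3
  · intro hx
    have : pr B k y ∈ ι hB k ⁻¹ᵁ (ι hB l).opensRange := by
      rw [ι_preimage_range]
      exact pr_mem_V hB hx
    show toModel hB ((coverS (𝒲 := 𝒲)).f ⟨k⟩ y) ∈ (ι hB l).opensRange
    rw [hk]
    exact this

theorem isAffineHom_toModel : IsAffineHom (toModel hB) :=
  isAffineHom_of_forall_exists_isAffineOpen _ fun x => by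
    obtain ⟨k, y, rfl⟩ := exists_ι_eq hB x
    refine ⟨(ι hB k).opensRange, ⟨y, rfl⟩, isAffineOpen_opensRange _, ?_⟩
    rw [toModel_preimage]
    exact (𝒲.W k).2

end GrothLib.AbsApprox.Cov
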