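import Groth.Agent.Lib.AbsApprox.ClosedStage
import Groth.Agent.Lib.LimDesc.Basic
import Groth.Agent.Lib.Chow.Projective
import Groth.Agent.Lib.Chow.Main

/-!
# A scheme proper over a limit is proper over a stage
-/

set_option autoImplicit false
set_option backward.isDefEq.respectTransparency false
set_option linter.style.haveILetI false

universe u

open CategoryTheory CategoryTheory.Limits AlgebraicGeometry TopologicalSpace Opposite

namespace GrothLib.AbsApprox

variable {I : Type u} [SmallCategory I] [IsCofiltered I] (D : I ⥤ Scheme.{u}) (c : Cone D) (hc : IsLimit c)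
  [∀ (i j : I) (f : i ⟶ j), IsAffineHom (D.map f)] [∀ i, CompactSpace (D.obj i)]
  [∀ i, QuasiSeparatedSpace (D.obj i)]

include hc

/-- If `Y` is proper over the limit and of finite type over a stage, it is proper over all small
stages. -/
theorem exists_isProper_stage {Y : Scheme.{u}} (h : Y ⟶ c.pt) [IsProper h] (i₀ : I)
    [LocallyOfFiniteType (h ≫ c.π.app i₀)] :
    ∃ k : I, ∀ (i : I) (_ : i ⟶ k), IsProper (h ≫ c.π.app i) := by
  haveI : ∀ i, IsAffineHom (c.π.app i) := fun i => isAffineHom_π_app D c hc i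
  obtain ⟨M, Y', π, i, hi, hib, hπ, hπs⟩ := GrothLib.Chow.chow (h ≫ c.π.app i₀)
  haveI := hi; haveI := hπ; haveI := hπs
  let tB := CohB1.ProjSpaceOver.toBase M (D.obj i₀)
  haveI : IsProper tB := GrothLib.Chow.isProper_toBase M (D.obj i₀)
  let qP := pullback.fst tB (c.π.app i₀)
  have hP : IsPullback qP (pullback.snd tB (c.π.app i₀)) tB (c.π.app i₀) := IsPullback.of_hasPullback _ _
  let G := LimDesc.diag D i₀ tB
  let cG := LimDesc.cone D i₀ tB hP
  let e : Y' ⟶ cG.pt := pullback.lift i (π ≫ h) (by rw [hib, Category.assoc])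
  have he₁ : e ≫ qP = i := pullback.lift_fst _ _ _
  have he₂ : e ≫ pullback.snd tB (c.π.app i₀) = π ≫ h := pullback.lift_snd _ _ _
  haveI : IsImmersion (e ≫ qP) := he₁ ▸ hi
  haveI : IsImmersion e := IsImmersion.of_comp e qP
  haveI : IsProper (pullback.snd tB (c.π.app i₀)) := MorphismProperty.pullback_snd _ _ inferInstance
  haveI : IsProper (e ≫ pullback.snd tB (c.π.app i₀)) := he₂ ▸ inferInstance
  haveI : IsProper e := IsProper.of_comp e (pullback.snd tB (c.π.app i₀))
  haveI : IsClosedImmersion e := GrothLib.Chow.isClosedImmersion_of_isImmersion_of_isProper e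
  haveI : ∀ j, CompactSpace ↥(G.obj j) := fun j => by
    haveI : QuasiCompact (pullback.snd tB (D.map j.hom)) := MorphismProperty.pullback_snd _ _ inferInstance
    exact QuasiCompact.compactSpace_of_compactSpace (pullback.snd tB (D.map j.hom))
  haveI : ∀ (j k : Over i₀) (φ : j ⟶ k), IsAffineHom (G.map φ) := fun j k φ =>
    MorphismProperty.of_isPullback (P := @IsAffineHom) (LimDesc.isPullback_map D i₀ tB φ).flip inferInstance
  haveI : LocallyOfFiniteType (e ≫ cG.π.app (Over.mk (𝟙 i₀))) := by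
    haveI : LocallyOfFiniteType ((e ≫ cG.π.app (Over.mk (𝟙 i₀))) ≫ pullback.fst tB (D.map (𝟙 i₀))) := by
      have h1 : (e ≫ cG.π.app (Over.mk (𝟙 i₀))) ≫ pullback.fst tB (D.map (𝟙 i₀)) = i := by
        rw [Category.assoc]
        exact (congrArg (e ≫ ·) (LimDesc.π_fst D i₀ tB hP (Over.mk (𝟙 i₀)))).trans he₁
      rw [h1]
      infer_instance
    exact locallyOfFiniteType_of_comp _ (pullback.fst tB (D.map (𝟙 i₀)))
  obtain ⟨k, hk⟩ := exists_isClosedImmersion_stage G cG (LimDesc.isLimitCone D i₀ tB hP hc) e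
    (Over.mk (𝟙 i₀))
  refine ⟨k.left, fun j g => ?_⟩
  let j' : Over i₀ := Over.mk (g ≫ k.hom)
  haveI : IsClosedImmersion (e ≫ cG.π.app j') := hk j' (Over.homMk g rfl)
  haveI : IsProper (pullback.snd tB (D.map j'.hom)) := MorphismProperty.pullback_snd _ _ inferInstance
  haveI : IsProper (π ≫ h ≫ c.π.app j) := by
    have h2 : (e ≫ cG.π.app j') ≫ pullback.snd tB (D.map j'.hom) = π ≫ h ≫ c.π.app j := by
      rw [Category.assoc, LimDesc.π_snd]
      exact (Category.assoc _ _ _).symm.trans ((congrArg (· ≫ c.π.app j) he₂).trans (Category.assoc _ _ _))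
    rw [← h2]
    infer_instance
  haveI : LocallyOfFiniteType ((h ≫ c.π.app j) ≫ D.map (g ≫ k.hom)) := by
    rw [Category.assoc, c.w]; infer_instance
  haveI : LocallyOfFiniteType (h ≫ c.π.app j) := locallyOfFiniteType_of_comp _ (D.map (g ≫ k.hom))
  haveI : UniversallyClosed (h ≫ c.π.app j) := UniversallyClosed.of_comp_surjective π (h ≫ c.π.app j)
  exact {}

end GrothLib.AbsApprox
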