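import Groth.Agent.Lib.AbsApprox.Arrow
import Mathlib.AlgebraicGeometry.Morphisms.Separated
import Mathlib.AlgebraicGeometry.Morphisms.FinitePresentation
import Mathlib.AlgebraicGeometry.Noetherian
import Mathlib.CategoryTheory.Comma.Over.Basic

/-!
# Relative approximation: every qcqs scheme over a quasi-separated base is a limit of schemes of
finite presentation with affine transition morphisms
-/

set_option autoImplicit false
set_option backward.isDefEq.respectTransparency false

universe u

open CategoryTheory CategoryTheory.Limits AlgebraicGeometry TopologicalSpace Opposite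

namespace GrothLib.AbsApprox.Cov

variable {X S : Scheme.{u}} {𝒲 : Cov X}

theorem isNoetherianRing_ulift_int : IsNoetherianRing (ULift.{u} ℤ) :=
  isNoetherianRing_of_ringEquiv ℤ ULift.ringEquiv.symm

theorem isLocallyNoetherian_model {B : 𝒲.Fam} (hB : Adm 𝒲 B) : IsLocallyNoetherian (model hB) := by
  haveI : IsNoetherianRing (CommRingCat.of (ULift.{u} ℤ)) := isNoetherianRing_ulift_int
  haveI := locallyOfFiniteType_model hB
  exact LocallyOfFiniteType.isLocallyNoetherian (IsTerminal.from specULiftZIsTerminal (model hB))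

variable {f : X ⟶ S} {𝒱 : Cov S} {σ : Fin 𝒲.n → Fin 𝒱.n}
  (hσ : ∀ k, (𝒲.W k).1 ≤ f ⁻¹ᵁ (𝒱.W (σ k)).1)

theorem arr_fp (p : AIdx hσ) :
    LocallyOfFinitePresentation (arr hσ p.2 p.1.2.2 p.1.1.2) ∧ QuasiCompact (arr hσ p.2 p.1.2.2 p.1.1.2) ∧
      QuasiSeparated (arr hσ p.2 p.1.2.2 p.1.1.2) := by
  haveI := isLocallyNoetherian_model p.1.2.2
  haveI := isLocallyNoetherian_model p.1.1.2
  haveI : LocallyOfFiniteType (arr hσ p.2 p.1.2.2 p.1.1.2 ≫
      IsTerminal.from specULiftZIsTerminal (model p.1.2.2)) := by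
    rw [specULiftZIsTerminal.hom_ext (_ ≫ _) (IsTerminal.from specULiftZIsTerminal (model p.1.1.2))]
    exact locallyOfFiniteType_model p.1.1.2
  haveI := locallyOfFiniteType_of_comp (arr hσ p.2 p.1.2.2 p.1.1.2) (IsTerminal.from specULiftZIsTerminal _)
  exact ⟨inferInstance, inferInstance, inferInstance⟩

/-- The stages of the relative approximation. -/
noncomputable abbrev stage (p : AIdx hσ) : Scheme.{u} :=
  pullback (arr hσ p.2 p.1.2.2 p.1.1.2) (toModel p.1.2.2)

/-- The transition maps of the stages. -/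
noncomputable def stageMap {p q : AIdx hσ} (h : p ≤ q) : stage hσ q ⟶ stage hσ p :=
  pullback.map _ _ _ _ (trans h.1 p.1.1.2 q.1.1.2) (𝟙 S) (trans h.2 p.1.2.2 q.1.2.2)
    (trans_arr hσ h.2 h.1 p.2 q.2 _ _ _ _).symm (by rw [Category.id_comp, toModel_trans])

theorem stageMap_fst {p q : AIdx hσ} (h : p ≤ q) :
    stageMap hσ h ≫ pullback.fst _ _ = pullback.fst _ _ ≫ trans h.1 p.1.1.2 q.1.1.2 :=
  pullback.lift_fst _ _ _

theorem stageMap_snd {p q : AIdx hσ} (h : p ≤ q) :
    stageMap hσ h ≫ pullback.snd _ _ = pullback.snd _ _ :=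
  (pullback.lift_snd _ _ _).trans (Category.comp_id _)

theorem isAffineHom_stageMap {p q : AIdx hσ} (h : p ≤ q) : IsAffineHom (stageMap hσ h) := by
  let a := trans h.1 p.1.1.2 q.1.1.2
  let c := trans h.2 p.1.2.2 q.1.2.2
  haveI : IsAffineHom a := isAffineHom_trans _ _ _
  haveI : IsAffineHom c := isAffineHom_trans _ _ _
  have hc : arr hσ q.2 q.1.2.2 q.1.1.2 ≫ c = a ≫ arr hσ p.2 p.1.2.2 p.1.1.2 :=
    (trans_arr hσ h.2 h.1 p.2 q.2 _ _ _ _).symm
  let g₁ : stage hσ q ⟶ pullback (arr hσ q.2 q.1.2.2 q.1.1.2 ≫ c) (toModel q.1.2.2 ≫ c) :=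
    pullback.mapDesc _ _ c
  let g₂ : pullback (arr hσ q.2 q.1.2.2 q.1.1.2 ≫ c) (toModel q.1.2.2 ≫ c) ⟶ stage hσ p :=
    pullback.map _ _ _ _ a (𝟙 S) (𝟙 _) (by rw [Category.comp_id, hc])
      (by rw [Category.comp_id, Category.id_comp, toModel_trans])
  have e : stageMap hσ h = g₁ ≫ g₂ := by
    apply pullback.hom_ext
    · simp [g₁, g₂, stageMap, a]
    · simp [g₁, g₂, stageMap]
  haveI : IsAffineHom g₂ := MorphismProperty.pullbackMap (P := @IsAffineHom) (by assumption)
    (inferInstance : IsAffineHom (𝟙 S)) hc (by rw [Category.id_comp, toModel_trans])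
  rw [e]
  infer_instance

variable {T : Scheme.{u}} (j : S ⟶ T)

/-- The system of the relative approximation. -/
noncomputable def relSys : (AIdx hσ)ᵒᵖ ⥤ Over T where
  obj p := Over.mk (pullback.snd (arr hσ p.unop.2 p.unop.1.2.2 p.unop.1.1.2) (toModel p.unop.1.2.2) ≫ j)
  map {p q} a := Over.homMk (stageMap hσ a.unop.le) (by
    show stageMap hσ a.unop.le ≫ pullback.snd _ _ ≫ j = _
    rw [← Category.assoc, stageMap_snd]
    rfl)
  map_id p := by
    ext1
    show stageMap hσ (le_refl p.unop) = 𝟙 _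
    apply pullback.hom_ext
    · rw [stageMap_fst, Category.id_comp, trans_self, Category.comp_id]
    · rw [stageMap_snd, Category.id_comp]
  map_comp {p q r} a b := by
    ext1
    show stageMap hσ (b.unop.le.trans a.unop.le) = stageMap hσ a.unop.le ≫ stageMap hσ b.unop.le
    apply pullback.hom_ext
    · rw [stageMap_fst, Category.assoc, stageMap_fst, ← Category.assoc, stageMap_fst, Category.assoc,
        trans_trans]
    · rw [stageMap_snd, Category.assoc, stageMap_snd, stageMap_snd]

/-- The morphism from `X` to a stage. -/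
noncomputable def toStage (p : AIdx hσ) : X ⟶ stage hσ p :=
  pullback.lift (toModel p.1.1.2) f (toModel_arr hσ p.2 p.1.2.2 p.1.1.2)

/-- The cone with vertex `X`. -/
noncomputable def relCone : Cone (relSys hσ j) where
  pt := Over.mk (f ≫ j)
  π :=
    { app := fun p => Over.homMk (toStage hσ p.unop) (by
        show toStage hσ p.unop ≫ pullback.snd _ _ ≫ j = f ≫ j
        rw [toStage, pullback.lift_snd_assoc])
      naturality := fun p q a => by
        ext1
        show 𝟙 X ≫ toStage hσ q.unop = toStage hσ p.unop ≫ stageMap hσ a.unop.le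
        rw [Category.id_comp]
        apply pullback.hom_ext
        · rw [Category.assoc, stageMap_fst, toStage, toStage, pullback.lift_fst, pullback.lift_fst_assoc,
            toModel_trans]
        · rw [Category.assoc, stageMap_snd, toStage, toStage, pullback.lift_snd, pullback.lift_snd] }

theorem exists_lift_rel [Mono j] (s : Cone (relSys hσ j)) :
    ∃ m : s.pt.left ⟶ X, m ≫ f ≫ j = s.pt.hom ∧
      ∀ p : AIdx hσ, m ≫ toStage hσ p = (s.π.app (op p)).left := by
  let a : ∀ p : AIdx hσ, s.pt.left ⟶ stage hσ p := fun p => (s.π.app (op p)).left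
  have ha : ∀ p, a p ≫ pullback.snd _ _ ≫ j = s.pt.hom := fun p => Over.w (s.π.app (op p))
  have hw : ∀ (p q : (AIdx hσ)ᵒᵖ) (g : p ⟶ q), a p.unop ≫ stageMap hσ g.unop.le = a q.unop :=
    fun p q g => congr(($(s.w g)).left)
  let c : Cone (srcSys hσ) :=
    { pt := s.pt.left
      π := { app := fun p => a p.unop ≫ pullback.fst _ _
             naturality := fun p q g => by
               show 𝟙 _ ≫ a q.unop ≫ pullback.fst _ _ =
                 (a p.unop ≫ pullback.fst _ _) ≫ trans g.unop.le.1 _ _
               rw [Category.id_comp, ← hw p q g, Category.assoc, Category.assoc, stageMap_fst] } }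
  let m : s.pt.left ⟶ X := (isLimitSrc hσ).lift c
  have hm : ∀ p : AIdx hσ, m ≫ toModel p.1.1.2 = a p ≫ pullback.fst _ _ :=
    fun p => (isLimitSrc hσ).fac c (op p)
  obtain ⟨p₀⟩ : Nonempty (AIdx hσ) := inferInstance
  have hsnd : ∀ p, a p ≫ pullback.snd _ _ = a p₀ ≫ pullback.snd _ _ := fun p => by
    rw [← cancel_mono j, Category.assoc, Category.assoc, ha, ha]
  have hmf : m ≫ f = a p₀ ≫ pullback.snd _ _ := (isLimitTgt hσ).hom_ext fun p => by
    show (m ≫ f) ≫ toModel p.unop.1.2.2 = (a p₀ ≫ pullback.snd _ _) ≫ toModel p.unop.1.2.2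
    rw [Category.assoc, ← toModel_arr hσ p.unop.2 p.unop.1.2.2 p.unop.1.1.2, ← Category.assoc, hm,
      Category.assoc, pullback.condition, ← Category.assoc, hsnd]
  refine ⟨m, by rw [← Category.assoc, hmf, Category.assoc, ha], fun p => ?_⟩
  apply pullback.hom_ext
  · rw [Category.assoc, toStage, pullback.lift_fst]; exact hm p
  · rw [Category.assoc, toStage, pullback.lift_snd, hmf, ← hsnd p]

/-- `X` is the limit of the stages. -/
noncomputable def isLimitRel [Mono j] : IsLimit (relCone hσ j) where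
  lift s := Over.homMk (exists_lift_rel hσ j s).choose (exists_lift_rel hσ j s).choose_spec.1
  fac s p := Over.OverMorphism.ext ((exists_lift_rel hσ j s).choose_spec.2 p.unop)
  uniq s m hm := Over.OverMorphism.ext <| (isLimitSrc hσ).hom_ext fun p => by
    have h1 : m.left ≫ toStage hσ p.unop = (s.π.app p).left := congr(($(hm p)).left)
    have h2 := (exists_lift_rel hσ j s).choose_spec.2 p.unop
    have h3 := congrArg (· ≫ pullback.fst _ _) (h1.trans h2.symm)
    simp only [Category.assoc, toStage, pullback.lift_fst] at h3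
    exact h3

end GrothLib.AbsApprox.Cov
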