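import Groth.Agent.Lib.AbsApprox.Rel
import Mathlib.AlgebraicGeometry.Morphisms.OpenImmersion

/-!
# Relative approximation, packaged
-/

set_option autoImplicit false
set_option backward.isDefEq.respectTransparency false

universe u

open CategoryTheory CategoryTheory.Limits AlgebraicGeometry TopologicalSpace Opposite

namespace GrothLib.AbsApprox

variable {X S : Scheme.{u}}

/-- Every qcqs scheme over a quasi-separated scheme is a limit of schemes of finite presentation
with affine transition morphisms and affine projections. -/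
theorem exists_rel_approx (f : X ⟶ S) [CompactSpace X] [QuasiSeparatedSpace X] [QuasiSeparatedSpace S] :
    ∃ (I : Type u) (_ : Preorder I) (_ : IsDirected I (fun a b => a ≤ b)) (_ : Nonempty I)
      (D : Iᵒᵖ ⥤ Over S) (π : (Functor.const Iᵒᵖ).obj (Over.mk f) ⟶ D)
      (_ : IsLimit (Cone.mk (Over.mk f) π)),
      (∀ i, LocallyOfFinitePresentation (D.obj i).hom ∧ QuasiCompact (D.obj i).hom ∧
        QuasiSeparated (D.obj i).hom ∧ CompactSpace (D.obj i).left ∧ QuasiSeparatedSpace (D.obj i).left) ∧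
      (∀ (i j : Iᵒᵖ) (a : i ⟶ j), IsAffineHom (D.map a).left) ∧
      (∀ i, IsAffineHom (π.app i).left) := by
  classical
  obtain ⟨t, ht⟩ := (isCompact_range f.continuous).elim_finite_subcover
    (fun U : S.affineOpens => (U.1 : Set S)) (fun U => U.1.2) (fun x _ => by
      obtain ⟨_, ⟨U, hU, rfl⟩, hx, -⟩ := S.isBasis_affineOpens.exists_subset_of_mem_open (Set.mem_univ x) isOpen_univ
      exact Set.mem_iUnion.2 ⟨⟨U, hU⟩, hx⟩)
  let S' : S.Opens := ⨆ U : t, U.1.1
  have hS'c : IsCompact (S' : Set S) := by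
    simp only [S', Opens.coe_iSup]
    exact isCompact_iUnion fun U => U.1.2.isCompact
  have hr : Set.range f ⊆ Set.range S'.ι := by
    rw [Scheme.Opens.range_ι]
    intro x hx
    obtain ⟨U, hU, hxU⟩ := Set.mem_iUnion₂.1 (ht hx)
    exact Opens.mem_iSup.2 ⟨⟨U, hU⟩, hxU⟩
  let f' := IsOpenImmersion.lift S'.ι f hr
  have hf' : f' ≫ S'.ι = f := IsOpenImmersion.lift_fac _ _ _
  haveI : CompactSpace S'.toScheme := isCompact_iff_compactSpace.1 hS'c
  haveI : QuasiSeparatedSpace S'.toScheme := S'.ι.isOpenEmbedding.quasiSeparatedSpace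
  haveI : QuasiCompact S'.ι := inferInstance
  obtain ⟨𝒱⟩ := nonempty_cov (S := S'.toScheme)
  obtain ⟨𝒲, σ, hσ⟩ := exists_refine f' 𝒱
  clear_value f'
  subst hf'
  refine ⟨Cov.AIdx hσ, inferInstance, inferInstance, inferInstance, Cov.relSys hσ S'.ι,
    (Cov.relCone hσ S'.ι).π, Cov.isLimitRel hσ S'.ι, fun i => ?_, fun i j a => Cov.isAffineHom_stageMap hσ a.unop.le, fun i => ?_⟩
  · obtain ⟨h1, h2, h3⟩ := Cov.arr_fp hσ i.unop
    let p := pullback.snd (Cov.arr hσ i.unop.2 i.unop.1.2.2 i.unop.1.1.2) (Cov.toModel i.unop.1.2.2)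
    haveI : LocallyOfFinitePresentation p := MorphismProperty.pullback_snd _ _ h1
    haveI : QuasiCompact p := MorphismProperty.pullback_snd _ _ h2
    haveI : QuasiSeparated p := MorphismProperty.pullback_snd _ _ h3
    refine ⟨inferInstanceAs (LocallyOfFinitePresentation (p ≫ S'.ι)), inferInstanceAs (QuasiCompact (p ≫ S'.ι)),
      inferInstanceAs (QuasiSeparated (p ≫ S'.ι)), QuasiCompact.compactSpace_of_compactSpace p, ?_⟩
    exact quasiSeparatedSpace_of_quasiSeparated p
  · let p := i.unop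
    haveI : IsAffineHom (Cov.toModel p.1.1.2) := Cov.isAffineHom_toModel _
    haveI : IsAffineHom (Cov.toModel p.1.2.2) := Cov.isAffineHom_toModel _
    haveI : IsAffineHom (pullback.fst (Cov.arr hσ p.2 p.1.2.2 p.1.1.2) (Cov.toModel p.1.2.2)) :=
      MorphismProperty.pullback_fst _ _ inferInstance
    haveI : IsAffineHom (Cov.toStage hσ p ≫ pullback.fst (Cov.arr hσ p.2 p.1.2.2 p.1.1.2) (Cov.toModel p.1.2.2)) := by
      rw [Cov.toStage, pullback.lift_fst]; infer_instance
    exact MorphismProperty.of_postcomp @IsAffineHom (W' := @IsSeparated) (Cov.toStage hσ p)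
      (pullback.fst (Cov.arr hσ p.2 p.1.2.2 p.1.1.2) (Cov.toModel p.1.2.2)) inferInstance inferInstance

end GrothLib.AbsApprox
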